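import Cfsg.Agent.C34.Base1
import Cfsg.Agent.L43.Gen
import Cfsg.Agent.H59.MaxFus

set_option autoImplicit false
set_option linter.unusedSectionVars false

namespace Cfsg.Agent.C34

open Cfsg Cfsg.Agent.H49 Subgroup

universe u

variable {G : Type u} [Group G] [Finite G]

variable {P : Subgroup G} {y s r : G}

namespace Fr

variable (f : Fr P y) (h : Hyp G)
include f h

theorem sylow {M : Subgroup G} (hM : P ≤ M) : IsSylowOf 3 P M :=
  sylowOf_of_max (isPi_of_isPGroup pr3 f.three) hM fun Q h1 _ h3 =>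
    (eq_of_le_of_card_ge h1 (f.card ▸ Nat.le_of_dvd (by norm_num) (h.card_three (h3.isPGroup pr3)))).ge

theorem mem_C (hs : s ∈ P) (s1 : s ≠ 1) {x : G} (hx : x * s = s * x) : ∃ v ∈ V s, ∃ p ∈ P, x = v * p := by
  have o := f.ord hs s1
  have d : V s ⊓ P = ⊥ := eq_bot_iff.2 fun a ha => f.eq_one_of_two (h.V_two o) ha.1 ha.2
  have e : V s ⊔ P = 𝒞[s] := eq_of_le_of_card_eq (sup_le (h.V_le o) (f.ab.trans (cent_le_cent1 hs)))
    (by rw [card_sup_of_disjoint (Or.inr (f.P_V hs)) d, h.card_C o, f.card, mul_comm])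
  exact (mem_sup_of_norm_left (f.P_V hs)).1 (e ▸ mem_cent1.2 hx)

theorem fpf (hs : s ∈ P) (s1 : s ≠ 1) (hr : r ∈ P) (hi : r ∉ zpowers s) {v : G} (hv : v ∈ V s)
    (hc : v * r = r * v) : v = 1 := h.fpf (f.ord hs s1) (f.comm hr hs) (f.cube r hr) hi hv hc

theorem disj (hs : s ∈ P) (s1 : s ≠ 1) (hr : r ∈ P) (hi : r ∉ zpowers s) : V s ⊓ 𝒞[r] = ⊥ :=
  eq_bot_iff.2 fun _ hv => f.fpf h hs s1 hr hi hv.1 (mem_cent1.1 hv.2)

theorem V_ne (hs : s ∈ P) (s1 : s ≠ 1) (hr : r ∈ P) (hi : r ∉ zpowers s) (h0 : V s ≠ ⊥) : V r ≠ V s :=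
  fun e => h0 (by
    rw [← f.disj h hs s1 hr hi, inf_eq_left.2]
    exact e ▸ h.V_le (f.ord hr fun k => hi (k ▸ one_mem _)))

theorem V_elts (hs : s ∈ P) (s1 : s ≠ 1) (hr : r ∈ P) (hi : r ∉ zpowers s) {v w : G} (hv : v ∈ V s)
    (v1 : v ≠ 1) (hw : w ∈ V s) : v * (r * v * r⁻¹) = r⁻¹ * v * r ∧
      (w = 1 ∨ w = v ∨ w = r * v * r⁻¹ ∨ w = r⁻¹ * v * r) := by
  have o := f.ord hs s1
  have m1 := conj_mem_of_norm (f.P_V hs) hr hv
  have m2 := conj_mem_of_norm' (f.P_V hs) hr hv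
  have n1 : v ≠ r * v * r⁻¹ := fun e => v1 (f.fpf h hs s1 hr hi hv (eq_mul_inv_iff_mul_eq.1 e))
  have n2 : v ≠ r⁻¹ * v * r := fun e => n1 (by nth_rw 2 [e]; group)
  have r3 : r⁻¹ = r * r := inv_eq_of_mul_eq_one_right (by rw [← f.cube r hr, pow_three])
  have n3 : r * v * r⁻¹ ≠ r⁻¹ * v * r := fun e => n2 (by
    calc v = r⁻¹ * (r * v * r⁻¹) * r := by group
      _ = (r * r)⁻¹ * v * (r * r) := by rw [e]; group
      _ = r * v * r⁻¹ := by rw [← r3, inv_inv]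
      _ = _ := e)
  have k : ∀ w ∈ V s, w = 1 ∨ w = v ∨ w = r * v * r⁻¹ ∨ w = r⁻¹ * v * r := fun w hw =>
    four_elts (h.V_four o (ne_bot_iff_exists.2 ⟨v, hv, v1⟩)).le hv m1 m2 hw v1 (by simpa using v1)
      (fun e => v1 (by
        calc v = r * (r⁻¹ * v * r) * r⁻¹ := by group
          _ = 1 := by rw [e]; group)) n1 n2 n3
  refine ⟨?_, k w hw⟩
  rcases k _ (mul_mem hv m1) with e | e | e | e
  · exact absurd (mul_left_cancel ((h.V_sq o hv).trans e.symm)) n1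
  · exact absurd (by simpa using e) v1
  · exact absurd (by simpa using e) v1
  · exact e

/-- `r` is transitive on the involutions of `V s` -/
theorem trans (hs : s ∈ P) (s1 : s ≠ 1) (hr : r ∈ P) (hi : r ∉ zpowers s) {v w : G} (hv : v ∈ V s)
    (v1 : v ≠ 1) (hw : w ∈ V s) (w1 : w ≠ 1) : ∃ p ∈ zpowers r, p * v * p⁻¹ = w := by
  rcases (f.V_elts h hs s1 hr hi hv v1 hw).2 with e | e | e | e
  · exact absurd e w1
  · exact ⟨1, one_mem _, by simp [e]⟩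
  · exact ⟨r, mem_zpowers r, e.symm⟩
  · exact ⟨r⁻¹, inv_mem (mem_zpowers r), by simp [e]⟩

theorem irr (hs : s ∈ P) (s1 : s ≠ 1) {W : Subgroup G} (hW : P ≤ 𝒩(W)) : V s ≤ W ∨ V s ⊓ W = ⊥ := by
  refine or_iff_not_imp_right.2 fun k w hw => ?_
  obtain ⟨v, hv, v1⟩ := ne_bot_iff_exists.1 k
  by_cases w1 : w = 1
  · exact w1 ▸ one_mem _
  obtain ⟨p, hp, rfl⟩ := f.trans h hs s1 (f.y_mem hs) (f.y_ind hs s1) hv.1 v1 hw w1
  exact conj_mem_of_norm hW (zpowers_le.2 (f.y_mem hs) hp) hv.2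

/-- one commuting pair makes `V s` and `V r` commute -/
theorem pair (hs : s ∈ P) (s1 : s ≠ 1) (hr : r ∈ P) (hi : r ∉ zpowers s) {v w : G} (hv : v ∈ V s)
    (v1 : v ≠ 1) (hw : w ∈ V r) (w1 : w ≠ 1) (hc : v * w = w * v) : V r ≤ 𝒞(V s) := by
  have r1 : r ≠ 1 := fun e => hi (e ▸ one_mem _)
  have k : ∀ {a p x : G}, a ∈ P → a ≠ 1 → p ∈ zpowers a → x ∈ V a → p * x * p⁻¹ = x := fun ha a1 hp hx => by
    have := h.V_le (f.ord ha a1) hx
    rw [← cent_zpowers] at this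
    rw [this _ hp]; group
  refine le_cent_iff.2 fun w' hw' v' hv' => ?_
  by_cases w2 : w' = 1
  · simp [w2]
  by_cases v2 : v' = 1
  · simp [v2]
  obtain ⟨p, hp, e1⟩ := f.trans h hs s1 hr hi hv v1 hv' v2
  obtain ⟨q, hq, e2⟩ := f.trans h hr r1 hs (f.ind_symm hs s1 hr hi) hw w1 hw' w2
  have h1 : v' * w = w * v' := by
    rw [← e1, ← k hr r1 hp hw]
    calc _ = p * (v * w) * p⁻¹ := by group
      _ = _ := by rw [hc]; group
  rw [← e2, ← k hs s1 hq hv']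
  calc _ = q * (v' * w) * q⁻¹ := by group
    _ = _ := by rw [h1]; group

theorem exists_t' (hs : s ∈ P) (s1 : s ≠ 1) (h0 : V s ≠ ⊥) : ∃ t ∈ V s, t ≠ 1 ∧ t * (y * y) = y * y * t ∧
    (∀ v ∈ V s, v = 1 ∨ v = t ∨ v * (y * y) * v⁻¹ * (y * y)⁻¹ = t) ∧
    ∃ v ∈ V s, v * (y * y) * v⁻¹ * (y * y)⁻¹ = t := by
  have o := f.ord hs s1
  have hz := f.z_V hs
  generalize e : y * y = z at *
  have z2 : z * z = 1 := e ▸ f.y4
  have zi : z⁻¹ = z := inv_eq_of_mul_eq_one_right z2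
  have vi : ∀ {v}, v ∈ V s → v⁻¹ = v := fun hv => inv_eq_of_mul_eq_one_right (h.V_sq o hv)
  have ab := le_cent_iff.1 (h.V_ab o)
  obtain ⟨v, hv, hn⟩ : ∃ v ∈ V s, z * v * z⁻¹ ≠ v := by
    by_contra! k
    obtain ⟨v, hv, v1⟩ := ne_bot_iff_exists.1 h0
    have hr := f.y_mem hs
    have hi := f.y_ind hs s1
    generalize y * s * y⁻¹ = r at hr hi
    have h1 := k _ (conj_mem_of_norm (f.P_V hs) hr hv)
    have h2 : z * r * z⁻¹ = r⁻¹ := e ▸ f.inv r hr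
    have h3 : r⁻¹ * v * r = r * v * r⁻¹ := by
      rw [← h1]
      calc r⁻¹ * v * r = (z * r * z⁻¹) * (z * v * z⁻¹) * (z * r * z⁻¹)⁻¹ := by rw [h2, k v hv, inv_inv]
        _ = _ := by group
    have h4 := (f.V_elts h hs s1 hr hi hv v1 hv).1
    rw [h3] at h4
    exact v1 (by simpa using h4)
  have m : z * v * z⁻¹ ∈ V s := (mem_normalizer_iff.1 hz v).1 hv
  have v1 : v ≠ 1 := by rintro rfl; simp at hn
  have t1 : v * (z * v * z⁻¹) ≠ 1 := fun k => hn (by rw [← inv_eq_of_mul_eq_one_right k, vi hv])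
  have c1 : v * z * v⁻¹ * z⁻¹ = v * (z * v * z⁻¹) := by rw [vi hv]; group
  refine ⟨_, mul_mem hv m, t1, ?_, fun w hw => ?_, v, hv, c1⟩
  · refine (mul_inv_eq_iff_eq_mul.1 ?_).symm
    calc _ = z * v * z⁻¹ * ((z * z) * v * (z * z)⁻¹) := by group
      _ = _ := by rw [z2, ab _ m v hv]; group
  · rcases four_elts (h.V_four o h0).le (mul_mem hv m) hv m hw t1 v1 (by simpa using v1)
      (by simpa using v1) (by simpa using v1) hn.symm with k | k | k | k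
    · exact Or.inl k
    · exact Or.inr (Or.inl k)
    · exact Or.inr (Or.inr (k ▸ c1))
    · refine Or.inr (Or.inr ?_)
      rw [k, vi m, ab _ m v hv, zi]
      calc _ = z * v * z * (z * z) * v * (z * z) := by group
        _ = _ := by rw [z2]; group

/-- the fixed point of `z = y * y` in `V s` -/
theorem exists_t (hs : s ∈ P) (s1 : s ≠ 1) (h0 : V s ≠ ⊥) : ∃ t ∈ V s, t ≠ 1 ∧ t * (y * y) = y * y * t ∧
    ∀ v ∈ V s, v = 1 ∨ v = t ∨ v * (y * y) * v⁻¹ * (y * y)⁻¹ = t :=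
  let ⟨t, a, b, c, d, _⟩ := f.exists_t' h hs s1 h0
  ⟨t, a, b, c, d⟩

theorem z_surj (hs : s ∈ P) (s1 : s ≠ 1) {w : G} (hw : w ∈ V s) (hc : w * (y * y) = y * y * w) :
    ∃ v ∈ V s, v * (y * y) * v⁻¹ * (y * y)⁻¹ = w := by
  by_cases w1 : w = 1
  · exact ⟨1, one_mem _, by simp [w1]⟩
  obtain ⟨t, -, t1, -, k, v, hv, e⟩ := f.exists_t' h hs s1 (ne_bot_iff_exists.2 ⟨w, hw, w1⟩)
  rcases k w hw with l | l | l
  · exact absurd l w1
  · exact ⟨v, hv, l ▸ e⟩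
  · exact absurd (by rw [← l, hc]; group) t1

theorem card_fix_z (hs : s ∈ P) (s1 : s ≠ 1) : Nat.card ↥(V s ⊓ 𝒞[y * y]) ≤ 2 := by
  by_cases h0 : V s = ⊥
  · simp [h0]
  obtain ⟨t, ht, t1, -, k⟩ := f.exists_t h hs s1 h0
  have : V s ⊓ 𝒞[y * y] ≤ zpowers t := fun w hw => by
    rcases k w hw.1 with l | l | l
    · exact l ▸ one_mem _
    · exact l ▸ mem_zpowers _
    · exact absurd (by rw [← l, mem_cent1.1 hw.2]; group) t1
  refine (card_le_of_le this).trans ?_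
  rw [Nat.card_zpowers]
  exact orderOf_le_of_pow_eq_one two_pos (by rw [pow_two, h.V_sq (f.ord hs s1) ht])

theorem semireg {n : G} (hn : n ∈ 𝒩(P)) (hs : s ∈ P) (s1 : s ≠ 1) (hc : n * s = s * n) : n ∈ P := by
  obtain ⟨v, hv, p, hp, rfl⟩ := f.mem_C h hs s1 hc
  have hr := f.y_mem hs
  have hi := f.y_ind hs s1
  generalize y * s * y⁻¹ = r at hr hi
  have h1 : v ∈ 𝒩(P) := (mul_mem_cancel_right (le_normalizer hp)).1 hn
  have h2 : v * r * v⁻¹ * r⁻¹ = 1 := f.eq_one_of_two (h.V_two (f.ord hs s1)) (by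
    rw [show v * r * v⁻¹ * r⁻¹ = v * (r * v⁻¹ * r⁻¹) by group]
    exact mul_mem hv (conj_mem_of_norm (f.P_V hs) hr (inv_mem hv)))
    (mul_mem ((mem_normalizer_iff.1 h1 r).1 hr) (inv_mem hr))
  rw [f.fpf h hs s1 hr hi hv (by rw [← one_mul (r * v), ← h2]; group), one_mul]
  exact hp

/-- an element of `N(P)` outside `P⟨z⟩` fixes none of the four subgroups -/
theorem idx {n : G} (hn : n ∈ 𝒩(P)) (hs : s ∈ P) (s1 : s ≠ 1) (hc : n * s * n⁻¹ ∈ zpowers s) :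
    n ∈ P ∨ n * (y * y) ∈ P := by
  rcases zp3 (f.cube s hs) hc with e | e | e
  · exact absurd (by simpa using e) s1
  · exact Or.inl (f.semireg h hn hs s1 (mul_inv_eq_iff_eq_mul.1 e))
  · refine Or.inr (f.semireg h (mul_mem hn (mul_mem f.ny f.ny)) hs s1 (mul_inv_eq_iff_eq_mul.1 ?_))
    calc _ = n * (y * y * s * (y * y)⁻¹) * n⁻¹ := by group
      _ = (n * s * n⁻¹)⁻¹ := by rw [f.inv s hs]; group
      _ = s := by rw [e, inv_inv]

theorem idxV {n : G} (hn : n ∈ 𝒩(P)) (hs : s ∈ P) (s1 : s ≠ 1) (h0 : V s ≠ ⊥) (hc : n ∈ 𝒩(V s)) :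
    n ∈ P ∨ n * (y * y) ∈ P :=
  f.idx h hn hs s1 (by_contra fun k => f.V_ne h hs s1 ((mem_normalizer_iff.1 hn s).1 hs) k h0
    (by rw [← V_cj, cj_eq_of_mem_norm hc]))

omit h in
theorem mul_z {n : G} (hn : n * (y * y) ∈ P) : ∃ p ∈ P, n = p * (y * y) :=
  ⟨_, hn, by rw [mul_assoc, f.y4, mul_one]⟩

theorem invol {n : G} (hn : n ∈ 𝒩(P)) (n2 : n * n = 1) (n1 : n ≠ 1) :
    ∃ p ∈ P, n = p * (y * y) * p⁻¹ := by
  have nP : n ∉ P := fun k => n1 (f.eq_one_of_two (D := zpowers n)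
    (H36.isPGroup_zpowers (k := 1) (by simpa [pow_two] using n2)) (mem_zpowers n) k)
  obtain ⟨s, hs, s1⟩ := f.exists_ne
  have m := (mem_normalizer_iff.1 hn s).1 hs
  have e : s * (n * s * n⁻¹) = 1 := by_contra fun k => nP (f.semireg h hn (mul_mem hs m) k (by
    nth_rw 1 [f.comm hs m]
    calc n * (n * s * n⁻¹ * s) = (n * n) * s * (n * n)⁻¹ * (n * s * n⁻¹) * n := by group
      _ = _ := by rw [n2]; group))
  rcases f.idx h hn hs s1 (by rw [← inv_eq_of_mul_eq_one_right e]; exact inv_mem (mem_zpowers s)) with k | k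
  · exact absurd k nP
  obtain ⟨p, hp, rfl⟩ := f.mul_z k
  refine ⟨p * p, mul_mem hp hp, ?_⟩
  have h1 := f.inv _ (inv_mem (mul_mem hp hp))
  calc p * (y * y) = p ^ 3 * p * (y * y) := by rw [f.cube p hp, one_mul]
    _ = p * p * ((p * p)⁻¹)⁻¹ * (y * y) := by group
    _ = _ := by rw [← h1]; group

/-- a subgroup of `N(P)` meeting `P` trivially has order dividing 8 -/
theorem card_dvd_eight {K : Subgroup G} (hK : K ≤ 𝒩(P)) (dj : K ⊓ P = ⊥) : Nat.card K ∣ 8 := by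
  have := H3.relIndex_dvd_card_sub_one (K := ⊥) hK fun s hs s1 n hn =>
    dj.le ⟨hn.1, f.semireg h (hK hn.1) hs s1 (mem_cent1.1 hn.2)⟩
  rwa [relIndex_bot_left, f.card] at this

theorem card_norm : Nat.card 𝒩(P) ∣ 72 := by
  have := H3.relIndex_dvd_card_sub_one (K := P) (le_refl 𝒩(P)) fun s hs s1 n hn =>
    f.semireg h hn.1 hs s1 (mem_cent1.1 hn.2)
  rw [← card_mul_relIndex (le_normalizer (H := P)), f.card] at *
  exact Nat.mul_dvd_mul_left 9 this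

theorem inf_C_le {K : Subgroup G} (h3 : ¬ 3 ∣ Nat.card K) (hs : s ∈ P) (s1 : s ≠ 1) : K ⊓ 𝒞[s] ≤ V s :=
  fun x hx => by
    have o := f.ord hs s1
    have h1 : (orderOf x).Coprime 3 := ((pr3.coprime_iff_not_dvd).2 fun k =>
      h3 (k.trans (K.orderOf_dvd_natCard hx.1))).symm
    have h2 := orderOf_dvd_of_pow_eq_one (h.pow_six o (mem_cent1.1 hx.2))
    exact h.mem_V_two (k := 1) o (orderOf_dvd_iff_pow_eq_one.1 (h1.dvd_of_dvd_mul_right h2)) (mem_cent1.1 hx.2)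

theorem gen' {K L : Subgroup G} (hK : P ≤ 𝒩(K)) (h3 : ¬ 3 ∣ Nat.card K)
    (hL : ∀ s ∈ P, s ≠ 1 → V s ≤ K → V s ≤ L) : K ≤ L := by
  have := Fact.mk pr3
  refine H46.le_of_forall_element f.three (abelian_iff.2 f.ab) f.ncyc h3 hK fun s hs s1 => ?_
  rcases f.irr h hs s1 hK with k | k
  · exact (f.inf_C_le h h3 hs s1).trans (hL s hs s1 k)
  · exact fun x hx => by rw [show x = 1 from k.le ⟨f.inf_C_le h h3 hs s1 hx, hx.1⟩]; exact one_mem _

theorem two_of_norm {K : Subgroup G} (hK : P ≤ 𝒩(K)) (h3 : ¬ 3 ∣ Nat.card K) : IsPGroup 2 K := by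
  refine IsPi.isPGroup (isPi_iff.2 fun q hq hd => by_contra fun q2 => ?_) pr2
  have := Fact.mk pr3
  have := Fact.mk hq
  obtain ⟨Q, hQ⟩ := H46.exists_invariant_sylow f.three h3 hK q
  have h1 := sylowOf_map hq Q
  refine h1.ne_bot hq rfl hd (eq_bot_iff.2 (f.gen' h hQ (H46.not_dvd_card_of_le h3 h1.le) fun s hs s1 k => ?_))
  exact ((isPi_of_isPGroup pr2 (h.V_two (f.ord hs s1))).eq_bot
    ((h1.pi.of_le k).compl_singleton_of_ne q2)).le

/-- a `P`-invariant 2-group is generated by the `V s` it contains -/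
theorem gen {K L : Subgroup G} (hK : P ≤ 𝒩(K)) (h2 : IsPGroup 2 K)
    (hL : ∀ s ∈ P, s ≠ 1 → V s ≤ K → V s ≤ L) : K ≤ L := f.gen' h hK (not_three h2) hL

omit h in
theorem sgn {n : G} (hn : n ∈ P ∨ n * (y * y) ∈ P) :
    (∀ x ∈ P, n * x * n⁻¹ = x) ∨ ∀ x ∈ P, n * x * n⁻¹ = x⁻¹ := by
  refine hn.imp (fun k x hx => by rw [f.comm k hx]; group) fun k x hx => ?_
  obtain ⟨p, hp, rfl⟩ := f.mul_z k
  calc _ = p * (y * y * x * (y * y)⁻¹) * p⁻¹ := by group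
    _ = _ := by rw [f.inv x hx, f.comm hp (inv_mem hx)]; group

/-- Smith--Tyrer -/
theorem st {M L : Subgroup G} (hM : P ≤ M) (hn : ∀ n ∈ M, n ∈ 𝒩(P) → n ∈ P ∨ n * (y * y) ∈ P)
    (PL : P ≤ L) (zL : y * y ∈ L) (hL : ∀ s ∈ P, s ≠ 1 → V s ≤ M → V s ≤ L) : M ≤ L := by
  have := Fact.mk pr3
  refine L43.pm_le (p := 3) (by decide) hM f.three (fun x hx w hw => f.comm hx hw) f.ncyc
    (fun g hg h1 k hk => ?_) (fun g hg h1 => f.sgn (hn g hg h1))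
    (fun g hg h1 => (hn g hg h1).elim (fun k => PL k) fun k => (mul_mem_cancel_right zL).1 (PL k))
    fun d hd d1 g hg hc => ?_
  · exact (f.sylow h hM).le_of_norm (zpowers_le.2 hg) (isPi_of_isPGroup pr3 (H36.isPGroup_zpowers hk))
      (Or.inl (zpowers_le.2 h1)) (mem_zpowers g)
  · obtain ⟨v, hv, p, hp, rfl⟩ := f.mem_C h hd d1 hc
    refine mul_mem ?_ (PL hp)
    rcases f.irr h hd d1 (norm_of_le hM) with k | k
    · exact hL d hd d1 k hv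
    · rw [show v = 1 from k.le ⟨hv, (mul_mem_cancel_right (hM hp)).1 hg⟩]; exact one_mem _

end Fr

end Cfsg.Agent.C34
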