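import Cfsg.Agent.C34.Gen
import Cfsg.Agent.C34.Base2
import Cfsg.Agent.H97.SETop
import Cfsg.Agent.S1169

set_option autoImplicit false
set_option linter.unusedSectionVars false

namespace Cfsg.Agent.C34

open Cfsg Cfsg.Agent.H49 Subgroup

universe u

variable {G : Type u} [Group G] [Finite G]

variable {P : Subgroup G} {y s r : G}

namespace Fr

variable (f : Fr P y) (h : Hyp G)
include f h

theorem mem_zp (hs : s ∈ P) (s1 : s ≠ 1) (h0 : V s ≠ ⊥) {p : G} (hp : p ∈ P) (hc : p ∈ 𝒞(V s)) :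
    p ∈ zpowers s := by_contra fun k => h0 (by
  rw [← f.disj h hs s1 hp k, inf_eq_left.2 (le_cent1_iff.2 hc)])

theorem norm_zp (hs : s ∈ P) (s1 : s ≠ 1) {g : G} (hg : g ∈ 𝒩(zpowers s)) :
    ∃ v ∈ V s, ∃ p ∈ P, g = v * p ∨ g = v * p * (y * y) := by
  rcases zp3 (f.cube s hs) ((mem_normalizer_iff.1 hg s).1 (mem_zpowers s)) with e | e | e
  · exact absurd (by simpa using e) s1
  · obtain ⟨v, hv, p, hp, k⟩ := f.mem_C h hs s1 (mul_inv_eq_iff_eq_mul.1 e)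
    exact ⟨v, hv, p, hp, Or.inl k⟩
  · obtain ⟨v, hv, p, hp, k⟩ := f.mem_C h hs s1 (x := g * (y * y)) (mul_inv_eq_iff_eq_mul.1 (by
      calc _ = g * (y * y * s * (y * y)⁻¹) * g⁻¹ := by group
        _ = (g * s * g⁻¹)⁻¹ := by rw [f.inv s hs]; group
        _ = s := by rw [e, inv_inv]))
    exact ⟨v, hv, p, hp, Or.inr (by rw [← k, mul_assoc, f.y4, mul_one])⟩

theorem CV_norm (hs : s ∈ P) (s1 : s ≠ 1) (h0 : V s ≠ ⊥) {g : G} (hg : g ∈ 𝒞(V s) ⊓ 𝒩(zpowers s)) :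
    ∃ v ∈ V s, ∃ p ∈ zpowers s, g = v * p := by
  have o := f.ord hs s1
  obtain ⟨v, hv, p, hp, rfl | rfl⟩ := f.norm_zp h hs s1 hg.2
  · exact ⟨v, hv, p, f.mem_zp h hs s1 h0 hp ((mul_mem_cancel_left (h.V_ab o hv)).1 hg.1), rfl⟩
  exfalso
  have h1 : p * (y * y) ∈ 𝒞(V s) := (mul_mem_cancel_left (h.V_ab o hv)).1 (mul_assoc v p _ ▸ hg.1)
  obtain ⟨w, hw, w1⟩ := ne_bot_iff_exists.1 h0
  have hr := f.y_mem hs
  have hi := f.y_ind hs s1
  generalize y * s * y⁻¹ = r at hr hi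
  have h2 : p * (y * y) * r * (p * (y * y))⁻¹ = r⁻¹ := by
    calc _ = p * (y * y * r * (y * y)⁻¹) * p⁻¹ := by group
      _ = _ := by rw [f.inv r hr, f.comm hp (inv_mem hr)]; group
  generalize p * (y * y) = z at h1 h2
  have k : ∀ a ∈ V s, z * a * z⁻¹ = a := fun a ha => by rw [← h1 a ha]; group
  have h3 : r⁻¹ * w * r = r * w * r⁻¹ := by
    rw [← k _ (conj_mem_of_norm (f.P_V hs) hr hw)]
    calc r⁻¹ * w * r = (z * r * z⁻¹) * (z * w * z⁻¹) * (z * r * z⁻¹)⁻¹ := by rw [h2, k w hw, inv_inv]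
      _ = _ := by group
  have h4 := (f.V_elts h hs s1 hr hi hw w1 hw).1
  rw [h3] at h4
  exact w1 (by simpa using h4)

theorem sylow_CV (hs : s ∈ P) (s1 : s ≠ 1) (h0 : V s ≠ ⊥) : IsSylowOf 3 (zpowers s) 𝒞(V s) := by
  have o := f.ord hs s1
  have h1 : zpowers s ≤ 𝒞(V s) := zpowers_le.2 (le_cent1_iff.1 (h.V_le o))
  refine sylowOf_of_sylowOf_norm h1 (sylowOf_of_max
    (isPi_of_card_eq_prime pr3 (by rw [Nat.card_zpowers, o])) (le_inf h1 le_normalizer) fun R _ hR h3 g hg => ?_)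
  obtain ⟨v, hv, p, hp, rfl⟩ := f.CV_norm h hs s1 h0 (hR hg)
  have c : Commute v p := (h1 hp v hv)
  have e : (v * p) ^ 3 = v := by
    rw [c.mul_pow, f.cube p (zpowers_le.2 hs hp), mul_one, pow_three, h.V_sq o hv, mul_one]
  have : v = 1 := ((isPi_of_isPGroup pr2 (h.V_two o)).elt hv).eq_one
    (e ▸ ((h3.compl_singleton_of_ne (q := 2) (by decide)).elt hg).pow 3)
  simpa [this] using hp

theorem P_NN (hs : s ∈ P) : P ≤ 𝒩(NN s) := (f.P_V hs).trans (norm_NN s)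

theorem prod_CV (hs : s ∈ P) (s1 : s ≠ 1) (h0 : V s ≠ ⊥) : IsProd (NN s) (zpowers s) 𝒞(V s) := by
  have o := f.ord hs s1
  have h1 := (H59.MF.burnside pr3 (f.sylow_CV h hs s1 h0) fun g hg => by
    obtain ⟨v, hv, p, hp, rfl⟩ := f.CV_norm h hs s1 h0 hg
    rw [cent_zpowers]
    exact mul_mem (h.V_le o hv) (zpowers_le.2 (self_mem_cent1 s) hp)).isProd
  have h2 : piCoreOf {3}ᶜ 𝒞(V s) ≤ NN s := le_piCoreOf h1.1 (le_norm_piCoreOf _ _) (isPi_of_isPGroup pr2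
    (f.two_of_norm h (norm_piCoreOf _ (norm_cent (f.P_V hs))) ((isPi_compl_singleton pr3).1 (piCoreOf_pi _ _))))
  exact ⟨NN_le s, h1.2.1, fun m hm => let ⟨a, ha, b, hb, e⟩ := h1.2.2 m hm; ⟨a, h2 ha, b, hb, e⟩⟩

theorem mem_CV (hs : s ∈ P) (s1 : s ≠ 1) (h0 : V s ≠ ⊥) {x : G} (hx : x ∈ 𝒞(V s)) :
    ∃ n ∈ NN s, ∃ k ∈ zpowers s, x = n * k := (f.prod_CV h hs s1 h0).2.2 x hx

theorem le_NN (hs : s ∈ P) (s1 : s ≠ 1) (h0 : V s ≠ ⊥) {D : Subgroup G} (hD : IsPGroup 2 D)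
    (hc : D ≤ 𝒞(V s)) : D ≤ NN s :=
  (H49.Cfsg.IsPiHallOf.of_isProd (isPi_of_isPGroup pr2 (NN_two s))
    ((f.sylow_CV h hs s1 h0).pi.compl_singleton_of_ne (by decide)) (f.prod_CV h hs s1 h0)).le_of_normal
    ((cent_le_norm _).trans (norm_NN s)) hc (isPi_of_isPGroup pr2 hD)

theorem mem_NV (hs : s ∈ P) (s1 : s ≠ 1) (h0 : V s ≠ ⊥) {g : G} (hg : g ∈ 𝒩(V s)) :
    ∃ n ∈ NN s, ∃ p ∈ P, g = n * p ∨ g = n * p * (y * y) := by
  have o := f.ord hs s1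
  obtain ⟨c, hc, m, hm, rfl⟩ := (frattini_arg (cent_le_norm _) (norm_cent le_rfl)
    (f.sylow_CV h hs s1 h0)).2.2 g hg
  obtain ⟨n, hn, k, hk, rfl⟩ := f.mem_CV h hs s1 h0 hc
  obtain ⟨v, hv, p, hp, e⟩ := f.norm_zp h hs s1 hm.2
  have kP := zpowers_le.2 hs hk
  refine ⟨n * (k * v * k⁻¹), mul_mem hn (h.V_le_NN o (conj_mem_of_norm (f.P_V hs) kP hv)), k * p,
    mul_mem kP hp, e.imp (fun e => ?_) fun e => ?_⟩ <;> rw [e] <;> group

/-- `V s` is central modulo `K` or `V r` is, so the two commute modulo `K` -/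
theorem comm_mod {K T : Subgroup G} (hT : IsPGroup 2 T) (PT : P ≤ 𝒩(T)) (PK : P ≤ 𝒩(K)) (KT : K ≤ T)
    (TK : T ≤ 𝒩(K)) (sT : V s ≤ T) (rT : V r ≤ T)
    (hx : ∀ x ∈ P, x ≠ 1 → V x ≤ T → V x ≤ K ∨ V x = V s ∨ V x = V r) {v w : G} (hv : v ∈ V s)
    (hw : w ∈ V r) : v * w * v⁻¹ * w⁻¹ ∈ K := by
  by_cases h0 : T ≤ K
  · exact h0 (mul_mem (mul_mem (mul_mem (sT hv) (rT hw)) (inv_mem (sT hv))) (inv_mem (rT hw)))
  have h1 := center_ne_bot_of_nilpotent ((isPi_of_isPGroup pr2 hT).quo K).nilpotent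
    fun e => h0 ((quo_eq_bot_iff TK).1 e)
  have h2 : quoPre K (quo T K ⊓ 𝒞(quo T K)) ≤ T := (quoPre_le_iff KT TK).2 inf_le_left
  have h3 : ¬ quoPre K (quo T K ⊓ 𝒞(quo T K)) ≤ K := fun e => h1 (by
    rw [← quo_quoPre (quo T K ⊓ 𝒞(quo T K))]; exact quo_eq_bot_of_le e)
  obtain ⟨x, xP, x1, h4, h5⟩ : ∃ x ∈ P, x ≠ 1 ∧ V x ≤ quoPre K (quo T K ⊓ 𝒞(quo T K)) ∧ ¬ V x ≤ K := by
    by_contra! k
    exact h3 (f.gen h (norm_quoPre PK (norm_inf (quo_norm K PT) (norm_cent (quo_norm K PT)))) (hT.to_le h2) k)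
  have h6 : ⁅V x, T⁆ ≤ K := (quo_cent_iff ((h4.trans h2).trans TK) TK).1
    (((quo_le_iff ((h4.trans h2).trans TK)).2 h4).trans inf_le_right)
  rcases hx x xP x1 (h4.trans h2) with e | e | e
  · exact absurd e h5
  · exact h6 (commutator_mem_commutator (e ▸ hv) (rT hw))
  · rw [commutator_comm] at h6
    exact h6 (commutator_mem_commutator (sT hv) (e ▸ hw))

end Fr

namespace Ctx

variable (c : Ctx G)
include c

theorem exists_fr (hs : orderOf s = 3) : ∃ (P : Subgroup G) (y : G), Fr P y ∧ s ∈ P := by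
  have h := c.hyp
  have := c.simple
  have := Fact.mk pr3
  obtain ⟨P, hP, sP⟩ := exists_sylowOf_ge (M := ⊤)
    (isPi_of_card_eq_prime pr3 (by rw [Nat.card_zpowers, hs] : Nat.card (zpowers s) = 3)) le_top
  have h3 := hP.pi.isPGroup pr3
  have c9 : Nat.card P = 9 := by
    obtain ⟨R, hR⟩ := Sylow.exists_subgroup_card_pow_prime 3 (n := 2) (G := G) (h.nine_dvd hs)
    exact Nat.dvd_antisymm (h.card_three h3) (by
      have := hP.card_dvd le_top (isPi_of_card_eq_pow pr3 hR); rwa [hR] at this)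
  have P0 : P ≠ ⊥ := fun e => by rw [e, card_bot] at c9; exact absurd c9 (by decide)
  obtain ⟨s₀, hs₀, o⟩ := exists_orderOf_eq_of_dvd_card pr3
    ((hP.pi.inf_left 𝒞(P)).dvd_card (center_ne_bot_of_nilpotent hP.pi.nilpotent P0))
  have one : ∀ {a x : G}, orderOf a = 3 → x ∈ V a → x ∈ P → x = 1 := fun ha h1 h2 =>
    ((isPi_of_isPGroup pr2 (h.V_two ha)).elt h1).eq_one ((hP.pi.compl_singleton_of_ne (q := 2) (by decide)).elt h2)
  have cube : ∀ x ∈ P, x ^ 3 = 1 := fun x hx => one o (h.cube_mem o (hs₀.2 x hx)) (pow_mem hx 3)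
  have cm : ∀ {a n : G}, a ∈ P → a ≠ 1 → n ∈ 𝒩(P) → n * a = a * n → (∀ x ∈ P, x * a = a * x) →
      n ∈ 𝒞(P) := fun {a n} ha a1 hn hc ab x hx => by
    have oa : orderOf a = 3 := orderOf_eq_prime (cube a ha) a1
    have := one oa (h.comm_mem oa hc (ab x hx)) (mul_mem ((mem_normalizer_iff.1 hn x).1 hx) (inv_mem hx))
    rw [← one_mul (x * n), ← this]; group
  have s01 : s₀ ≠ 1 := fun e => by rw [e, orderOf_one] at o; exact absurd o (by decide)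
  have ab : P ≤ 𝒞(P) := fun n hn => cm hs₀.1 s01 (le_normalizer hn) (hs₀.2 n hn) hs₀.2
  have nc : ¬ IsCyclic P := fun k => by
    obtain ⟨g, hg⟩ := IsCyclic.exists_ofOrder_eq_natCard (α := P)
    have : orderOf g ∣ 3 := orderOf_dvd_of_pow_eq_one (Subtype.ext (cube g g.2))
    rw [hg, c9] at this
    exact absurd this (by decide)
  have cent : 𝒞(P) = P := le_antisymm (fun g hg => by
    obtain ⟨r, hr, hi⟩ := SetLike.not_le_iff_exists.1 fun k : P ≤ zpowers s₀ => nc (cyclic_of_le inferInstance k)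
    have : g ^ 3 ^ 1 = 1 := h.fpf o (hs₀.2 r hr) (cube r hr) hi (h.cube_mem o (hg _ hs₀.1).symm)
      (Commute.pow_left (hg r hr).symm 3).eq
    exact hP.le_of_norm le_top (isPi_of_isPGroup pr3 (H36.isPGroup_zpowers this))
      (Or.inl (zpowers_le.2 (cent_le_norm _ hg))) (mem_zpowers g)) ab
  have sr : ∀ {a n : G}, a ∈ P → a ≠ 1 → n ∈ 𝒩(P) → n * a = a * n → n ∈ P := fun ha a1 hn hc =>
    cent ▸ cm ha a1 hn hc fun x hx => ab ha x hx
  have inv0 : ∀ w ∈ 𝒩(P), w ∉ P → w * w ∈ P → ∀ x ∈ P, w * x * w⁻¹ = x⁻¹ := fun w hw wP w2 x hx => by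
    have m := (mem_normalizer_iff.1 hw x).1 hx
    refine eq_inv_of_mul_eq_one_right (by_contra fun k => wP (sr (mul_mem hx m) k hw ?_))
    nth_rw 2 [← ab hx _ m]
    calc w * (x * (w * x * w⁻¹)) = w * x * w⁻¹ * (w * w * x) * w⁻¹ := by group
      _ = _ := by rw [ab hx _ w2]; group
  obtain ⟨n, hn, n2⟩ : ∃ n ∈ 𝒩(P), n * n ∉ P := by
    by_contra! k
    obtain ⟨S, rfl⟩ := exists_sylow_of_top pr3 hP
    have hN : (S : Subgroup G).Normal := normalizer_eq_top_iff.1 (eq_top_iff.2 fun g _ => by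
      obtain ⟨a, ha, n, hn, rfl⟩ := L43.exists_mul_norm (by decide) S (abelian_iff.2 ab) nc (fun n hn => by
        by_cases e : n ∈ (S : Subgroup G)
        · exact Or.inl fun x hx => by rw [← ab e x hx]; group
        · exact Or.inr (inv0 n hn e (k n hn))) g
      rcases IsSimpleGroup.eq_bot_or_eq_top_of_normal (pPrimeCore 3 G) inferInstance with e | e
      · rw [e, mem_bot] at ha
        simpa [ha] using hn
      · have := H22.coprime_card_pPrimeCore (p := 3) (G := G)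
        rw [e, card_top] at this
        exact absurd (Nat.Coprime.eq_one_of_dvd this.symm ((Dvd.intro 3 rfl).trans (h.nine_dvd hs))) (by decide))
    rcases IsSimpleGroup.eq_bot_or_eq_top_of_normal _ hN with e | e
    · exact P0 e
    · exact c.nab ⟨⟨fun a b => ab (e ▸ mem_top b) a (e ▸ mem_top a)⟩⟩
  have n8 : n ^ 8 ∈ P := by
    have h1 := H3.relIndex_dvd_card_sub_one (K := P) (le_refl 𝒩(P)) fun a ha a1 m hm =>
      sr ha a1 hm.1 (mem_cent1.1 hm.2)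
    rw [c9] at h1
    obtain ⟨j, hj⟩ := h1
    have : (P.subgroupOf 𝒩(P)).Normal := normal_subgroupOf le_rfl
    have h2 := (P.subgroupOf 𝒩(P)).pow_index_mem ⟨n, hn⟩
    rw [show 8 = P.relIndex 𝒩(P) * j from hj, pow_mul]
    exact pow_mem h2 j
  obtain ⟨w, hw, w2, w4⟩ : ∃ w ∈ 𝒩(P), w * w ∉ P ∧ w * w * (w * w) ∈ P := by
    by_cases e : n * n * (n * n) ∈ P
    · exact ⟨n, hn, n2, e⟩
    · exact ⟨n * n, mul_mem hn hn, e, by convert n8 using 1; simp only [pow_succ, pow_zero]; group⟩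
  refine ⟨P, w ^ 3, ⟨c9, cube, cent, pow_mem hw 3, fun x hx => ?_, ?_⟩, sP (mem_zpowers s)⟩
  · calc _ = w * w * (w * w * (w * w) * x * (w * w * (w * w))⁻¹) * (w * w)⁻¹ := by
          simp only [pow_succ, pow_zero]; group
      _ = _ := by rw [← ab w4 x hx, mul_inv_cancel_right, inv0 _ (mul_mem hw hw) w2 w4 x hx]
  · rw [← cube _ w4]; simp only [pow_succ, pow_zero]; group

omit c in
theorem no_se {N D : Subgroup G} (hN : IsStronglyEmbedded N) (hD : IsPi {2} D) {v z t : G} (mv : v ∈ D)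
    (mz : z ∈ D) (v2 : v * v = 1) (z2 : z * z = 1) (e : v * z * v⁻¹ * z⁻¹ = t) (t1 : t ≠ 1) (t2 : t * t = 1) :
    False := by
  have := Fact.mk pr2
  have nc : v * z ≠ z * v := fun k => t1 (by rw [← e, k]; group)
  obtain ⟨-, h1, h2⟩ := H8.isStronglyEmbedded_iff.1 hN
  have cN : ∀ a ∈ N, orderOf a = 2 → 𝒞[a] ≤ N := fun a ha oa g hg =>
    h2 a ha oa g (by rw [mem_cent1.1 hg]; simpa using ha)
  obtain ⟨a, ha, oa⟩ := exists_orderOf_eq_of_dvd_card pr2 (even_iff_two_dvd.1 h1)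
  have ca : Nat.card (zpowers a) = 2 := by rw [Nat.card_zpowers, oa]
  obtain ⟨T, hT, aT⟩ := exists_sylowOf_ge (M := ⊤) (isPi_of_card_eq_prime pr2 ca) le_top
  have a1 : a ≠ 1 := fun k => by rw [k, orderOf_one] at oa; exact absurd oa (by decide)
  obtain ⟨b, hb, ob⟩ := exists_orderOf_eq_of_dvd_card pr2 ((hT.pi.inf_left 𝒞(T)).dvd_card
    (center_ne_bot_of_nilpotent hT.pi.nilpotent (ne_bot_iff_exists.2 ⟨a, aT (mem_zpowers a), a1⟩)))
  have TN : T ≤ N := (le_cent1_iff.2 hb.2).trans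
    (cN b (cN a ha oa (cent_le_cent1 (aT (mem_zpowers a)) hb.2)) ob)
  obtain ⟨g, -, hg⟩ := sylowOf_subJ hT le_top hD
  have oc : ∀ x : G, orderOf (g * x * g⁻¹) = orderOf x := fun x => (MulAut.conj g).orderOf_eq x
  have e2 : (v * z) ^ 2 = t := by
    rw [← e, inv_eq_of_mul_eq_one_right v2, inv_eq_of_mul_eq_one_right z2, pow_two]; group
  have o4 : orderOf (v * z) = 2 ^ (1 + 1) := orderOf_eq_prime_pow (by rw [pow_one, e2]; exact t1) (by
    rw [pow_succ, pow_one, pow_mul, e2, pow_two, t2])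
  refine H97.SE.d8 hN (a := g * v * g⁻¹) (b := g * z * g⁻¹) (GW.mem_invs.2 ⟨TN (hg (conj_mem_cj.2 mv)), ?_⟩)
    (GW.mem_invs.2 ⟨TN (hg (conj_mem_cj.2 mz)), ?_⟩) ?_
  · rw [oc]; exact H43.orderOf_two v2 fun k => nc (by simp [k])
  · rw [oc]; exact H43.orderOf_two z2 fun k => nc (by simp [k])
  · rw [show g * v * g⁻¹ * (g * z * g⁻¹) = g * (v * z) * g⁻¹ by group, oc, o4]; norm_num

/-- no nontrivial strongly closed abelian 2-subgroup -/
theorem no_sc (hs : orderOf s = 3) (h0 : V s ≠ ⊥) {S B : Subgroup G} (hS : IsSylowOf 2 S ⊤) (BS : B ≤ S)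
    (B0 : B ≠ ⊥) (ab : B ≤ 𝒞(B)) (sq : ∀ b ∈ B, b * b = 1)
    (sc : ∀ x ∈ S, x * x = 1 → ∀ g : G, x ∈ cj g B → x ∈ B) : False := by
  have h := c.hyp
  have := c.simple
  have := Fact.mk pr2
  obtain ⟨P, y, f, sP⟩ := c.exists_fr hs
  have s1 : s ≠ 1 := fun e => by rw [e, orderOf_one] at hs; exact absurd hs (by decide)
  obtain ⟨t, ht, t1, -, -, v, hv, e⟩ := f.exists_t' h sP s1 h0
  have hz := f.z_V sP
  have z2 := f.y4
  clear f
  generalize y * y = z at e hz z2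
  have h1 : IsPGroup 2 (zpowers z) := H36.isPGroup_zpowers (k := 1) (by simpa [pow_two] using z2)
  have hD : IsPi {2} (zpowers z ⊔ V s) := (isPi_of_isPGroup pr2 h1).sup
    (isPi_of_isPGroup pr2 (h.V_two hs)) (Or.inl (zpowers_le.2 hz))
  have mv : v ∈ zpowers z ⊔ V s := mem_sup_right hv
  have mz : z ∈ zpowers z ⊔ V s := mem_sup_left (mem_zpowers z)
  obtain ⟨S', rfl⟩ := exists_sylow_of_top pr2 hS
  have hsc : IsStronglyClosed B (S' : Subgroup G) := ⟨BS, fun x hx g hg => sc _ hg (by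
    calc _ = g * (x * x) * g⁻¹ := by group
      _ = 1 := by rw [sq x hx]; group) g (conj_mem_cj.2 hx)⟩
  rcases S1169.result S' B B0 (abelian_iff.2 ab) hsc with k | ⟨N, hN⟩
  · obtain ⟨g, -, hg⟩ := sylowOf_Jsub hS le_top hD
    exact t1 (by rw [← e, le_cent_iff.1 (abelian_iff.1 (isMulCommutative_cj.2 k)) _ (hg mz) _ (hg mv)]; group)
  · exact no_se hN hD mv mz (h.V_sq hs hv) z2 e t1 (h.V_sq hs ht)

end Ctx

end Cfsg.Agent.C34
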