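import Cfsg.Agent.C34.Defs
import Cfsg.Agent.H3.FrobQuo

set_option autoImplicit false

namespace Cfsg.Agent.C34

open Cfsg Cfsg.Agent.H49 Subgroup

universe u

variable {G : Type u} [Group G] [Finite G]

variable {P : Subgroup G} {y s r : G}

omit [Finite G] in
theorem zp3 (hs : s ^ 3 = 1) {x : G} (hx : x ∈ zpowers s) : x = 1 ∨ x = s ∨ x = s⁻¹ := by
  obtain ⟨k, rfl⟩ := hx
  dsimp only
  rw [zpow_eq_zpow_emod' k hs]
  have h0 := Int.emod_nonneg k (b := (3 : ℕ)) (by norm_num)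
  have h1 := Int.emod_lt_of_pos k (b := (3 : ℕ)) (by norm_num)
  generalize k % ((3 : ℕ) : ℤ) = j at *
  have : j = 0 ∨ j = 1 ∨ j = 2 := by push_cast at h1; omega
  rcases this with rfl | rfl | rfl
  · exact Or.inl (zpow_zero s)
  · exact Or.inr (Or.inl (zpow_one s))
  · refine Or.inr (Or.inr (eq_inv_of_mul_eq_one_left ?_))
    rw [← hs, zpow_two, pow_three, mul_assoc]

theorem four_elts {W : Subgroup G} (h : Nat.card W ≤ 4) {a b c w : G} (ha : a ∈ W) (hb : b ∈ W)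
    (hc : c ∈ W) (hw : w ∈ W) (a1 : a ≠ 1) (b1 : b ≠ 1) (c1 : c ≠ 1) (ab : a ≠ b) (ac : a ≠ c)
    (bc : b ≠ c) : w = 1 ∨ w = a ∨ w = b ∨ w = c := by
  classical
  by_contra hn
  simp only [not_or] at hn
  have h5 : ({w, 1, a, b, c} : Finset G).card = 5 := by
    rw [Finset.card_insert_of_notMem (by simp [hn]), Finset.card_insert_of_notMem (by simp [a1.symm, b1.symm, c1.symm]),
      Finset.card_insert_of_notMem (by simp [ab, ac]), Finset.card_pair bc]
  have h6 : (({w, 1, a, b, c} : Finset G) : Set G).ncard ≤ (W : Set G).ncard :=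
    Set.ncard_le_ncard (by intro x hx; simp at hx; rcases hx with rfl | rfl | rfl | rfl | rfl <;>
      first | assumption | exact one_mem W) (Set.toFinite _)
  rw [Set.ncard_coe_finset, h5] at h6
  have : (W : Set G).ncard = Nat.card W := rfl
  omega

omit [Finite G] in
theorem V_cj (g s : G) : cj g (V s) = V (g * s * g⁻¹) := by
  rw [V, V, cj, MonoidHom.map_closure]
  congr 1
  ext x
  simp only [Set.mem_image, Set.mem_setOf_eq, MulEquiv.toMonoidHom_eq_coe, MonoidHom.coe_coe, MulAut.conj_apply]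
  constructor
  · rintro ⟨a, ⟨h1, h2⟩, rfl⟩
    refine ⟨?_, ?_⟩
    · calc g * a * g⁻¹ * (g * s * g⁻¹) = g * (a * s) * g⁻¹ := by group
        _ = _ := by rw [h1]; group
    · calc g * a * g⁻¹ * (g * a * g⁻¹) = g * (a * a) * g⁻¹ := by group
        _ = _ := by rw [h2]; group
  · rintro ⟨h1, h2⟩
    refine ⟨g⁻¹ * x * g, ⟨?_, ?_⟩, by group⟩
    · calc g⁻¹ * x * g * s = g⁻¹ * (x * (g * s * g⁻¹)) * g := by group
        _ = _ := by rw [h1]; group
    · calc g⁻¹ * x * g * (g⁻¹ * x * g) = g⁻¹ * (x * x) * g := by group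
        _ = _ := by rw [h2]; group

theorem NN_cj (g s : G) : cj g (NN s) = NN (g * s * g⁻¹) := by
  rw [NN, NN, cj_piCoreOf, cj_centralizer, V_cj]

omit [Finite G] in
theorem V_zp (h1 : r ∈ zpowers s) (h2 : s ∈ zpowers r) : V r = V s := by
  have k : ∀ {a b x : G}, a ∈ zpowers b → x * b = b * x → x * a = a * x := fun h e =>
    (mem_cent1.1 ((zpowers_le.2 (mem_cent1.2 e.symm)) h)).symm
  rw [V, V]
  congr 1
  ext x
  exact and_congr_left fun _ => ⟨k h2, k h1⟩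

omit [Finite G] in
theorem V_inv (s : G) : V s⁻¹ = V s :=
  V_zp (inv_mem (mem_zpowers s)) (by simpa using inv_mem (mem_zpowers s⁻¹))

theorem NN_le (s : G) : NN s ≤ 𝒞(V s) := piCoreOf_le _ _

theorem NN_two (s : G) : IsPGroup 2 (NN s) := (piCoreOf_pi _ _).isPGroup pr2

theorem norm_NN (s : G) : 𝒩(V s) ≤ 𝒩(NN s) := norm_piCoreOf _ (norm_cent le_rfl)

theorem two_of_sq {A : Subgroup G} (h : ∀ a ∈ A, a * a = 1) : IsPGroup 2 A :=
  fun a => ⟨1, Subtype.ext (by simpa [pow_two] using h a a.2)⟩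

omit [Finite G] in
theorem not_three {A : Subgroup G} [Finite A] (h : IsPGroup 2 A) : ¬ 3 ∣ Nat.card A := fun e => by
  have := Fact.mk pr2
  obtain ⟨k, hk⟩ := IsPGroup.iff_card.1 h
  exact absurd (pr3.dvd_of_dvd_pow (hk ▸ e)) (by decide)

namespace Hyp

variable (h : Hyp G)
include h

omit [Finite G] in
theorem V_le (hs : orderOf s = 3) : V s ≤ 𝒞[s] := fun _ hx => mem_cent1.2 ((h.mem_V hs).1 hx).1

omit [Finite G] in
theorem V_sq (hs : orderOf s = 3) {v : G} (hv : v ∈ V s) : v * v = 1 := ((h.mem_V hs).1 hv).2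

omit [Finite G] in
theorem V_ab (hs : orderOf s = 3) : V s ≤ 𝒞(V s) := le_cent_iff.2 fun a ha b hb => by
  have h1 := h.V_sq hs (mul_mem hb ha)
  calc b * a = (b * a)⁻¹ := eq_inv_of_mul_eq_one_left h1
    _ = a * b := by
      rw [mul_inv_rev, inv_eq_of_mul_eq_one_right (h.V_sq hs ha), inv_eq_of_mul_eq_one_right (h.V_sq hs hb)]

theorem V_two (hs : orderOf s = 3) : IsPGroup 2 (V s) := two_of_sq fun _ => h.V_sq hs

omit [Finite G] in
theorem V_four (hs : orderOf s = 3) (h0 : V s ≠ ⊥) : Nat.card (V s) = 4 :=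
  (h.card_V hs).resolve_left fun e => h0 (card_eq_one.1 e)

theorem V_le_NN (hs : orderOf s = 3) : V s ≤ NN s :=
  le_piCoreOf (h.V_ab hs) (cent_le_norm _) (isPi_of_isPGroup pr2 (h.V_two hs))

omit [Finite G] in
theorem mem_V_two (hs : orderOf s = 3) {x : G} {k : ℕ} (hx : x ^ 2 ^ k = 1) (hc : x * s = s * x) :
    x ∈ V s := by
  refine (h.mem_V hs).2 ⟨hc, ?_⟩
  have h1 := pow_gcd_eq_one.2 ⟨hx, h.pow_six hs hc⟩
  have h2 : (2 ^ k).gcd 6 ∣ 2 := by
    rw [show 6 = 2 * 3 from rfl, Nat.Coprime.gcd_mul_right_cancel_right _ (Nat.Coprime.pow_right k (by decide))]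
    exact Nat.gcd_dvd_right _ _
  obtain ⟨j, hj⟩ := h2
  rw [← pow_two, hj, pow_mul, h1, one_pow]

omit [Finite G] in
/-- a 2-group centralised by `s` lies in `V s` -/
theorem le_V (hs : orderOf s = 3) {D : Subgroup G} (hD : IsPGroup 2 D) (hc : D ≤ 𝒞[s]) : D ≤ V s :=
  fun x hx => by
    obtain ⟨k, hk⟩ := hD ⟨x, hx⟩
    exact h.mem_V_two hs (congrArg Subtype.val hk) (mem_cent1.1 (hc hx))

theorem card_le_four (hs : orderOf s = 3) {D : Subgroup G} (hD : IsPGroup 2 D) (hc : D ≤ 𝒞[s]) :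
    Nat.card D ≤ 4 := by
  have := card_le_of_le (h.le_V hs hD hc)
  rcases h.card_V hs with e | e <;> omega

end Hyp

namespace Fr

variable (f : Fr P y)
include f

omit [Finite G] in
theorem ab : P ≤ 𝒞(P) := f.cent.ge

omit [Finite G] in
theorem comm (hs : s ∈ P) (hr : r ∈ P) : s * r = r * s := le_cent_iff.1 f.ab r hr s hs

omit [Finite G] in
theorem ord (hs : s ∈ P) (s1 : s ≠ 1) : orderOf s = 3 := by
  have := Fact.mk pr3
  exact orderOf_eq_prime (f.cube s hs) s1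

omit [Finite G] in
theorem three : IsPGroup 3 P := fun a => ⟨1, Subtype.ext (by simpa using f.cube a a.2)⟩

theorem ncyc : ¬ IsCyclic P := fun h => by
  obtain ⟨g, hg⟩ := IsCyclic.exists_ofOrder_eq_natCard (α := P)
  have : orderOf g ∣ 3 := orderOf_dvd_of_pow_eq_one (Subtype.ext (f.cube g g.2))
  rw [hg, f.card] at this
  exact absurd this (by decide)

omit [Finite G] in
theorem cj (g : G) : Fr (cj g P) (g * y * g⁻¹) where
  card := by rw [card_cj, f.card]
  cube := fun x hx => by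
    obtain ⟨a, ha, rfl⟩ := mem_cj'.1 hx
    rw [conj_pow, f.cube a ha]; group
  cent := by rw [← cj_centralizer, f.cent]
  ny := by rw [← cj_normalizer]; exact conj_mem_cj.2 f.ny
  inv := fun x hx => by
    obtain ⟨a, ha, rfl⟩ := mem_cj'.1 hx
    calc _ = g * (y * y * a * (y * y)⁻¹) * g⁻¹ := by group
      _ = _ := by rw [f.inv a ha]; group
  y4 := by
    calc _ = g * (y * y * (y * y)) * g⁻¹ := by group
      _ = _ := by rw [f.y4]; group

omit [Finite G] in
theorem y_mem (hs : s ∈ P) : y * s * y⁻¹ ∈ P := (mem_normalizer_iff.1 f.ny s).1 hs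

omit [Finite G] in
theorem yy (hs : s ∈ P) : y * (y * s * y⁻¹) * y⁻¹ = s⁻¹ := by rw [← f.inv s hs]; group

omit [Finite G] in
theorem inv_ne (hs : s ∈ P) (s1 : s ≠ 1) : s⁻¹ ≠ s := fun e => s1 (by
  have := f.cube s hs
  rw [pow_three, ← mul_assoc] at this
  nth_rw 1 [← e] at this
  simpa using this)

omit [Finite G] in
theorem y_ind (hs : s ∈ P) (s1 : s ≠ 1) : y * s * y⁻¹ ∉ zpowers s := fun h => by
  have k := f.yy hs
  rcases zp3 (f.cube s hs) h with e | e | e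
  · exact s1 (by simpa using e)
  · rw [e, e] at k
    exact f.inv_ne hs s1 k.symm
  · rw [e, conj_inv.symm.trans (congrArg _ e) , inv_inv] at k
    exact f.inv_ne hs s1 k.symm

omit [Finite G] in
theorem ind_symm (hs : s ∈ P) (s1 : s ≠ 1) (hr : r ∈ P) (h : r ∉ zpowers s) : s ∉ zpowers r := fun k => by
  rcases zp3 (f.cube r hr) k with e | e | e
  · exact s1 e
  · exact h (e ▸ mem_zpowers s)
  · exact h (by rw [e]; simpa using inv_mem (mem_zpowers r⁻¹))

omit [Finite G] in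
theorem V_of (hs : s ∈ P) (s1 : s ≠ 1) (hr : r ∈ P) (h : s ∈ zpowers r) : V s = V r :=
  V_zp h (by_contra fun k => f.ind_symm hs s1 hr k h)

/-- two independent elements generate `P` -/
theorem gen2 (hs : s ∈ P) (s1 : s ≠ 1) (hr : r ∈ P) (h : r ∉ zpowers s) {x : G} (hx : x ∈ P) :
    ∃ a ∈ zpowers s, ∃ b ∈ zpowers r, x = a * b := by
  have r1 : r ≠ 1 := fun e => h (e ▸ one_mem _)
  have c : ∀ {a}, a ∈ P → a ≠ 1 → Nat.card (zpowers a) = 3 := fun ha a1 => by
    rw [Nat.card_zpowers, f.ord ha a1]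
  have n : zpowers s ≤ 𝒩(zpowers r) := norm_of_cent
    ((zpowers_le.2 hs).trans (f.ab.trans (cent_anti (zpowers_le.2 hr))))
  have d : zpowers s ⊓ zpowers r = ⊥ := by
    rw [inf_comm]
    exact (inf_eq_bot_or_le_of_prime_card (by rw [c hr r1]; exact pr3) _).resolve_right
      fun k => h (k (mem_zpowers r))
  have e : zpowers s ⊔ zpowers r = P := eq_of_le_of_card_eq (sup_le (zpowers_le.2 hs) (zpowers_le.2 hr))
    (by rw [card_sup_of_disjoint (Or.inl n) d, c hs s1, c hr r1, f.card])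
  exact (mem_sup_of_norm_right n).1 (e ▸ hx)

/-- the four subgroups of order three -/
theorem cover (hs : s ∈ P) (s1 : s ≠ 1) (hr : r ∈ P) (h : r ∉ zpowers s) {x : G} (hx : x ∈ P) :
    x ∈ zpowers s ∨ x ∈ zpowers r ∨ x ∈ zpowers (s * r) ∨ x ∈ zpowers (s * r⁻¹) := by
  obtain ⟨a, ha, b, hb, rfl⟩ := f.gen2 hs s1 hr h hx
  have c := f.comm hs hr
  rcases zp3 (f.cube r hr) hb with rfl | e | e
  · exact Or.inl (by simpa using ha)
  · rw [e]
    rcases zp3 (f.cube s hs) ha with rfl | rfl | rfl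
    · exact Or.inr (Or.inl (by simp))
    · exact Or.inr (Or.inr (Or.inl (mem_zpowers _)))
    · refine Or.inr (Or.inr (Or.inr ?_))
      rw [show s⁻¹ * r = (s * r⁻¹)⁻¹ by rw [mul_inv_rev, inv_inv]; exact (Commute.inv_left c).eq]
      exact inv_mem (mem_zpowers _)
  · rw [e]
    rcases zp3 (f.cube s hs) ha with rfl | rfl | rfl
    · exact Or.inr (Or.inl (by simp))
    · exact Or.inr (Or.inr (Or.inr (mem_zpowers _)))
    · refine Or.inr (Or.inr (Or.inl ?_))
      rw [show s⁻¹ * r⁻¹ = (s * r)⁻¹ by rw [c, mul_inv_rev]]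
      exact inv_mem (mem_zpowers _)

/-- the same with `s, y s y⁻¹, r, y r y⁻¹` -/
theorem cover' (hs : s ∈ P) (s1 : s ≠ 1) (hr : r ∈ P) (h : r ∉ zpowers s) (h' : r ∉ zpowers (y * s * y⁻¹))
    {x : G} (hx : x ∈ P) (x1 : x ≠ 1) :
    V x = V s ∨ V x = V (y * s * y⁻¹) ∨ V x = V r ∨ V x = V (y * r * y⁻¹) := by
  have r1 : r ≠ 1 := fun e => h (e ▸ one_mem _)
  have hs' := f.y_mem hs
  have c := f.comm hs hs'
  have m1 := mul_mem hs hs'
  have m2 := mul_mem hs (inv_mem hs')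
  have e1 : H49.cj y (V (s * (y * s * y⁻¹))) = V (s * (y * s * y⁻¹)⁻¹) := by
    rw [V_cj, ← V_inv]
    congr 1
    calc _ = (y * s * y⁻¹ * (y * (y * s * y⁻¹) * y⁻¹))⁻¹ := by group
      _ = _ := by rw [f.yy hs]; group
  have e2 : H49.cj y (V (s * (y * s * y⁻¹)⁻¹)) = V (s * (y * s * y⁻¹)) := by
    rw [V_cj, c]
    congr 1
    calc _ = y * s * y⁻¹ * (y * (y * s * y⁻¹) * y⁻¹)⁻¹ := by group
      _ = _ := by rw [f.yy hs, inv_inv]
  rw [← V_cj y r]
  rcases f.cover hs s1 hs' (f.y_ind hs s1) hx with k | k | k | k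
  · exact Or.inl (f.V_of hx x1 hs k)
  · exact Or.inr (Or.inl (f.V_of hx x1 hs' k))
  all_goals
    refine Or.inr (Or.inr ?_)
    rcases f.cover hs s1 hs' (f.y_ind hs s1) hr with l | l | l | l
    · exact absurd l h
    · exact absurd l h'
    all_goals
      first | rw [f.V_of hx x1 m1 k] | rw [f.V_of hx x1 m2 k]
      first | rw [f.V_of hr r1 m1 l, e1] | rw [f.V_of hr r1 m2 l, e2]
      simp

omit [Finite G] in
theorem y_ind' (hs : s ∈ P) (_s1 : s ≠ 1) (hr : r ∈ P) (h : r ∉ zpowers s) (h' : r ∉ zpowers (y * s * y⁻¹)) :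
    y * r * y⁻¹ ∉ zpowers s ∧ y * r * y⁻¹ ∉ zpowers (y * s * y⁻¹) := by
  have _ := hs
  refine ⟨fun k => h' ?_, fun k => h ?_⟩
  · rw [← cj_zpowers, ← inv_mem_iff, ← f.yy hr]
    exact conj_mem_cj.2 k
  · rw [← cj_zpowers] at k
    exact conj_mem_cj.1 k

omit [Finite G] in
theorem P_V (hs : s ∈ P) : P ≤ 𝒩(V s) := fun p hp => by
  rw [mem_norm_iff_cj, V_cj, f.comm hp hs, mul_inv_cancel_right]

omit [Finite G] in
theorem z_V (hs : s ∈ P) : y * y ∈ 𝒩(V s) := by rw [mem_norm_iff_cj, V_cj, f.inv s hs, V_inv]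

omit [Finite G] in
theorem V_yy (hs : s ∈ P) : V (y * (y * s * y⁻¹) * y⁻¹) = V s := by rw [f.yy hs, V_inv]

theorem exists_ne : ∃ s ∈ P, s ≠ 1 := ne_bot_iff_exists.1 fun e => by
  have := f.card
  rw [e, card_bot] at this
  exact absurd this (by decide)

omit [Finite G] in
theorem eq_one_of_two {D : Subgroup G} (hD : IsPGroup 2 D) {x : G} (h1 : x ∈ D) (h2 : x ∈ P) : x = 1 := by
  obtain ⟨k, hk⟩ := hD ⟨x, h1⟩
  have := pow_gcd_eq_one.2 ⟨(congrArg Subtype.val hk : x ^ 2 ^ k = 1), f.cube x h2⟩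
  rwa [Nat.Coprime.gcd_eq_one (Nat.Coprime.pow_left k (by decide)), pow_one] at this

end Fr

end Cfsg.Agent.C34
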