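import Cfsg.Agent.C34.Defs

set_option autoImplicit false

namespace Cfsg.Agent.C34

open Cfsg Cfsg.Agent.H49 Subgroup

universe u

variable {G : Type u} [Group G]

/-- an edge of the matching -/
structure Ed (P : Subgroup G) (s r : G) (A : Subgroup G) : Prop where
  hs : s ∈ P
  s1 : s ≠ 1
  hr : r ∈ P
  ind : r ∉ zpowers s
  h1 : V s ≠ ⊥
  h2 : V r ≠ ⊥
  sup : V s ⊔ V r = A
  n1 : NN s = A
  n2 : NN r = A
  card : Nat.card A = 16
  ab : A ≤ 𝒞(A)
  sq : ∀ a ∈ A, a * a = 1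
  cent : 𝒞(A) = A

end Cfsg.Agent.C34
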