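import Cfsg.Agent.C34.Base
import Cfsg.Agent.C34.MatD

set_option autoImplicit false

namespace Cfsg.Agent.C34

open Cfsg Cfsg.Agent.H49 Subgroup

universe u

variable {G : Type u} [Group G]

/-- the configuration `2⁴ : S₄` inside `C(t)` -/
structure Blk (t s u w : G) (A A0 Q : Subgroup G) : Prop where
  t1 : t ≠ 1
  t2 : t * t = 1
  os : orderOf s = 3
  sM : s ∈ 𝒞[t] ⊓ 𝒩(A)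
  wM : w ∈ 𝒞[t] ⊓ 𝒩(A)
  w2 : w * w = 1
  ws : w * s * w⁻¹ = s⁻¹
  uA : u ∈ A
  u0 : u ∉ A0
  us : u * s = s * u
  wu : w * u * w⁻¹ = u * t
  Cs : ∀ x, x * t = t * x → x * s = s * x → ∃ k ∈ zpowers s, x = k ∨ x = k * t ∨ x = k * u ∨ x = k * (u * t)
  Vs : ∀ x, x * s = s * x → ∀ n : ℕ, x ^ 2 ^ n = 1 → x = 1 ∨ x = t ∨ x = u ∨ x = u * t
  ab : A ≤ 𝒞(A)
  sq : ∀ a ∈ A, a * a = 1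
  cA : Nat.card A = 16
  tA0 : t ∈ A0
  le0 : A0 ≤ A
  c0 : Nat.card A0 = 8
  cM : Nat.card ↥(𝒞[t] ⊓ 𝒩(A)) = 384
  n0 : 𝒞[t] ⊓ 𝒩(A) ≤ 𝒩(A0)
  memQ : ∀ x, x ∈ Q ↔ x ∈ 𝒞[t] ⊓ 𝒩(A) ∧ ∀ a ∈ A0, x * a * x⁻¹ * a⁻¹ ∈ zpowers t
  cQ : Nat.card Q = 64
  C0 : 𝒞(A0) ≤ A
  Cu : ∀ a ∈ A, a ∉ A0 → Nat.card ↥(𝒞[t] ⊓ 𝒞[a]) = 48 ∧
    ∀ D : Subgroup G, IsPGroup 2 D → D ≤ 𝒞[t] ⊓ 𝒞[a] → D ≤ A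

end Cfsg.Agent.C34
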