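/-
Common lemmas for the strong closure arguments of Path, K4b and Match1.
-/
import Cfsg.Agent.C34.Base

set_option autoImplicit false

namespace Cfsg.Agent.C34

open Cfsg Cfsg.Agent.H49 Subgroup

universe u

variable {G : Type u} [Group G] [Finite G]

omit [Finite G] in
theorem cl_norm {H : Subgroup G} {n x : G} (hn : n ∈ 𝒩(H)) (hx : x ∈ H) : n * x * n⁻¹ ∈ H :=
  conj_mem_of_norm le_rfl hn hx

omit [Finite G] in
theorem cl_norm' {H : Subgroup G} {n x : G} (hn : n ∈ 𝒩(H)) (hx : x ∈ H) : n⁻¹ * x * n ∈ H :=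
  conj_mem_of_norm' le_rfl hn hx

omit [Finite G] in
theorem cl_mem_sup {H : Subgroup G} {n x : G} (hn : n ∈ 𝒩(H)) (n2 : n * n ∈ H)
    (hx : x ∈ H ⊔ zpowers n) : x ∈ H ∨ x * n ∈ H := by
  let K : Subgroup G :=
    { carrier := {x | x ∈ H ∨ x * n ∈ H}
      one_mem' := Or.inl (one_mem _)
      mul_mem' := by
        rintro a b (ha | ha) (hb | hb)
        · exact Or.inl (mul_mem ha hb)
        · exact Or.inr (by rw [mul_assoc]; exact mul_mem ha hb)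
        · refine Or.inr ?_
          have := mul_mem ha (cl_norm' hn hb)
          rwa [show a * n * (n⁻¹ * b * n) = a * b * n by group] at this
        · refine Or.inl ?_
          have := mul_mem (mul_mem ha (cl_norm' hn hb)) (inv_mem n2)
          rwa [show a * n * (n⁻¹ * (b * n) * n) * (n * n)⁻¹ = a * b by group] at this
      inv_mem' := by
        rintro a (ha | ha)
        · exact Or.inl (inv_mem ha)
        · refine Or.inr ?_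
          have := mul_mem (cl_norm hn (inv_mem ha)) n2
          rwa [show n * (a * n)⁻¹ * n⁻¹ * (n * n) = a⁻¹ * n by group] at this }
  have : H ⊔ zpowers n ≤ K := sup_le (fun _ h => Or.inl h) (zpowers_le.2 (Or.inr n2))
  exact this hx

theorem cl_card_two {E A : Subgroup G} (h : ∀ a ∈ E, ∀ b ∈ E, a ∉ A → b ∉ A → a * b ∈ A) :
    Nat.card E ≤ 2 * Nat.card ↥(E ⊓ A) := by
  by_cases h0 : E ≤ A
  · rw [inf_eq_left.2 h0]; omega
  obtain ⟨e, he, eA⟩ := SetLike.not_le_iff_exists.1 h0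
  have : A.relIndex E = 2 := relIndex_eq_two_iff.2 ⟨e, he, fun b hb => by
    by_cases hA : b ∈ A
    · exact Or.inr ⟨hA, fun h' => eA ((mul_mem_cancel_left hA).1 h')⟩
    · exact Or.inl ⟨h b hb e he hA eA, hA⟩⟩
  have h2 := card_inf_mul_relIndex A E
  rw [this, inf_comm] at h2
  omega

theorem cl_lt {D E : Subgroup G} (h : D ≤ E) (h' : ¬ E ≤ D) : 2 * Nat.card D ≤ Nat.card E := by
  have h1 := card_lt_of_lt (lt_of_le_not_ge h h')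
  obtain ⟨k, hk⟩ := card_dvd_of_le h
  rw [hk] at h1 ⊢
  have : 2 ≤ k := by
    by_contra h2
    have : k = 0 ∨ k = 1 := by omega
    rcases this with rfl | rfl <;> omega
  rw [mul_comm]
  exact Nat.mul_le_mul_left _ this

omit [Finite G] in
theorem cl_out {H F : Subgroup G} {n : G} (hn : n ∈ 𝒩(H)) (n2 : n * n ∈ H) (hF : F ≤ H ⊔ zpowers n) :
    ∀ a ∈ F, ∀ b ∈ F, a ∉ H → b ∉ H → a * b ∈ H := fun a ha b hb aH bH => by
  have h1 := (cl_mem_sup hn n2 (hF ha)).resolve_left aH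
  have h2 := (cl_mem_sup hn n2 (hF hb)).resolve_left bH
  have := mul_mem (mul_mem h1 (cl_norm' hn h2)) (inv_mem n2)
  rwa [show a * n * (n⁻¹ * (b * n) * n) * (n * n)⁻¹ = a * b by group] at this

theorem cl_card_sup {H : Subgroup G} {n : G} (hn : n ∈ 𝒩(H)) (n2 : n * n ∈ H) (h : n ∉ H) :
    Nat.card ↥(H ⊔ zpowers n) = 2 * Nat.card H := by
  have h1 := cl_card_two (cl_out hn n2 le_rfl)
  rw [inf_eq_right.2 le_sup_left] at h1
  exact le_antisymm h1 (cl_lt le_sup_left fun h2 => h (h2 (mem_sup_right (mem_zpowers n))))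

theorem cl_eq {D E : Subgroup G} (h : D ≤ E) (hc : Nat.card E ≤ Nat.card D) : D = E :=
  eq_of_le_of_card_eq h (le_antisymm (card_le_of_le h) hc)

theorem cl_step {D U : Subgroup G} (h : D ≤ U) :
    ∃ u ∈ U, U ≤ D ∨ 2 * Nat.card D ≤ Nat.card ↥(D ⊔ zpowers u) := by
  by_cases h0 : U ≤ D
  · exact ⟨1, one_mem _, Or.inl h0⟩
  obtain ⟨u, hu, uD⟩ := SetLike.not_le_iff_exists.1 h0
  exact ⟨u, hu, Or.inr (cl_lt le_sup_left fun h2 => uD (h2 (mem_sup_right (mem_zpowers u))))⟩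

theorem cl_gen1 {D U : Subgroup G} (h : D ≤ U) (hc : Nat.card U ≤ 2 * Nat.card D) :
    ∃ u ∈ U, U ≤ D ⊔ zpowers u := by
  obtain ⟨u, hu, h1 | h1⟩ := cl_step h
  · exact ⟨u, hu, h1.trans le_sup_left⟩
  · exact ⟨u, hu, (cl_eq (sup_le h (zpowers_le.2 hu)) (hc.trans h1)).ge⟩

theorem cl_gen2 {D U : Subgroup G} (h : D ≤ U) (hc : Nat.card U ≤ 4 * Nat.card D) :
    ∃ u ∈ U, ∃ w ∈ U, U ≤ D ⊔ zpowers u ⊔ zpowers w := by
  obtain ⟨u, hu, h1 | h1⟩ := cl_step h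
  · exact ⟨u, hu, u, hu, h1.trans (le_sup_left.trans le_sup_left)⟩
  · obtain ⟨w, hw, h2⟩ := cl_gen1 (sup_le h (zpowers_le.2 hu)) (by omega)
    exact ⟨u, hu, w, hw, h2⟩

omit [Finite G] in
theorem cl_two {A : Subgroup G} (sq : ∀ a ∈ A, a * a = 1) : IsPGroup 2 A :=
  fun a => ⟨1, Subtype.ext (by simpa [pow_two] using sq a a.2)⟩

omit [Finite G] in
theorem cl_sq_cj {A : Subgroup G} (sq : ∀ a ∈ A, a * a = 1) (g : G) : ∀ a ∈ cj g A, a * a = 1 := by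
  intro a ha
  obtain ⟨b, hb, rfl⟩ := mem_cj'.1 ha
  rw [show g * b * g⁻¹ * (g * b * g⁻¹) = g * (b * b) * g⁻¹ by group, sq b hb]; group

omit [Finite G] in
theorem cl_ab_cj {A : Subgroup G} (ab : A ≤ 𝒞(A)) (g : G) : cj g A ≤ 𝒞(cj g A) := by
  rw [← cj_centralizer]; exact cj_mono g ab

omit [Finite G] in
theorem cl_comm {A B : Subgroup G} (h : A ≤ 𝒞(B)) {a b : G} (ha : a ∈ A) (hb : b ∈ B) : a * b = b * a :=
  (le_cent_iff.1 h a ha b hb).symm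

omit [Finite G] in
theorem cl_card_cent (g x : G) : Nat.card 𝒞[g * x * g⁻¹] = Nat.card 𝒞[x] := by
  rw [← cj_cent1, card_cj]

omit [Finite G] in
theorem cl_fix_cj {A : Subgroup G} (g x : G) :
    Nat.card ↥(cj g A ⊓ 𝒞[g * x * g⁻¹]) = Nat.card ↥(A ⊓ 𝒞[x]) := by
  rw [← cj_cent1, ← cj_inf, card_cj]

omit [Finite G] in
theorem cl_wc_cj {A : Subgroup G} (wc : ∀ g : G, cj g A ≤ 𝒩(A) → cj g A = A) (m : G) :
    ∀ g : G, cj g (cj m A) ≤ 𝒩(cj m A) → cj g (cj m A) = cj m A := fun g hg => by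
  rw [← cj_normalizer, le_cj_iff, cj_cj, cj_cj] at hg
  have := wc _ hg
  rw [cj_cj]
  conv_rhs => rw [← this, cj_cj]
  congr 1; group

omit [Finite G] in
theorem cl_h1_cj {A : Subgroup G} {j : ℕ}
    (h1 : ∀ r ∈ 𝒩(A), r ∉ A → r * r = 1 → Nat.card ↥(A ⊓ 𝒞[r]) ≤ j) (m : G) :
    ∀ r ∈ 𝒩(cj m A), r ∉ cj m A → r * r = 1 → Nat.card ↥(cj m A ⊓ 𝒞[r]) ≤ j := fun r hr rA r2 => by
  rw [← cj_normalizer, mem_cj] at hr
  rw [mem_cj] at rA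
  have := h1 _ hr rA (by rw [show m⁻¹ * r * m * (m⁻¹ * r * m) = m⁻¹ * (r * r) * m by group, r2]; group)
  rwa [← cl_fix_cj m, show m * (m⁻¹ * r * m) * m⁻¹ = r by group] at this

omit [Finite G] in
theorem cl_h2_cj {A : Subgroup G} {k : ℕ}
    (h2 : ∀ E : Subgroup G, E ≤ 𝒩(A) → (∀ e ∈ E, e * e = 1) → Nat.card E ≤ k * Nat.card ↥(E ⊓ A)) (m : G) :
    ∀ E : Subgroup G, E ≤ 𝒩(cj m A) → (∀ e ∈ E, e * e = 1) → Nat.card E ≤ k * Nat.card ↥(E ⊓ cj m A) :=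
  fun E hE sq => by
  rw [← cj_normalizer, le_cj_iff] at hE
  have := h2 _ hE (cl_sq_cj sq _)
  rwa [card_cj, ← card_cj m (_ ⊓ _), cj_inf, cj_cj_inv] at this

/-- weak closure from the two numerical conditions -/
theorem cl_wc {A : Subgroup G} {j k : ℕ} (ab : A ≤ 𝒞(A)) (sq : ∀ a ∈ A, a * a = 1)
    (h1 : ∀ r ∈ 𝒩(A), r ∉ A → r * r = 1 → Nat.card ↥(A ⊓ 𝒞[r]) ≤ j)
    (h2 : ∀ E : Subgroup G, E ≤ 𝒩(A) → (∀ e ∈ E, e * e = 1) → Nat.card E ≤ k * Nat.card ↥(E ⊓ A))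
    (hjk : k * j < Nat.card A) : ∀ g : G, cj g A ≤ 𝒩(A) → cj g A = A := fun g hg => by
  by_cases h0 : cj g A ≤ A
  · exact eq_of_le_of_card_eq h0 (card_cj g A)
  obtain ⟨r, hr, rA⟩ := SetLike.not_le_iff_exists.1 h0
  have h3 := h2 _ hg (cl_sq_cj sq g)
  have h4 := h1 r (hg hr) rA (cl_sq_cj sq g r hr)
  have h5 : cj g A ⊓ A ≤ A ⊓ 𝒞[r] := fun x hx =>
    ⟨hx.2, mem_cent1.2 (cl_comm (cl_ab_cj ab g) hx.1 hr)⟩
  have h6 := Nat.mul_le_mul_left k ((card_le_of_le h5).trans h4)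
  rw [card_cj] at h3
  omega

/-- the bound given by the Sylow trick -/
theorem cl_bound {A E : Subgroup G} {k : ℕ} {r g : G} (ab : A ≤ 𝒞(A)) (sq : ∀ a ∈ A, a * a = 1)
    (wc : ∀ g : G, cj g A ≤ 𝒩(A) → cj g A = A)
    (h2 : ∀ E : Subgroup G, E ≤ 𝒩(A) → (∀ e ∈ E, e * e = 1) → Nat.card E ≤ k * Nat.card ↥(E ⊓ A))
    (hr : r ∈ 𝒩(A)) (rA : r ∉ A) (r2 : r * r = 1) (rg : r ∈ cj g A) (hE : E ≤ cj g A)
    (EU : E ≤ 𝒩(A ⊓ 𝒞[r])) : Nat.card E ≤ k * Nat.card ↥(A ⊓ 𝒞[r] ⊓ cj g A) := by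
  have sE : ∀ e ∈ E, e * e = 1 := fun e he => cl_sq_cj sq g e (hE he)
  have Er : E ≤ 𝒞[r] := fun e he => mem_cent1.2 (cl_comm (cl_ab_cj ab g) (hE he) rg)
  obtain ⟨m, -, T, hT, -, ET, AT, -, hU⟩ := trick (X := ⊤) (cl_two sq) (cl_two sE) le_top le_top ab rfl
    (fun a ha => comm_fix ab sq hr (r2 ▸ one_mem _) ha) rA EU Er
  have h3 := wc_two (X := ⊤) (fun g _ => cl_wc_cj wc m g) hT le_top AT
  refine (cl_h2_cj h2 m E (ET.trans h3) sE).trans (Nat.mul_le_mul_left k (card_le_of_le ?_))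
  exact fun x hx => ⟨hU ▸ ⟨hx.2, Er hx.1⟩, hE hx.1⟩

/-- reduction of strong closure to one configuration -/
theorem cl_main (c : Ctx G) {s : G} (hs : orderOf s = 3) (h0 : V s ≠ ⊥) {A : Subgroup G} (A0 : A ≠ ⊥)
    (ab : A ≤ 𝒞(A)) (sq : ∀ a ∈ A, a * a = 1) (wc : ∀ g : G, cj g A ≤ 𝒩(A) → cj g A = A)
    (h : ∀ r ∈ 𝒩(A), r ∉ A → r * r = 1 → ∀ g : G, r ∈ cj g A → A ⊓ 𝒞[r] ≤ 𝒩(cj g A) → False) :
    False := by
  obtain ⟨S, hS, AS⟩ := exists_sylowOf_ge (isPi_of_isPGroup pr2 (cl_two sq)) (le_normalizer (H := A))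
  refine c.no_sc hs h0 (wc_sylow (fun g hg => wc g (hg.trans hS.le)) AS hS) AS A0 ab sq
    fun x hx x2 g hg => by_contra fun xA => ?_
  obtain ⟨m, hm, hU⟩ := wc_move (U := A ⊓ 𝒞[x]) (r := x) (g := g) wc (cl_two sq)
    (fun e he => mem_cent1.2 (cl_comm (cl_ab_cj ab g) he hg)) (cl_two sq).to_inf_left inf_le_right
  refine h x (hS.le hx) xA x2 _ ?_ hU
  rw [cj_mul, mem_cj, mul_assoc, ← mem_cent1.1 hm, inv_mul_cancel_left]
  exact hg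

omit [Finite G] in
/-- an element normalising generators -/
theorem cl_mem_norm [Finite G] {B : Subgroup G} {a : G} (h : B ≤ cj a⁻¹ B) : a ∈ 𝒩(B) :=
  mem_norm_of_cj_le (cj_le_iff.2 h)

omit [Finite G] in
theorem cl_mem_cj_inv {B : Subgroup G} {a x : G} : x ∈ cj a⁻¹ B ↔ a * x * a⁻¹ ∈ B := by
  rw [mem_cj, inv_inv]

variable {P : Subgroup G} {y s r x : G}

/-- a nontrivial invariant subgroup of `V s ⊔ V r` contains one of the two factors -/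
theorem cl_sub (f : Fr P y) (h : Hyp G) (hs : s ∈ P) (s1 : s ≠ 1) (hr : r ∈ P) (hi : r ∉ zpowers s)
    (e : V r ≤ 𝒞(V s)) {W : Subgroup G} (hW : P ≤ 𝒩(W)) (WA : W ≤ V s ⊔ V r) (W0 : W ≠ ⊥) :
    V s ≤ W ∨ V r ≤ W := by
  have r1 : r ≠ 1 := fun e => hi (e ▸ one_mem _)
  rcases f.irr h hs s1 hW with h1 | h1
  · exact Or.inl h1
  rcases f.irr h hr r1 hW with h2 | h2
  · exact Or.inr h2
  obtain ⟨w, hw, w1⟩ := ne_bot_iff_exists.1 W0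
  obtain ⟨a, ha, b, hb, rfl⟩ := (mem_sup_of_norm_left (norm_of_cent e)).1 (WA hw)
  have as := mem_cent1.1 (h.V_le (f.ord hs s1) ha)
  have h3 : (a * b)⁻¹ * (s * (a * b) * s⁻¹) = b⁻¹ * (s * b * s⁻¹) := by
    rw [← mul_assoc s, ← as]; group
  have h4 : b⁻¹ * (s * b * s⁻¹) ∈ V r ⊓ W :=
    mem_inf.2 ⟨mul_mem (inv_mem hb) (conj_mem_of_norm (f.P_V hr) hs hb),
      h3 ▸ mul_mem (inv_mem hw) (conj_mem_of_norm hW hs hw)⟩
  rw [h2, mem_bot, inv_mul_eq_one] at h4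
  have h5 : b ∈ V r ⊓ 𝒞[s] := ⟨hb, mem_cent1.2 (eq_mul_inv_iff_mul_eq.1 h4)⟩
  rw [f.disj h hr r1 hs (f.ind_symm hs s1 hr hi), mem_bot] at h5
  have h6 : a * b ∈ V s ⊓ W := ⟨by rw [h5, mul_one]; exact ha, hw⟩
  rw [h1, mem_bot] at h6
  exact absurd h6 w1

theorem cl_V_eq (f : Fr P y) (h : Hyp G) (hs : s ∈ P) (s1 : s ≠ 1) (h0 : V s ≠ ⊥) {W : Subgroup G}
    (hW : V s ≤ W) (hc : Nat.card W = 4) : W = V s :=
  (eq_of_le_of_card_eq hW (by rw [hc, h.V_four (f.ord hs s1) h0])).symm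

/-- a four-group -/
theorem cl_sub4 (f : Fr P y) (h : Hyp G) (hs : s ∈ P) (s1 : s ≠ 1) (hr : r ∈ P) (hi : r ∉ zpowers s)
    (e : V r ≤ 𝒞(V s)) (h1 : V s ≠ ⊥) (h2 : V r ≠ ⊥) {W : Subgroup G} (hW : P ≤ 𝒩(W))
    (WA : W ≤ V s ⊔ V r) (hc : Nat.card W = 4) : W = V s ∨ W = V r := by
  have r1 : r ≠ 1 := fun e => hi (e ▸ one_mem _)
  have W0 : W ≠ ⊥ := fun e => by rw [e, card_bot] at hc; omega
  exact (cl_sub f h hs s1 hr hi e hW WA W0).imp (fun k => cl_V_eq f h hs s1 h1 k hc)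
    fun k => cl_V_eq f h hr r1 h2 k hc

theorem cl_inf (f : Fr P y) (h : Hyp G) (hs : s ∈ P) (s1 : s ≠ 1) (hr : r ∈ P) (hi : r ∉ zpowers s) :
    V s ⊓ V r = ⊥ := by
  have r1 : r ≠ 1 := fun e => hi (e ▸ one_mem _)
  exact eq_bot_iff.2 ((inf_le_inf_left _ (h.V_le (f.ord hr r1))).trans (f.disj h hs s1 hr hi).le)

theorem cl_disj (f : Fr P y) (h : Hyp G) (hs : s ∈ P) (s1 : s ≠ 1) (hr : r ∈ P) (hi : r ∉ zpowers s)
    (e : V r ≤ 𝒞(V s)) (h1 : V s ≠ ⊥) (h2 : V r ≠ ⊥) (hx : x ∈ P) (xs : x ∉ zpowers s)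
    (xr : x ∉ zpowers r) : (V s ⊔ V r) ⊓ V x = ⊥ := by
  have r1 : r ≠ 1 := fun e => hi (e ▸ one_mem _)
  by_contra h0
  rcases cl_sub f h hs s1 hr hi e (norm_inf (norm_sup (f.P_V hs) (f.P_V hr)) (f.P_V hx)) inf_le_left h0
    with k | k
  · exact h1 (eq_bot_iff.2 ((le_inf le_rfl (k.trans inf_le_right)).trans (cl_inf f h hs s1 hx xs).le))
  · exact h2 (eq_bot_iff.2 ((le_inf le_rfl (k.trans inf_le_right)).trans (cl_inf f h hr r1 hx xr).le))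

theorem cl_ab2 (f : Fr P y) (h : Hyp G) (hs : s ∈ P) (s1 : s ≠ 1) (hr : r ∈ P) (hi : r ∉ zpowers s)
    (e : V r ≤ 𝒞(V s)) : V s ⊔ V r ≤ 𝒞(V s ⊔ V r) := by
  have r1 : r ≠ 1 := fun e => hi (e ▸ one_mem _)
  rw [cent_sup]
  exact le_inf (sup_le (h.V_ab (f.ord hs s1)) e) (sup_le (cent_symm e) (h.V_ab (f.ord hr r1)))

theorem cl_sq2 (f : Fr P y) (h : Hyp G) (hs : s ∈ P) (s1 : s ≠ 1) (hr : r ∈ P) (hi : r ∉ zpowers s)
    (e : V r ≤ 𝒞(V s)) : ∀ a ∈ V s ⊔ V r, a * a = 1 := fun w hw => by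
  have r1 : r ≠ 1 := fun e => hi (e ▸ one_mem _)
  obtain ⟨a, ha, b, hb, rfl⟩ := (mem_sup_of_norm_left (norm_of_cent e)).1 hw
  rw [mul_assoc, ← mul_assoc b, cl_comm e hb ha, mul_assoc, h.V_sq (f.ord hr r1) hb, mul_one,
    h.V_sq (f.ord hs s1) ha]

theorem cl_card2 (f : Fr P y) (h : Hyp G) (hs : s ∈ P) (s1 : s ≠ 1) (hr : r ∈ P) (hi : r ∉ zpowers s)
    (e : V r ≤ 𝒞(V s)) (h1 : V s ≠ ⊥) (h2 : V r ≠ ⊥) : Nat.card ↥(V s ⊔ V r) = 16 := by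
  have r1 : r ≠ 1 := fun e => hi (e ▸ one_mem _)
  rw [card_sup_of_disjoint (Or.inr (norm_of_cent e)) (cl_inf f h hs s1 hr hi), h.V_four (f.ord hs s1) h1,
    h.V_four (f.ord hr r1) h2]

/-- a `V x` normalising `V s ⊔ V r` centralises a factor -/
theorem cl_nrm (f : Fr P y) (h : Hyp G) (hs : s ∈ P) (s1 : s ≠ 1) (hr : r ∈ P) (hi : r ∉ zpowers s)
    (e : V r ≤ 𝒞(V s)) (h1 : V s ≠ ⊥) (hx : x ∈ P) (x1 : x ≠ 1) (hn : V x ≤ 𝒩(V s ⊔ V r)) :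
    V x ≤ 𝒞(V s) ∨ V x ≤ 𝒞(V r) := by
  have PA := norm_sup (f.P_V hs) (f.P_V hr)
  have hK : IsPGroup 2 ↥(V s ⊔ V r ⊔ V x) :=
    (cl_two (cl_sq2 f h hs s1 hr hi e)).to_sup_of_normal_left' (h.V_two (f.ord hx x1)) hn
  have h3 := inf_center_ne_bot_of_nilpotent (isPi_of_isPGroup pr2 hK).nilpotent le_sup_left
    (sup_le le_normalizer hn) (ne_bot_mono le_sup_left h1)
  exact (cl_sub f h hs s1 hr hi e (norm_inf PA (norm_cent (norm_sup PA (f.P_V hx)))) inf_le_left h3).imp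
    (fun k => cent_symm ((k.trans inf_le_right).trans (cent_anti le_sup_right)))
    fun k => cent_symm ((k.trans inf_le_right).trans (cent_anti le_sup_right))

/-- the fixed points of `z` on `V s ⊔ V r` -/
theorem cl_fixz (f : Fr P y) (h : Hyp G) (hs : s ∈ P) (s1 : s ≠ 1) (hr : r ∈ P) (hi : r ∉ zpowers s)
    (e : V r ≤ 𝒞(V s)) : Nat.card ↥((V s ⊔ V r) ⊓ 𝒞[y * y]) ≤ 4 := by
  have r1 : r ≠ 1 := fun e => hi (e ▸ one_mem _)
  have h1 := card_fix_le (norm_of_cent e) (f.z_V hs) (f.z_V hr) (cl_inf f h hs s1 hr hi)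
    fun w _ => by rw [mul_inv_cancel]; exact one_mem _
  exact h1.trans (Nat.mul_le_mul (f.card_fix_z h hs s1) (f.card_fix_z h hr r1))

theorem cl_z_cent (f : Fr P y) (h : Hyp G) (hs : s ∈ P) (s1 : s ≠ 1) (h1 : V s ≠ ⊥) : y * y ∉ 𝒞(V s) :=
  fun k => by
  have := f.card_fix_z h hs s1
  rw [inf_eq_left.2 (le_cent1_iff.2 k), h.V_four (f.ord hs s1) h1] at this
  omega

end Cfsg.Agent.C34
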