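import Cfsg.Agent.H49.Hall
import Cfsg.Prelude.Def_Classical
import Cfsg.Prelude.Def_Spor_Mathieu

set_option autoImplicit false

namespace Cfsg.Agent.C34

open Cfsg Cfsg.Agent.H49 Subgroup

universe u

/-- the hypothesis of S3253 -/
def Hyp (G : Type*) [Group G] : Prop := ∀ s : G, orderOf s = 3 →
  Nonempty (↥(Subgroup.centralizer ({s} : Set G)) ≃* (Multiplicative (ZMod 3) × Multiplicative (ZMod 3))) ∨
  Nonempty (↥(Subgroup.centralizer ({s} : Set G)) ≃* (Multiplicative (ZMod 3) × ↥(alternatingGroup (Fin 4))))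

/-- the conclusion of S3253 -/
def Concl (G : Type*) [Group G] : Prop :=
  Nonempty (G ≃* ↥(alternatingGroup (Fin 6))) ∨ Nonempty (G ≃* ↥(alternatingGroup (Fin 7))) ∨
    (∃ (F : Type) (_ : Field F) (_ : Fintype F), (Fintype.card F = 4 ∨ Fintype.card F = 7) ∧
      Nonempty (G ≃* Matrix.ProjectiveSpecialLinearGroup (Fin 3) F)) ∨
    (∃ (F : Type) (_ : Field F) (_ : Fintype F), Fintype.card F = 25 ∧ Nonempty (G ≃* Cfsg.PSU 3 F 5)) ∨
    Cfsg.Spor.IsoM22 G

variable {G : Type u} [Group G]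

/-- the involutions (and 1) commuting with `s` -/
def V (s : G) : Subgroup G := closure {x | x * s = s * x ∧ x * x = 1}

/-- `O₂(C(V s))` -/
noncomputable def NN (s : G) : Subgroup G := piCoreOf {2} 𝒞(V s)

/-- a Sylow 3-subgroup with an element of order 4 whose square inverts it -/
structure Fr (P : Subgroup G) (y : G) : Prop where
  card : Nat.card P = 9
  cube : ∀ x ∈ P, x ^ 3 = 1
  cent : 𝒞(P) = P
  ny : y ∈ 𝒩(P)
  inv : ∀ x ∈ P, y * y * x * (y * y)⁻¹ = x⁻¹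
  y4 : y * y * (y * y) = 1

/-- the standing hypotheses -/
structure Ctx (G : Type u) [Group G] : Prop where
  hyp : Hyp G
  simple : IsSimpleGroup G
  nab : ¬ IsMulCommutative G
  ex : ∃ s : G, orderOf s = 3

theorem pr2 : Nat.Prime 2 := Nat.prime_two
theorem pr3 : Nat.Prime 3 := Nat.prime_three

/-- the facts on the second factor -/
structure KF (K : Type) [Group K] : Prop where
  k1 : ∀ a b : K, a * a = 1 → b * b = 1 → a * b * (a * b) = 1
  k2 : ∀ a : K, a ^ 3 * a ^ 3 = 1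
  k3 : ∀ a b : K, a * b * a⁻¹ * b⁻¹ * (a * b * a⁻¹ * b⁻¹) = 1
  k4 : Nat.card K = 3 * Nat.card {a : K // a * a = 1} ∧
    (Nat.card {a : K // a * a = 1} = 1 ∨ Nat.card {a : K // a * a = 1} = 4)
  k5 : ∀ a b : K, b * b = 1 → a ^ 3 = 1 → b * a = a * b → b = 1 ∨ a = 1
  k6 : ∀ c : K, (∀ x, x * c = c * x) → c = 1 ∨ ∀ b : K, b * b = 1 → b = 1

theorem kf3 : KF (Multiplicative (ZMod 3)) where
  k1 := by decide
  k2 := by decide
  k3 := by decide
  k4 := by simp only [Nat.card_eq_fintype_card]; decide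
  k5 := by decide
  k6 := by decide

theorem kf4 : KF (alternatingGroup (Fin 4)) where
  k1 := by decide +kernel
  k2 := by decide +kernel
  k3 := by decide +kernel
  k4 := by simp only [Nat.card_eq_fintype_card]; decide +kernel
  k5 := by decide +kernel
  k6 := by decide +kernel

theorem z3a : ∀ c : Multiplicative (ZMod 3), c * c = 1 → c = 1 := by decide
theorem z3b : ∀ c : Multiplicative (ZMod 3), c ^ 3 = 1 := by decide
theorem z3c : ∀ c d : Multiplicative (ZMod 3), c ≠ 1 → d = 1 ∨ d = c ∨ d = c * c := by decide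

/-- the local facts at one element of order three -/
structure Loc (s : G) : Prop where
  mul : ∀ a b : G, a * s = s * a → b * s = s * b → a * a = 1 → b * b = 1 → a * b * (a * b) = 1
  six : ∀ a : G, a * s = s * a → a ^ 3 * a ^ 3 = 1
  comm : ∀ a b : G, a * s = s * a → b * s = s * b → a * b * a⁻¹ * b⁻¹ * (a * b * a⁻¹ * b⁻¹) = 1
  card : Nat.card 𝒞[s] = 9 * Nat.card {a : G // a * s = s * a ∧ a * a = 1} ∧
    (Nat.card {a : G // a * s = s * a ∧ a * a = 1} = 1 ∨ Nat.card {a : G // a * s = s * a ∧ a * a = 1} = 4)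
  fpf : ∀ r v : G, r * s = s * r → v * s = s * v → r ^ 3 = 1 → r ∉ zpowers s → v * v = 1 →
    v * r = r * v → v = 1

theorem loc_of {s : G} (hs : orderOf s = 3) {K : Type} [Group K] (k : KF K)
    (e : 𝒞[s] ≃* Multiplicative (ZMod 3) × K) : Loc s := by
  have m : ∀ {a : G}, a * s = s * a → a ∈ 𝒞[s] := fun h => mem_cent1.2 h
  have one : ∀ {x : 𝒞[s]}, e x = 1 → (x : G) = 1 := fun h => by
    rw [EmbeddingLike.map_eq_one_iff.1 h]; rfl
  have sq : ∀ {a : G} (h : a ∈ 𝒞[s]), a * a = 1 → e ⟨a, h⟩ * e ⟨a, h⟩ = 1 := fun h h2 => by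
    rw [← map_mul, ← map_one e]; exact congrArg e (Subtype.ext h2)
  refine ⟨fun a b ha hb a2 b2 => ?_, fun a ha => ?_, fun a b ha hb => ?_, ?_,
    fun r v hr hv r3 rs v2 vr => ?_⟩
  · refine one (x := ⟨a, m ha⟩ * ⟨b, m hb⟩ * (⟨a, m ha⟩ * ⟨b, m hb⟩)) ?_
    have h1 := sq (m ha) a2
    have h2 := sq (m hb) b2
    simp only [map_mul]
    refine Prod.ext ?_ (k.k1 _ _ (congrArg Prod.snd h1) (congrArg Prod.snd h2))
    simp [z3a _ (congrArg Prod.fst h1), z3a _ (congrArg Prod.fst h2)]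
  · refine one (x := ⟨a, m ha⟩ ^ 3 * ⟨a, m ha⟩ ^ 3) ?_
    simp only [map_mul, map_pow]
    exact Prod.ext (by simp [z3b]) (k.k2 _)
  · refine one (x := ⟨a, m ha⟩ * ⟨b, m hb⟩ * ⟨a, m ha⟩⁻¹ * ⟨b, m hb⟩⁻¹ *
      (⟨a, m ha⟩ * ⟨b, m hb⟩ * ⟨a, m ha⟩⁻¹ * ⟨b, m hb⟩⁻¹)) ?_
    simp only [map_mul, map_inv]
    exact Prod.ext (by simp) (k.k3 _ _)
  · have h : Nat.card {a : G // a * s = s * a ∧ a * a = 1} = Nat.card {a : K // a * a = 1} := by
      refine Nat.card_congr ⟨fun a => ⟨(e ⟨a, m a.2.1⟩).2, congrArg Prod.snd (sq _ a.2.2)⟩,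
        fun a => ⟨e.symm (1, a), mem_cent1.1 (e.symm (1, a)).2, ?_⟩, fun a => ?_, fun a => ?_⟩
      · refine one (x := e.symm (1, a) * e.symm (1, a)) ?_
        simp [a.2]
      · apply Subtype.ext
        have : ((1 : Multiplicative (ZMod 3)), (e ⟨a, m a.2.1⟩).2) = e ⟨a, m a.2.1⟩ :=
          Prod.ext (z3a _ (congrArg Prod.fst (sq _ a.2.2))).symm rfl
        simp only [this, MulEquiv.symm_apply_apply]
      · apply Subtype.ext
        simp
    rw [h, Nat.card_congr e.toEquiv, Nat.card_prod, k.k4.1]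
    refine ⟨?_, k.k4.2⟩
    simp only [Nat.card_eq_fintype_card, Fintype.card_multiplicative, ZMod.card]
    ring
  · have s1 : s ≠ 1 := fun h => by rw [h, orderOf_one] at hs; exact absurd hs (by decide)
    have hv2 := sq (m hv) v2
    have hb : (e ⟨v, m hv⟩).2 = 1 → v = 1 := fun h =>
      one (x := ⟨v, m hv⟩) (Prod.ext (z3a _ (congrArg Prod.fst hv2)) h)
    have hc : ∀ x, x * (e ⟨s, m rfl⟩).2 = (e ⟨s, m rfl⟩).2 * x := fun x => by
      have : e.symm (1, x) * ⟨s, m rfl⟩ = ⟨s, m rfl⟩ * e.symm (1, x) :=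
        Subtype.ext (mem_cent1.1 (e.symm (1, x)).2)
      have h2 := congrArg (fun t => (e t).2) this
      simpa using h2
    rcases k.k6 _ hc with h | h
    · have h3 : e ⟨r, m hr⟩ ^ 3 = 1 := by
        rw [← map_pow, ← map_one e]; exact congrArg e (Subtype.ext r3)
      have h4 : e ⟨v, m hv⟩ * e ⟨r, m hr⟩ = e ⟨r, m hr⟩ * e ⟨v, m hv⟩ := by
        rw [← map_mul, ← map_mul]; exact congrArg e (Subtype.ext vr)
      rcases k.k5 _ _ (congrArg Prod.snd hv2) (congrArg Prod.snd h3) (congrArg Prod.snd h4) with h5 | h5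
      · exact hb h5
      · exfalso
        have h6 : (e ⟨s, m rfl⟩).1 ≠ 1 := fun h6 => s1 (one (x := ⟨s, m rfl⟩) (Prod.ext h6 h))
        apply rs
        rcases z3c _ (e ⟨r, m hr⟩).1 h6 with h7 | h7 | h7
        · rw [show r = 1 from one (x := ⟨r, m hr⟩) (Prod.ext h7 h5)]; exact one_mem _
        · have := e.injective (Prod.ext h7 (h5.trans h.symm))
          rw [show r = s from congrArg Subtype.val this]; exact mem_zpowers s
        · have : e ⟨r, m hr⟩ = e (⟨s, m rfl⟩ * ⟨s, m rfl⟩) := by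
            rw [map_mul]; exact Prod.ext h7 (by simp [h5, h])
          rw [show r = s * s from congrArg Subtype.val (e.injective this)]
          exact mul_mem (mem_zpowers s) (mem_zpowers s)
    · exact hb (h _ (congrArg Prod.snd hv2))

namespace Hyp

variable (h : Hyp G) {s : G}
include h

theorem loc (hs : orderOf s = 3) : Loc s :=
  (h s hs).elim (fun ⟨e⟩ => loc_of hs kf3 e) fun ⟨e⟩ => loc_of hs kf4 e

theorem mem_V (hs : orderOf s = 3) {x : G} : x ∈ V s ↔ x * s = s * x ∧ x * x = 1 := by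
  refine ⟨fun hx => ?_, fun hx => subset_closure hx⟩
  induction hx using closure_induction with
  | mem x hx => exact hx
  | one => simp
  | mul a b _ _ ha hb =>
    exact ⟨by rw [mul_assoc, hb.1, ← mul_assoc, ha.1, mul_assoc], (h.loc hs).mul a b ha.1 hb.1 ha.2 hb.2⟩
  | inv a _ ha => rw [inv_eq_of_mul_eq_one_right ha.2]; exact ha

theorem card_eq (hs : orderOf s = 3) :
    Nat.card (V s) = Nat.card {a : G // a * s = s * a ∧ a * a = 1} :=
  Nat.card_congr (Equiv.subtypeEquivRight fun _ => h.mem_V hs)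

theorem card_V (hs : orderOf s = 3) : Nat.card (V s) = 1 ∨ Nat.card (V s) = 4 := by
  rw [h.card_eq hs]; exact (h.loc hs).card.2

theorem card_C (hs : orderOf s = 3) : Nat.card 𝒞[s] = 9 * Nat.card (V s) := by
  rw [h.card_eq hs]; exact (h.loc hs).card.1

theorem cube_mem (hs : orderOf s = 3) {x : G} (hx : x * s = s * x) : x ^ 3 ∈ V s :=
  (h.mem_V hs).2 ⟨(Commute.pow_left hx 3).eq, (h.loc hs).six x hx⟩

/-- elements commuting with an element of order 3 have order dividing 6 -/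
theorem pow_six (hs : orderOf s = 3) {x : G} (hx : x * s = s * x) : x ^ 6 = 1 := by
  rw [← (h.loc hs).six x hx, ← pow_add]

theorem comm_mem (hs : orderOf s = 3) {x y : G} (hx : x * s = s * x) (hy : y * s = s * y) :
    x * y * x⁻¹ * y⁻¹ ∈ V s :=
  (h.mem_V hs).2 ⟨mem_cent1.1 (mul_mem (mul_mem (mul_mem (mem_cent1.2 hx) (mem_cent1.2 hy))
    (inv_mem (mem_cent1.2 hx))) (inv_mem (mem_cent1.2 hy))), (h.loc hs).comm x y hx hy⟩

theorem fpf (hs : orderOf s = 3) {r v : G} (hr : r * s = s * r) (r3 : r ^ 3 = 1) (rs : r ∉ zpowers s)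
    (hv : v ∈ V s) (vr : v * r = r * v) : v = 1 :=
  (h.loc hs).fpf r v hr ((h.mem_V hs).1 hv).1 r3 rs ((h.mem_V hs).1 hv).2 vr

/-- no element of order divisible by 9 -/
theorem not_nine [Finite G] (g : G) : ¬ 9 ∣ orderOf g := fun ⟨k, hk⟩ => by
  have h0 : orderOf g ≠ 0 := (orderOf_pos g).ne'
  have k0 : k ≠ 0 := by rintro rfl; exact h0 hk
  have h3 : orderOf (g ^ (3 * k)) = 3 := by
    rw [orderOf_pow' _ (by omega), hk, Nat.gcd_eq_right ⟨3, by ring⟩,
      show 9 * k = 3 * (3 * k) by ring, Nat.mul_div_cancel _ (by omega)]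
  have := orderOf_dvd_of_pow_eq_one (h.pow_six h3 (Commute.self_pow g _).eq)
  rw [hk] at this
  exact absurd (Nat.le_of_dvd (by norm_num) this) (by omega)

/-- no element of `C(s)` inverts an element of order 3 of `C(s)` -/
theorem no_bad (hs : orderOf s = 3) {r t : G} (hr : orderOf r = 3) (rs : r * s = s * r)
    (ts : t * s = s * t) : t * r * t⁻¹ ≠ r⁻¹ := fun e => by
  have h1 := ((h.mem_V hs).1 (h.comm_mem hs ts rs)).2
  rw [e] at h1
  have h2 : r ^ 4 = 1 := by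
    rw [← inv_eq_one, ← h1]; group
  have := orderOf_dvd_of_pow_eq_one h2
  rw [hr] at this
  exact absurd this (by decide)

theorem of_equiv {H : Type*} [Group H] (e : G ≃* H) : Hyp H := fun s hs => by
  have h3 : orderOf (e.symm s) = 3 := by rw [MulEquiv.orderOf_eq, hs]
  have f : 𝒞[s] ≃* 𝒞[e.symm s] :=
    (MulEquiv.subgroupMap e.symm 𝒞[s]).trans (MulEquiv.subgroupCongr (by
      ext x
      simp only [mem_map, mem_cent1, MonoidHom.coe_coe]
      refine ⟨fun ⟨y, hy, hx⟩ => by rw [← hx, ← map_mul, ← map_mul, hy], fun hx => ⟨e x, ?_, by simp⟩⟩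
      apply e.symm.injective
      simpa using hx))
  exact (h _ h3).imp (fun ⟨g⟩ => ⟨f.trans g⟩) fun ⟨g⟩ => ⟨f.trans g⟩

theorem nine_dvd (hs : orderOf s = 3) : 9 ∣ Nat.card G :=
  dvd_trans (h.card_C hs ▸ Dvd.intro _ rfl) (card_subgroup_dvd_card 𝒞[s])

/-- a 3-subgroup has order dividing 9 -/
theorem card_three [Finite G] {P : Subgroup G} (hP : IsPGroup 3 P) : Nat.card P ∣ 9 := by
  by_cases h0 : P = ⊥
  · simp [h0]
  have hp := isPi_of_isPGroup pr3 hP
  have h1 := center_ne_bot_of_nilpotent hp.nilpotent h0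
  obtain ⟨s, hs, h3⟩ := exists_orderOf_eq_of_dvd_card pr3 ((hp.inf_left 𝒞(P)).dvd_card h1)
  have h2 : Nat.card P ∣ 9 * Nat.card (V s) :=
    h.card_C h3 ▸ card_dvd_of_le (le_cent1_iff.2 hs.2)
  obtain ⟨k, hk⟩ := hp.exists_card_eq_pow pr3
  refine Nat.Coprime.dvd_of_dvd_mul_right ?_ h2
  rw [hk]
  rcases h.card_V h3 with e | e <;> rw [e] <;> exact Nat.Coprime.pow_left _ (by decide)

theorem not_27 [Finite G] : ¬ 27 ∣ Nat.card G := fun e => by
  have := Fact.mk pr3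
  obtain ⟨P, hP⟩ := Sylow.exists_subgroup_card_pow_prime 3 (n := 3) (G := G) e
  have := h.card_three (IsPGroup.of_card hP)
  rw [hP] at this
  exact absurd this (by decide)

end Hyp

theorem Concl.of_equiv {H : Type*} [Group H] (h : Concl H) (e : G ≃* H) : Concl G := by
  rcases h with ⟨⟨f⟩⟩ | ⟨⟨f⟩⟩ | ⟨F, _, _, h, ⟨f⟩⟩ | ⟨F, _, _, h, ⟨f⟩⟩ | ⟨⟨f⟩⟩
  · exact Or.inl ⟨e.trans f⟩
  · exact Or.inr (Or.inl ⟨e.trans f⟩)
  · exact Or.inr (Or.inr (Or.inl ⟨F, _, _, h, ⟨e.trans f⟩⟩))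
  · exact Or.inr (Or.inr (Or.inr (Or.inl ⟨F, _, _, h, ⟨e.trans f⟩⟩)))
  · exact Or.inr (Or.inr (Or.inr (Or.inr ⟨e.trans f⟩)))

end Cfsg.Agent.C34
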