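import Cfsg.Agent.C34.Defs
import Cfsg.Agent.H14.Code
import Cfsg.Agent.H56.Mod.L34

set_option autoImplicit false

namespace Cfsg.Agent.C34

open Cfsg Cfsg.Agent.H49 Subgroup

universe u

namespace El

open H14

theorem not_mem_zpowers {H : Type*} [Group H] {a b : H} (h : orderOf a = 3) (h0 : b ≠ 1) (h1 : b ≠ a)
    (h2 : b ≠ a * a) : b ∉ zpowers a := by
  rintro ⟨k, rfl⟩
  have e : a ^ k = a ^ (k % 3) := by rw [← zpow_mod_orderOf, h]; rfl
  rcases (by omega : k % 3 = 0 ∨ k % 3 = 1 ∨ k % 3 = 2) with c | c | c <;> rw [c] at e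
  · exact h0 (e.trans (zpow_zero a))
  · exact h1 (e.trans (zpow_one a))
  · exact h2 (e.trans (zpow_two a))

theorem comm_pow {H : Type*} [Group H] {r f : H} (h : orderOf f = 5)
    (hc : ∀ i < 5, r * (f ^ i * r * (f ^ i)⁻¹) = f ^ i * r * (f ^ i)⁻¹ * r) (i : ℕ) :
    Commute r (f ^ i * r * (f ^ i)⁻¹) := by
  rw [← pow_mod_orderOf, h]
  exact hc _ (Nat.mod_lt _ (by decide))

theorem l {H : Type*} [Group H] (a b : H) : a ∈ closure {a, b} := subset_closure (Or.inl rfl)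

theorem r {H : Type*} [Group H] (a b : H) : b ∈ closure {a, b} := subset_closure (Or.inr rfl)

/-- the numbering of six points -/
abbrev E6 : Enc (Fin 6) 6 3 8 := finEnc 6 3 8 rfl (by decide)

end El

open El H14 Enc

theorem five_A6 : ∃ f g a b : alternatingGroup (Fin 6), orderOf f = 5 ∧ (f * (g * f * g⁻¹)) ^ 4 = 1 ∧
    a ∈ closure {f, g * f * g⁻¹} ∧ b ∈ closure {f, g * f * g⁻¹} ∧ orderOf a = 3 ∧ orderOf b = 3 ∧
    a * b = b * a ∧ b ∉ zpowers a := by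
  let e := MulEquiv.refl (alternatingGroup (Fin 6))
  obtain ⟨f, hf⟩ : ∃ f, E6.cd e f = 0o154320 :=
    ⟨⟨Equiv.swap 1 2 * Equiv.swap 2 3 * (Equiv.swap 3 4 * Equiv.swap 4 5), Equiv.Perm.mem_alternatingGroup.2 (by decide)⟩,
      by decide +kernel⟩
  obtain ⟨g, hg⟩ : ∃ g, E6.cd e g = 0o543021 :=
    ⟨⟨Equiv.swap 0 1 * Equiv.swap 1 2, Equiv.Perm.mem_alternatingGroup.2 (by decide)⟩,
      by decide +kernel⟩
  have h1 := l f (g * f * g⁻¹)
  have h2 := r f (g * f * g⁻¹)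
  have o : orderOf (f * f * (g * f * g⁻¹) * f * (g * f * g⁻¹) * (g * f * g⁻¹)) = 3 :=
    E6.cd_ord e rfl (by simp only [cd_mul, cd_inv, hf, hg]; decide +kernel)
  refine ⟨f, g, _, f * (g * f * g⁻¹) * (g * f * g⁻¹) * f * f * (g * f * g⁻¹),
    E6.cd_ord e hf (by decide +kernel), ?_,
    mul_mem (mul_mem (mul_mem (mul_mem (mul_mem h1 h1) h2) h1) h2) h2,
    mul_mem (mul_mem (mul_mem (mul_mem (mul_mem h1 h2) h2) h1) h1) h2, o,
    E6.cd_ord e rfl (by simp only [cd_mul, cd_inv, hf, hg]; decide +kernel), ?_,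
    not_mem_zpowers o ?_ ?_ ?_⟩ <;>
  simp only [Ne, ← E6.cd_inj e, cd_mul, cd_inv, cd_pow, cd_one, hf, hg] <;> decide +kernel

theorem five_L34 {F : Type} [Field F] [Fintype F] (hF : Fintype.card F = 4) :
    ∃ f g a b : Matrix.ProjectiveSpecialLinearGroup (Fin 3) F, orderOf f = 5 ∧ (f * (g * f * g⁻¹)) ^ 4 = 1 ∧
    a ∈ closure {f, g * f * g⁻¹} ∧ b ∈ closure {f, g * f * g⁻¹} ∧ orderOf a = 3 ∧ orderOf b = 3 ∧
    a * b = b * a ∧ b ∉ zpowers a := by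
  obtain ⟨e⟩ := H56.L34.equiv hF
  have m := fun P => H56.L34.chain.cd_ex e (l := H56.L34.gens) (P := P) (by decide +kernel)
  obtain ⟨f, hf⟩ := m _ List.mem_cons_self
  obtain ⟨g, hg⟩ := m _ (List.mem_cons_of_mem _ List.mem_cons_self)
  have h1 := l f (g * f * g⁻¹)
  have h2 := r f (g * f * g⁻¹)
  have o : orderOf (f * (g * f * g⁻¹) * (g * f * g⁻¹) * f * f * f * (g * f * g⁻¹)) = 3 :=
    H56.L34.E.cd_ord e rfl (by simp only [cd_mul, cd_inv, hf, hg]; decide +kernel)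
  refine ⟨f, g, _, f * (g * f * g⁻¹) * f * (g * f * g⁻¹) * f * f * (g * f * g⁻¹) * f * f,
    H56.L34.E.cd_ord e hf (by decide +kernel), ?_,
    mul_mem (mul_mem (mul_mem (mul_mem (mul_mem (mul_mem h1 h2) h2) h1) h1) h1) h2,
    mul_mem (mul_mem (mul_mem (mul_mem (mul_mem (mul_mem (mul_mem (mul_mem h1 h2) h1) h2) h1) h1) h2) h1) h1,
    o, H56.L34.E.cd_ord e rfl (by simp only [cd_mul, cd_inv, hf, hg]; decide +kernel), ?_,
    not_mem_zpowers o ?_ ?_ ?_⟩ <;>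
  simp only [Ne, ← H56.L34.E.cd_inj e, cd_mul, cd_inv, cd_pow, cd_one, hf, hg] <;> decide +kernel

theorem rr_L34 {F : Type} [Field F] [Fintype F] (hF : Fintype.card F = 4) :
    ∃ r f₁ f₂ m : Matrix.ProjectiveSpecialLinearGroup (Fin 3) F, r * r = 1 ∧ orderOf f₁ = 5 ∧ orderOf f₂ = 5 ∧
    (∀ i : ℕ, Commute r (f₁ ^ i * r * (f₁ ^ i)⁻¹)) ∧ (∀ i : ℕ, Commute r (f₂ ^ i * r * (f₂ ^ i)⁻¹)) ∧
    m ∈ closure {f₁, f₂} ∧ orderOf (r * (m * r * m⁻¹)) = 3 := by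
  obtain ⟨e⟩ := H56.L34.equiv hF
  have m := fun P => H56.L34.chain.cd_ex e (l := [0x65082e7c06c44d2b250a76ca20,
    0x63d1b148c40740a494d8b4282f, 0xc5a06224a717d1207142d51a07]) (P := P) (by decide +kernel)
  obtain ⟨t, ht⟩ := m _ List.mem_cons_self
  obtain ⟨f, hf⟩ := m _ (List.mem_cons_of_mem _ List.mem_cons_self)
  obtain ⟨g, hg⟩ := m _ (List.mem_cons_of_mem _ (List.mem_cons_of_mem _ List.mem_cons_self))
  have o1 : orderOf f = 5 := H56.L34.E.cd_ord e hf (by decide +kernel)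
  have o2 : orderOf g = 5 := H56.L34.E.cd_ord e hg (by decide +kernel)
  refine ⟨t, f, g, f * g * g * f, ?_, o1, o2, comm_pow o1 ?_, comm_pow o2 ?_,
    mul_mem (mul_mem (mul_mem (l f g) (r f g)) (r f g)) (l f g),
    H56.L34.E.cd_ord e rfl (by simp only [cd_mul, cd_inv, ht, hf, hg]; decide +kernel)⟩ <;>
  simp only [← H56.L34.E.cd_inj e, cd_mul, cd_inv, cd_pow, cd_one, ht, hf, hg] <;> decide +kernel

end Cfsg.Agent.C34
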