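import Cfsg.Agent.C34.Defs
import Cfsg.Agent.H31.MinL2
import Cfsg.Agent.H9.Torus2
import Cfsg.Agent.H61.No6Lie
import Cfsg.Agent.S0243

set_option autoImplicit false

namespace Cfsg.Agent.C34

open Cfsg Cfsg.Agent.H49 Subgroup Matrix
open scoped MatrixGroups

universe u

theorem Hyp.ord_six {G : Type u} [Group G] [Finite G] (h : Hyp G) {x : G} (h3 : 3 ∣ orderOf x) : orderOf x ∣ 6 := by
  obtain ⟨k, hk⟩ := h3
  have h0 := orderOf_pos x
  refine orderOf_dvd_of_pow_eq_one (h.pow_six (s := x ^ k) ?_ (Commute.self_pow x k).eq)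
  rw [orderOf_pow' _ (by omega), hk, Nat.gcd_eq_right (Dvd.intro_left _ rfl), Nat.mul_div_cancel _ (by omega)]

theorem Hyp.sl2 {G : Type u} [Group G] [Finite G] (h : Hyp G) {K : Type} [Field K] [Finite K] (ε : SL(2, K) →* G)
    (hε : Function.Injective ε) : (3 ∣ Nat.card K - 1 → Nat.card K - 1 ∣ 6) ∧ (3 ∣ Nat.card K + 1 → Nat.card K + 1 ∣ 6) := by
  obtain ⟨x, -, hx, -⟩ := H9.exists_sl_two_orderOf_sub_one (F := K)
  obtain ⟨y, -, hy, -⟩ := H9.exists_sl_two_orderOf_add_one (F := K)
  rw [← hx, ← hy, ← orderOf_injective ε hε, ← orderOf_injective ε hε y]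
  exact ⟨h.ord_six, h.ord_six⟩

/-- the block embedding -/
def blk (F : Type) [Field F] : SL(2, F) →* SL(3, F) where
  toFun g := ⟨!![g 0 0, g 0 1, 0; g 1 0, g 1 1, 0; 0, 0, 1], by
    have := g.det_coe
    rw [det_fin_two] at this
    rw [det_fin_three]; simpa using this⟩
  map_one' := Subtype.ext (by ext i j; fin_cases i <;> fin_cases j <;> simp)
  map_mul' g h := Subtype.ext (by
    change _ = (!![g 0 0, g 0 1, 0; g 1 0, g 1 1, 0; 0, 0, 1] : Matrix _ _ F) * !![h 0 0, h 0 1, 0; h 1 0, h 1 1, 0; 0, 0, 1]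
    ext i j; fin_cases i <;> fin_cases j <;> simp [Matrix.mul_apply, Fin.sum_univ_three, Fin.sum_univ_two])

/-- a cyclic permutation matrix -/
def cyc (F : Type) [Field F] : SL(3, F) := ⟨!![0, 0, 1; 1, 0, 0; 0, 1, 0], by rw [det_fin_three]; simp⟩

theorem blk_eq_one {F : Type} [Field F] {g : SL(2, F)} (h : cyc F * blk F g = blk F g * cyc F) : g = 1 := by
  have k : (!![0, 0, 1; 1, 0, 0; 0, 1, 0] : Matrix _ _ F) * !![g 0 0, g 0 1, 0; g 1 0, g 1 1, 0; 0, 0, 1] =
      !![g 0 0, g 0 1, 0; g 1 0, g 1 1, 0; 0, 0, 1] * !![0, 0, 1; 1, 0, 0; 0, 1, 0] := congrArg Subtype.val h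
  have e := fun i j => congrFun (congrFun k i) j
  have e1 := e 0 2
  have e2 := e 0 0
  have e3 := e 1 2
  have e4 := e 2 1
  simp [Matrix.mul_apply, Fin.sum_univ_three] at e1 e2 e3 e4
  ext i j
  fin_cases i <;> fin_cases j <;> simp [← e1, ← e2, ← e3, e4]

theorem cop27 {a : ℕ} (h : ¬ 3 ∣ a) : Nat.Coprime 27 a :=
  Nat.Coprime.pow_left 3 ((Nat.Prime.coprime_iff_not_dvd pr3).2 h)

theorem filt_psl2 {F : Type} [Field F] [Fintype F] (h : Hyp (Matrix.ProjectiveSpecialLinearGroup (Fin 2) F))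
    (h3 : ∃ s : Matrix.ProjectiveSpecialLinearGroup (Fin 2) F, orderOf s = 3) : Fintype.card F = 9 := by
  obtain ⟨s, hs⟩ := h3
  have h9 := h.nine_dvd hs
  have h27 := h.not_27
  have e := S0243.result (F := F) rfl 2 le_rfl
  have h1 : 1 < Fintype.card F := Fintype.one_lt_card
  obtain ⟨y, hy⟩ := H31.psl2_exists_plus (F := F)
  have k2 := h.ord_six (x := y)
  have k1 : 4 ≤ Fintype.card F → 3 ∣ (Fintype.card F - 1) / Nat.gcd 2 (Fintype.card F - 1) →
      (Fintype.card F - 1) / Nat.gcd 2 (Fintype.card F - 1) ∣ 6 := fun k => by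
    obtain ⟨x, hx⟩ := H31.psl2_exists_minus (F := F) k
    exact hx ▸ h.ord_six
  obtain ⟨p, _, n, hp, hq⟩ := FiniteField.card' F
  rw [hy] at k2
  rw [Fin.prod_univ_two] at e
  generalize Nat.card (ProjectiveSpecialLinearGroup (Fin 2) F) = N at *
  generalize Fintype.card F = q at *
  have hg : Nat.gcd 2 (q - 1) = 1 ∧ q % 2 = 0 ∨ Nat.gcd 2 (q - 1) = 2 ∧ q % 2 = 1 := by
    rcases Nat.mod_two_eq_zero_or_one q with k | k
    · exact .inl ⟨(Nat.Prime.coprime_iff_not_dvd pr2).2 (by omega), k⟩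
    · exact .inr ⟨Nat.gcd_eq_left (by omega), k⟩
  by_cases k3 : 3 ∣ q
  · obtain rfl : 3 = p := (Nat.prime_dvd_prime_iff_eq pr3 hp).1 (pr3.dvd_of_dvd_pow (hq ▸ k3))
    obtain ⟨n, hn⟩ := n
    have k4 : ¬ 27 ∣ q := fun k => h27 ((cop27 (a := Nat.gcd 2 (q - 1) * (q - 1)) fun k' => by
      rcases (Nat.Prime.dvd_mul pr3).1 k' with k' | k' <;> omega).dvd_of_dvd_mul_left (by
        rw [mul_assoc, e]
        exact Dvd.dvd.mul_left (Nat.dvd_sub (k.pow (by decide)) (k.pow (by decide))) _))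
    have k5 : n < 3 := by
      by_contra k
      exact k4 (hq ▸ pow_dvd_pow 3 (not_lt.1 k))
    change q = 3 ^ n at hq
    interval_cases n
    · subst hq; norm_num at e; omega
    · exact hq
  · have k4 : q ≤ 13 := by
      by_contra k
      rcases hg with ⟨g, g'⟩ | ⟨g, g'⟩ <;> rw [g] at k1 k2 <;> rcases (by omega : q % 3 = 1 ∨ q % 3 = 2) with k5 | k5
      · have := Nat.le_of_dvd (by norm_num) (k1 (by omega) (by omega)); omega
      · have := Nat.le_of_dvd (by norm_num) (k2 (by omega)); omega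
      · have := Nat.le_of_dvd (by norm_num) (k1 (by omega) (by omega)); omega
      · have := Nat.le_of_dvd (by norm_num) (k2 (by omega)); omega
    clear hq hg
    interval_cases q <;> first | exact absurd (by decide) k3 | exact absurd k1 (by decide) | exact absurd k2 (by decide) |
      (norm_num at e; omega)

theorem filt_psl3 {F : Type} [Field F] [Fintype F] (h : Hyp (Matrix.ProjectiveSpecialLinearGroup (Fin 3) F))
    (h3 : ∃ s : Matrix.ProjectiveSpecialLinearGroup (Fin 3) F, orderOf s = 3) :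
    Fintype.card F = 4 ∨ Fintype.card F = 7 := by
  obtain ⟨s, hs⟩ := h3
  have h9 := h.nine_dvd hs
  have h27 := h.not_27
  have e := S0243.result (F := F) rfl 3 (by decide)
  have h1 : 1 < Fintype.card F := Fintype.one_lt_card
  obtain ⟨k1, k2⟩ := h.sl2 ((QuotientGroup.mk' _).comp (blk F)) ((injective_iff_map_eq_one _).2 fun g hg =>
    blk_eq_one (mem_center_iff.1 ((QuotientGroup.eq_one_iff _).1 hg) _))
  rw [Nat.card_eq_fintype_card] at k1 k2
  rw [Fin.prod_univ_three] at e
  generalize Nat.card (ProjectiveSpecialLinearGroup (Fin 3) F) = N at *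
  generalize Fintype.card F = q at *
  by_cases k3 : 3 ∣ q
  · refine (h27 ((cop27 (a := Nat.gcd 3 (q - 1) * (q - 1)) fun k' => ?_).dvd_of_dvd_mul_left ?_)).elim
    · rcases (Nat.Prime.dvd_mul pr3).1 k' with k' | k'
      · have := k'.trans (Nat.gcd_dvd_right _ _); omega
      · omega
    · rw [mul_assoc, e, mul_assoc]
      exact Dvd.dvd.mul_left (Nat.mul_dvd_mul (a := 3) (c := 9) (Nat.dvd_sub (k3.pow (by decide)) (k3.pow (by decide)))
        (Nat.dvd_sub ((pow_dvd_pow_of_dvd k3 2).trans (pow_dvd_pow q (by decide))) (pow_dvd_pow_of_dvd k3 2))) _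
  · have k4 : q ≤ 7 := by
      by_cases k5 : 3 ∣ q - 1
      · have := Nat.le_of_dvd (by norm_num) (k1 k5)
        omega
      · have := Nat.le_of_dvd (by norm_num) (k2 (by omega))
        omega
    interval_cases q <;> first | decide | exact absurd (by decide) k3 | (norm_num at e; omega)

theorem filt_psln {n : ℕ} (hn : 4 ≤ n) {F : Type} [Field F] [Fintype F] [CharP F 2] :
    ¬ Hyp (Matrix.ProjectiveSpecialLinearGroup (Fin n) F) := fun h => by
  have two : (1 + 1 : F) = 0 := by rw [one_add_one_eq_two]; exact CharP.cast_eq_zero F 2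
  let e : ∀ {i j : Fin n}, i ≠ j → SL(n, F) := fun h => Matrix.SpecialLinearGroup.transvection h 1
  have sq : ∀ {i j : Fin n} (h : i ≠ j), e h * e h = 1 := fun h => by
    rw [← Matrix.SpecialLinearGroup.transvection_add, two, Matrix.SpecialLinearGroup.transvection_coeff_zero]
  have cm : ∀ {i j k l : Fin n} (h : i ≠ j) (h' : k ≠ l), j ≠ k → l ≠ i → Commute (e h) (e h') := fun h h' a b =>
    Subtype.ext (by simp [e, Matrix.SpecialLinearGroup.transvection_coe, mul_add, add_mul, single_mul_single_of_ne, a, b, add_right_comm])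
  have ord : ∀ {i j : Fin n} (h : i ≠ j), orderOf (QuotientGroup.mk' (center _) (e h * e h.symm)) = 3 := fun {i j} h => by
    refine H61.No6.orderOf_mk_eq _ pr3 ?_ fun k => ?_
    · have b : e h * e h.symm * e h = e h.symm * e h * e h.symm := Subtype.ext (by
        have t : ∀ A : Matrix (Fin n) (Fin n) F, A + A = 0 := fun A => by rw [← one_smul F A, ← add_smul, two, zero_smul]
        simp only [e, Matrix.SpecialLinearGroup.coe_mul, Matrix.SpecialLinearGroup.transvection_coe, mul_add, add_mul, one_mul, mul_one,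
          single_mul_single_same, single_mul_single_of_ne _ _ _ _ h, single_mul_single_of_ne _ _ _ _ h.symm]
        linear_combination (norm := abel) t (single i j 1) - t (single j i 1))
      rw [show (e h * e h.symm) ^ 3 = e h * e h.symm * e h * (e h.symm * e h * e h.symm) by simp only [pow_three, mul_assoc],
        ← b, show e h * e h.symm * e h * (e h * e h.symm * e h) = e h * (e h.symm * (e h * e h) * e h.symm) * e h by
        simp only [mul_assoc], sq, mul_one, sq, mul_one, sq]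
      exact one_mem _
    · obtain ⟨r, -, hr⟩ := Matrix.SpecialLinearGroup.mem_center_iff.1 k
      simpa [e, Matrix.SpecialLinearGroup.transvection_coe, mul_add, add_mul, h, h.symm] using congrFun (congrFun hr i) j
  let a : Fin 4 → Fin n := Fin.castLE hn
  have ne : ∀ {i j : Fin 4}, i ≠ j → a i ≠ a j := fun h => (Fin.castLE_injective hn).ne h
  have h01 : a 0 ≠ a 1 := ne (by decide)
  have h23 : a 2 ≠ a 3 := ne (by decide)
  have c1 : Commute (e h23) (e h01 * e h01.symm) :=
    (cm _ _ (ne (by decide)) (ne (by decide))).mul_right (cm _ _ (ne (by decide)) (ne (by decide)))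
  have c2 : Commute (e h23.symm) (e h01 * e h01.symm) :=
    (cm _ _ (ne (by decide)) (ne (by decide))).mul_right (cm _ _ (ne (by decide)) (ne (by decide)))
  refine h.no_bad (ord h01) (ord h23) ((c1.mul_left c2).map _) (c1.map (QuotientGroup.mk' _)) ?_
  rw [← map_inv, ← map_inv, ← map_mul, ← map_mul, ← mul_assoc, sq, one_mul, _root_.mul_inv_rev,
    inv_eq_of_mul_eq_one_right (sq h23.symm)]

end Cfsg.Agent.C34
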