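import Cfsg.Agent.C34.Defs
import Cfsg.Prelude.Def_Sporadic
import Cfsg.Agent.H14.Code
import Cfsg.Agent.S1664

set_option autoImplicit false

namespace Cfsg.Agent.C34

open Cfsg Cfsg.Agent.H49 Subgroup

universe u

namespace FS

theorem ord3 {H : Type*} [Group H] {s : H} (h : s ^ 3 = 1) (h1 : s ≠ 1) : orderOf s = 3 :=
  haveI := Fact.mk pr3
  orderOf_eq_prime h h1

theorem a8 : ∃ s r t : alternatingGroup (Fin 8), s ^ 3 = 1 ∧ s ≠ 1 ∧ r ^ 3 = 1 ∧ r ≠ 1 ∧ r * s = s * r ∧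
    t * s = s * t ∧ t * r * t⁻¹ = r⁻¹ :=
  ⟨⟨Equiv.swap 0 1 * Equiv.swap 1 2, Equiv.Perm.mem_alternatingGroup.2 (by decide)⟩,
    ⟨Equiv.swap 3 4 * Equiv.swap 4 5, Equiv.Perm.mem_alternatingGroup.2 (by decide)⟩,
    ⟨Equiv.swap 3 4 * Equiv.swap 6 7, Equiv.Perm.mem_alternatingGroup.2 (by decide)⟩,
      by decide +kernel⟩

theorem a9 : ∃ s r t : alternatingGroup (Fin 9), s ^ 3 = 1 ∧ s ≠ 1 ∧ r ^ 3 = 1 ∧ r ≠ 1 ∧ r * s = s * r ∧
    t * s = s * t ∧ t * r * t⁻¹ = r⁻¹ :=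
  ⟨⟨Equiv.swap 0 1 * Equiv.swap 1 2, Equiv.Perm.mem_alternatingGroup.2 (by decide)⟩,
    ⟨Equiv.swap 3 4 * Equiv.swap 4 5, Equiv.Perm.mem_alternatingGroup.2 (by decide)⟩,
    ⟨Equiv.swap 3 4 * Equiv.swap 6 7, Equiv.Perm.mem_alternatingGroup.2 (by decide)⟩,
      by decide +kernel⟩

end FS

open FS H14

theorem filt_an {n : ℕ} (hn : n = 8 ∨ n = 9) : ¬ Hyp (alternatingGroup (Fin n)) := fun h => by
  rcases hn with rfl | rfl
  · obtain ⟨s, r, t, a, b, c, d, e, f, g⟩ := a8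
    exact h.no_bad (ord3 a b) (ord3 c d) e f g
  · obtain ⟨s, r, t, a, b, c, d, e, f, g⟩ := a9
    exact h.no_bad (ord3 a b) (ord3 c d) e f g

theorem filt_m23 {G : Type u} [Group G] [Finite G] (h : Cfsg.IsM23 G) : ¬ Hyp G := fun hy => by
  obtain ⟨e⟩ := S1664.result h
  obtain ⟨g, hg⟩ := m23_chain.cd_ex e (l := [0xb9d32038b48bc269c1ab2559652062]) (by decide +kernel)
    List.mem_cons_self
  have o : orderOf g = 15 := GE.cd_ord e hg (by decide +kernel)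
  have := orderOf_dvd_of_pow_eq_one (hy.pow_six (s := g ^ 5) (by rw [orderOf_pow' _ (by decide), o]; rfl)
    (Commute.self_pow g 5).eq)
  rw [o] at this
  exact absurd this (by decide)

end Cfsg.Agent.C34
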