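import Cfsg.Agent.C34.FiltL
import Cfsg.Agent.H10.SU2
import Cfsg.Agent.S0280

set_option autoImplicit false

namespace Cfsg.Agent.C34

open Cfsg Cfsg.Agent.H49 Subgroup Matrix

universe u

theorem filt_psu3 {F : Type} [Field F] [Fintype F] {q : ℕ} (hF : Fintype.card F = q ^ 2) (hq : 3 ≤ q)
    (h : Hyp (Cfsg.PSU 3 F q)) (h3 : ∃ s : Cfsg.PSU 3 F q, orderOf s = 3) : q = 5 := by
  classical
  obtain ⟨s, hs⟩ := h3
  have h9 := h.nine_dvd hs
  have h27 := h.not_27
  have e := S0280.result hF 3 (by decide)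
  have := Fact.mk hF
  have hK := H10.card_fixedSubfield (F := F) (q := q)
  let _ := Fintype.ofFinite (H10.fixedSubfield F q)
  obtain ⟨ε⟩ := H10.nonempty_SU_two_equiv (F := F) (K := H10.fixedSubfield F q) (Nat.card_eq_fintype_card.symm.trans hK)
  let β : SU 2 F q →* SU 3 F q := ((blk F).comp (SU 2 F q).subtype).codRestrict _ fun g => by
    have k := (H10.isIsom_iff _).1 ((H10.mem_SU_iff _).1 g.2)
    have k' := fun i j => congrFun (congrFun k i) j
    have k1 := k' 0 0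
    have k2 := k' 0 1
    have k3 := k' 1 0
    have k4 := k' 1 1
    simp [Matrix.mul_apply, Fin.sum_univ_two] at k1 k2 k3 k4
    rw [H10.mem_SU_iff, H10.isIsom_iff]
    change (!![g.1 0 0, g.1 0 1, 0; g.1 1 0, g.1 1 1, 0; 0, 0, 1] : Matrix _ _ F)ᵀ *
      (!![g.1 0 0, g.1 0 1, 0; g.1 1 0, g.1 1 1, 0; 0, 0, 1] : Matrix _ _ F).map _ = 1
    ext i j
    fin_cases i <;> fin_cases j <;> simp [Matrix.mul_apply, Fin.sum_univ_three, k1, k2, k3, k4]
  have hc : cyc F ∈ SU 3 F q := by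
    rw [H10.mem_SU_iff, H10.isIsom_iff]
    change (!![0, 0, 1; 1, 0, 0; 0, 1, 0] : Matrix _ _ F)ᵀ * (!![0, 0, 1; 1, 0, 0; 0, 1, 0] : Matrix _ _ F).map _ = 1
    ext i j
    fin_cases i <;> fin_cases j <;> simp [Matrix.mul_apply, Fin.sum_univ_three]
  obtain ⟨k1, k2⟩ := h.sl2 (((QuotientGroup.mk' _).comp β).comp ε.symm.toMonoidHom)
    ((injective_iff_map_eq_one _).2 fun g hg => (map_eq_one_iff _ ε.symm.injective).1 (Subtype.ext (blk_eq_one
      (congrArg Subtype.val (mem_center_iff.1 ((QuotientGroup.eq_one_iff _).1 hg) ⟨_, hc⟩)))))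
  rw [hK] at k1 k2
  generalize Nat.card (PSU 3 F q) = N at *
  by_cases k3 : 3 ∣ q
  · refine (h27 ((cop27 (a := Nat.gcd 3 (q + 1) * (q + 1)) fun k' => ?_).dvd_of_dvd_mul_left ?_)).elim
    · rcases (Nat.Prime.dvd_mul pr3).1 k' with k' | k'
      · have := k'.trans (Nat.gcd_dvd_right _ _); omega
      · omega
    · rw [mul_assoc, e]
      exact Dvd.dvd.mul_right (pow_dvd_pow_of_dvd k3 3) _
  · have k4 : q ≤ 7 := by
      by_cases k5 : 3 ∣ q - 1
      · have := Nat.le_of_dvd (by norm_num) (k1 k5)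
        omega
      · have := Nat.le_of_dvd (by norm_num) (k2 (by omega))
        omega
    clear hK ε β hc
    interval_cases q <;> first | rfl | exact absurd (by decide) k3 | (norm_num [Finset.prod_range_succ, Nat.even_iff] at e; omega)

end Cfsg.Agent.C34
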