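import Cfsg.Agent.C34.Defs
import Cfsg.Agent.H75.SecRep

set_option autoImplicit false

namespace Cfsg.Agent.C34

open Cfsg Cfsg.Agent.H49 Subgroup

universe u

variable {G : Type u} [Group G] [Finite G]

/-- a subgroup weakly closed in its normalizer is normal in every 2-overgroup -/
theorem wc_two {X A T : Subgroup G} (h : ∀ g ∈ X, cj g A ≤ 𝒩(A) → cj g A = A) (hT : IsPGroup 2 T)
    (hX : T ≤ X) (hA : A ≤ T) : T ≤ 𝒩(A) := by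
  have := Fact.mk pr2
  have h1 : T ⊓ 𝒩(A) = T := eq_of_inf_norm_le_of_nilpotent hT.isNilpotent inf_le_left fun x hx =>
    ⟨hx.1, mem_norm_iff_cj.2 (h x (hX hx.1)
      ((cj_le_of_mem_norm (le_inf hA le_normalizer) hx.2).trans inf_le_right))⟩
  exact h1.ge.trans inf_le_right

/-- two 2-subgroups of `M` can be put into one -/
theorem two_join {M D E : Subgroup G} (hD : IsPGroup 2 D) (hE : IsPGroup 2 E) (h1 : D ≤ M) (h2 : E ≤ M) :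
    ∃ m ∈ M, ∃ T : Subgroup G, IsPGroup 2 T ∧ T ≤ M ∧ cj m D ≤ T ∧ E ≤ T := by
  obtain ⟨T, hT, ET⟩ := exists_sylowOf_ge (isPi_of_isPGroup pr2 hE) h2
  obtain ⟨m, hm, h3⟩ := sylowOf_subJ hT h1 (isPi_of_isPGroup pr2 hD)
  exact ⟨m, hm, T, hT.pi.isPGroup pr2, hT.le, h3, ET⟩

/-- the Sylow trick -/
theorem trick {X A U E : Subgroup G} {r : G} (hA : IsPGroup 2 A) (hE : IsPGroup 2 E) (AX : A ≤ X) (EX : E ≤ X)
    (ab : A ≤ 𝒞(A)) (hU : A ⊓ 𝒞[r] = U) (hc : ∀ a ∈ A, a * r * a⁻¹ * r⁻¹ ∈ U) (hr : r ∉ A)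
    (EU : E ≤ 𝒩(U)) (Er : E ≤ 𝒞[r]) :
    ∃ m ∈ X, ∃ T : Subgroup G, IsPGroup 2 T ∧ T ≤ X ∧ E ≤ T ∧ cj m A ≤ T ∧ r ∉ cj m A ∧
      cj m A ⊓ 𝒞[r] = U := by
  have UA : U ≤ A := hU ▸ inf_le_left
  let M : Subgroup G :=
    { carrier := {g | (g ∈ X ∧ g ∈ 𝒩(U)) ∧ g * r * g⁻¹ * r⁻¹ ∈ U}
      one_mem' := ⟨⟨one_mem _, one_mem _⟩, by simp⟩
      mul_mem' := fun {g h} hg hh => ⟨⟨mul_mem hg.1.1 hh.1.1, mul_mem hg.1.2 hh.1.2⟩, by
        convert mul_mem (conj_mem_of_norm le_rfl hg.1.2 hh.2) hg.2 using 1; group⟩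
      inv_mem' := fun {g} hg => ⟨⟨inv_mem hg.1.1, inv_mem hg.1.2⟩, by
        convert conj_mem_of_norm' le_rfl hg.1.2 (inv_mem hg.2) using 1; group⟩ }
  obtain ⟨m, hm, T, h1, h2, h3, h4⟩ := two_join (M := M) hA hE
    (fun a ha => ⟨⟨AX ha, norm_of_cent (ab.trans (cent_anti UA)) ha⟩, hc a ha⟩)
    fun e he => ⟨⟨EX he, EU he⟩, by rw [mem_cent1.1 (Er he)]; simp⟩
  have hu := (M.inv_mem hm).2
  rw [inv_inv] at hu
  refine ⟨m, hm.1.1, T, h1, fun t ht => (h2 ht).1.1, h4, h3, fun h5 => hr ?_, ?_⟩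
  · simpa [mul_assoc] using mul_mem (inv_mem (UA hu)) (mem_cj.1 h5)
  · ext x
    rw [← cj_eq_of_mem_norm hm.1.2, mem_inf, mem_cj, mem_cj, ← hU, mem_inf, mem_cent1, mem_cent1]
    refine and_congr_right fun hx => ?_
    have h6 : m⁻¹ * r * m * r⁻¹ * (m⁻¹ * x * m) = m⁻¹ * x * m * (m⁻¹ * r * m * r⁻¹) := ab hx _ (UA hu)
    constructor
    · intro h7
      calc m⁻¹ * x * m * r = (m⁻¹ * r * m * r⁻¹)⁻¹ * (m⁻¹ * r * m * r⁻¹ * (m⁻¹ * x * m)) * r := by group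
        _ = (m⁻¹ * r * m * r⁻¹)⁻¹ * (m⁻¹ * (x * r) * m) := by rw [h6]; group
        _ = _ := by rw [h7]; group
    · intro h7
      calc x * r = m * (m⁻¹ * x * m * (m⁻¹ * r * m * r⁻¹)) * r * m⁻¹ := by group
        _ = m * (m⁻¹ * r * m * r⁻¹) * (m⁻¹ * x * m * r) * m⁻¹ := by rw [← h6]; group
        _ = _ := by rw [h7]; group

omit [Finite G] in
theorem transv_aux33 {A U : Subgroup G} {r : G} (AU : A ≤ 𝒞(U)) (Ur : U ≤ 𝒞[r])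
    (ab : U ≤ 𝒞(U)) (r2 : r * r = 1) (hs : ∀ u ∈ U, ∃ a ∈ A, a * r * a⁻¹ * r⁻¹ = u) {c c' : G} (hc : c ∈ U)
    (hc' : c' ∈ U ⊔ zpowers r) (hn : c' ∉ U) : c * c' = c' * c ∧ ∃ a ∈ 𝒞(U), a * c' * a⁻¹ = c * c' := by
  obtain ⟨u, hu, z, hz, rfl⟩ := (mem_sup_of_norm_left (norm_of_cent (cent_symm (cent_zpowers r ▸ Ur)))).1 hc'
  have hz' : z = r := by
    obtain ⟨n, rfl⟩ := mem_zpowers_iff.1 hz
    obtain ⟨k, rfl | rfl⟩ := Int.even_or_odd' n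
    · exact absurd (by simpa [zpow_mul, zpow_ofNat, sq, r2] using hu) hn
    · simp [zpow_add, zpow_mul, zpow_ofNat, sq, r2]
  subst hz'
  obtain ⟨a, ha, e⟩ := hs c hc
  have h1 : u * c = c * u := ab hc u hu
  refine ⟨by rw [← mul_assoc, ← h1, mul_assoc, mem_cent1.1 (Ur hc), mul_assoc], a, AU ha, ?_⟩
  have h2 : u * a = a * u := AU ha u hu
  rw [← mul_assoc a, ← h2, ← mul_assoc c, ← h1, ← e]; group

/-- two full transvection groups with different axes -/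
theorem transv {A U : Subgroup G} {r e : G} (AU : A ≤ 𝒞(U)) (sq : ∀ u ∈ U, u * u = 1) (Ur : U ≤ 𝒞[r])
    (ab : U ≤ 𝒞(U)) (r2 : r * r = 1) (hs : ∀ u ∈ U, ∃ a ∈ A, a * r * a⁻¹ * r⁻¹ = u)
    (he : e ∈ 𝒩(U ⊔ zpowers r)) (hr : r ∉ U) (hne : cj e U ≠ U) :
    ∃ s : G, orderOf s = 3 ∧ U ⊓ cj e U ≤ 𝒞[s] := by
  have _ := hr
  obtain ⟨c, hc, hc1⟩ := SetLike.not_le_iff_exists.1 fun h => hne (mem_norm_iff_cj.1 (mem_norm_of_le_cj h))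
  obtain ⟨c', hc', hc2⟩ := SetLike.not_le_iff_exists.1 fun h => hne (mem_norm_iff_cj.1 (mem_norm_of_cj_le h))
  obtain ⟨h1, a, ha, e1⟩ := transv_aux33 AU Ur ab r2 hs hc (cj_le_of_mem_norm le_sup_left he hc') hc2
  obtain ⟨-, a0, ha0, e2⟩ := transv_aux33 AU Ur ab r2 hs (mem_cj.1 hc')
    (conj_mem_of_norm' le_rfl he (mem_sup_left hc)) fun h => hc1 (mem_cj.2 h)
  have ha' : e * a0 * e⁻¹ ∈ 𝒞(cj e U) := by rw [← cj_centralizer]; exact conj_mem_cj.2 ha0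
  have e3 : e * a0 * e⁻¹ * c * (e * a0 * e⁻¹)⁻¹ = c' * c := by
    calc _ = e * (a0 * (e⁻¹ * c * e) * a0⁻¹) * e⁻¹ := by group
      _ = _ := by rw [e2]; group
  generalize e * a0 * e⁻¹ = a' at ha' e3
  have f1 : a * c * a⁻¹ = c := by rw [← ha c hc]; group
  have f2 : a' * c' * a'⁻¹ = c' := by rw [← ha' c' hc']; group
  have cc := sq c hc
  have cc' : c' * c' = 1 := by
    have := sq _ (mem_cj.1 hc')
    calc c' * c' = e * (e⁻¹ * c' * e * (e⁻¹ * c' * e)) * e⁻¹ := by group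
      _ = 1 := by rw [this]; group
  have g1 : a * a' * c * (a * a')⁻¹ = c' := by
    calc _ = a * (a' * c * a'⁻¹) * a⁻¹ := by group
      _ = (a * c' * a⁻¹) * (a * c * a⁻¹) := by rw [e3]; group
      _ = _ := by rw [e1, f1, h1, mul_assoc, cc, mul_one]
  have g2 : a * a' * c' * (a * a')⁻¹ = c * c' := by
    calc _ = a * (a' * c' * a'⁻¹) * a⁻¹ := by group
      _ = _ := by rw [f2, e1]
  have hg : a * a' ∈ 𝒞(U ⊓ cj e U) := mul_mem (cent_anti inf_le_left ha) (cent_anti inf_le_right ha')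
  generalize a * a' = g at g1 g2 hg
  have g3 : g ^ 3 ∈ 𝒞[c] := by
    rw [mem_cent1, ← mul_inv_eq_iff_eq_mul]
    calc _ = g * (g * (g * c * g⁻¹) * g⁻¹) * g⁻¹ := by simp only [pow_succ, pow_zero]; group
      _ = g * (c * c') * g⁻¹ := by rw [g1, g2]
      _ = (g * c * g⁻¹) * (g * c' * g⁻¹) := by group
      _ = _ := by rw [g1, g2, h1, ← mul_assoc, cc', one_mul]
  have h3 : 3 ∣ orderOf g := by
    by_contra h4
    obtain ⟨k, hk⟩ := exists_pow_eq_self_of_coprime (x := g) ((Nat.Prime.coprime_iff_not_dvd pr3).2 h4)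
    have := mem_cent1.1 (hk ▸ pow_mem g3 k)
    rw [this, mul_inv_cancel_right] at g1
    exact hc2 (g1 ▸ hc)
  exact ⟨g ^ (orderOf g / 3), orderOf_pow_orderOf_div (orderOf_pos g).ne' h3, le_cent1_iff.2 (pow_mem hg _)⟩

omit [Finite G] in
/-- an involution acting on an elementary abelian 2-group -/
theorem comm_fix33 {A : Subgroup G} {r : G} (ab : A ≤ 𝒞(A)) (sq : ∀ a ∈ A, a * a = 1) (hr : r ∈ 𝒩(A))
    (r2 : r * r ∈ 𝒞(A)) {a : G} (ha : a ∈ A) : a * r * a⁻¹ * r⁻¹ ∈ A ⊓ 𝒞[r] := by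
  have h1 := conj_mem_of_norm le_rfl hr ha
  have h2 : a⁻¹ = a := inv_eq_of_mul_eq_one_right (sq a ha)
  rw [h2]
  refine mem_inf.2 ⟨by simpa only [mul_assoc] using mul_mem ha h1, mem_cent1.2 ?_⟩
  have h3 : a * (r * r) = r * r * a := r2 a ha
  have h4 : a * (r * a * r⁻¹) = r * a * r⁻¹ * a := ab h1 a ha
  calc a * r * a * r⁻¹ * r = a * (r * a * r⁻¹) * r := by group
    _ = r * a * r⁻¹ * (a * (r * r)) * r⁻¹ := by rw [h4]; group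
    _ = _ := by rw [h3]; group

/-- an involution acting on an elementary abelian 2-group -/
theorem comm_fix {A : Subgroup G} {r : G} (ab : A ≤ 𝒞(A)) (sq : ∀ a ∈ A, a * a = 1) (hr : r ∈ 𝒩(A))
    (r2 : r * r ∈ 𝒞(A)) {a : G} (ha : a ∈ A) : a * r * a⁻¹ * r⁻¹ ∈ A ⊓ 𝒞[r] := comm_fix33 ab sq hr r2 ha

/-- the commutator map -/
def cmap33 {A : Subgroup G} {r : G} (ab : A ≤ 𝒞(A)) (hr : r ∈ 𝒩(A)) : A →* G :=
  MonoidHom.mk' (fun a => a * r * (a : G)⁻¹ * r⁻¹) fun a b => by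
    have h1 : (r * (a : G)⁻¹ * r⁻¹) * (b * (r * (b : G)⁻¹ * r⁻¹)) =
        (b * (r * (b : G)⁻¹ * r⁻¹)) * (r * (a : G)⁻¹ * r⁻¹) :=
      ab (mul_mem b.2 (conj_mem_of_norm le_rfl hr (inv_mem b.2))) _ (conj_mem_of_norm le_rfl hr (inv_mem a.2))
    calc _ = (a : G) * ((b * (r * (b : G)⁻¹ * r⁻¹)) * (r * (a : G)⁻¹ * r⁻¹)) := by
          simp only [coe_mul]; group
      _ = _ := by rw [← h1]; group

/-- the elements whose commutator with `r` lies in `D` -/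
theorem card_comm_le {A D : Subgroup G} {r : G} (ab : A ≤ 𝒞(A)) (sq : ∀ a ∈ A, a * a = 1) (hr : r ∈ 𝒩(A))
    (r2 : r * r ∈ 𝒞(A)) (hD : D ≤ A ⊓ 𝒞[r]) :
    ∃ E : Subgroup G, E ≤ A ∧ (∀ a ∈ E, a * r * a⁻¹ * r⁻¹ ∈ D) ∧
      Nat.card A * Nat.card D ≤ Nat.card E * Nat.card ↥(A ⊓ 𝒞[r]) := by
  refine ⟨(D.comap (cmap33 ab hr)).map A.subtype, map_subtype_le _, by rintro _ ⟨a, ha, rfl⟩; exact ha, ?_⟩
  have h1 := card_mul_index (D.comap (cmap33 ab hr))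
  rw [index_comap] at h1
  have h2 := card_inf_mul_relIndex D (cmap33 ab hr).range
  have h3 := card_mul_le hD (K := (cmap33 ab hr).range) (by rintro _ ⟨a, rfl⟩; exact comm_fix ab sq hr r2 a.2)
  rw [card_map_of_injective A.subtype_injective, ← h1, mul_assoc]
  refine Nat.mul_le_mul_left _ (Nat.le_of_mul_le_mul_right ?_ (card_pos' (D ⊓ (cmap33 ab hr).range)))
  rw [← h2] at h3
  nlinarith

theorem card_le_fix {A : Subgroup G} {r : G} (ab : A ≤ 𝒞(A)) (sq : ∀ a ∈ A, a * a = 1) (hr : r ∈ 𝒩(A))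
    (r2 : r * r ∈ 𝒞(A)) : Nat.card A ≤ Nat.card ↥(A ⊓ 𝒞[r]) ^ 2 := by
  obtain ⟨E, h1, h2, h3⟩ := card_comm_le ab sq hr r2 (D := ⊥) bot_le
  rw [card_bot, mul_one] at h3
  rw [pow_two]
  refine h3.trans (Nat.mul_le_mul_right _ (card_le_of_le fun a ha => ⟨h1 ha, mem_cent1.2 ?_⟩))
  have := mem_bot.1 (h2 a ha)
  rwa [mul_inv_eq_one, mul_inv_eq_iff_eq_mul] at this

theorem comm_surj {A : Subgroup G} {r : G} (ab : A ≤ 𝒞(A)) (sq : ∀ a ∈ A, a * a = 1) (hr : r ∈ 𝒩(A))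
    (r2 : r * r ∈ 𝒞(A)) (hc : Nat.card ↥(A ⊓ 𝒞[r]) ^ 2 ≤ Nat.card A) {u : G} (hu : u ∈ A ⊓ 𝒞[r]) :
    ∃ a ∈ A, a * r * a⁻¹ * r⁻¹ = u := by
  have h1 := card_mul_index (cmap33 ab hr).ker
  have h2 : (cmap33 ab hr).ker = (A ⊓ 𝒞[r]).subgroupOf A := by
    ext a
    rw [MonoidHom.mem_ker, mem_subgroupOf, mem_inf, mem_cent1]
    show (a : G) * r * (a : G)⁻¹ * r⁻¹ = 1 ↔ _
    rw [mul_inv_eq_one, mul_inv_eq_iff_eq_mul]
    exact ⟨fun h => ⟨a.2, h⟩, fun h => h.2⟩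
  rw [index_ker, h2, card_subgroupOf_of_le inf_le_left] at h1
  have h3 : (cmap33 ab hr).range = A ⊓ 𝒞[r] := eq_of_le_of_card_ge
    (by rintro _ ⟨a, rfl⟩; exact comm_fix ab sq hr r2 a.2)
    (Nat.le_of_mul_le_mul_left (by rwa [h1, ← pow_two]) (card_pos' (A ⊓ 𝒞[r])))
  obtain ⟨a, ha⟩ := h3.ge hu
  exact ⟨a, a.2, ha⟩

/-- a subgroup inside the union of two subgroups -/
theorem le_or_le {E A B : Subgroup G} (h : ∀ e ∈ E, e ∈ A ∨ e ∈ B) : E ≤ A ∨ E ≤ B := by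
  by_contra h1
  obtain ⟨a, ha, h2⟩ := SetLike.not_le_iff_exists.1 fun h => h1 (Or.inl h)
  obtain ⟨b, hb, h3⟩ := SetLike.not_le_iff_exists.1 fun h => h1 (Or.inr h)
  rcases h _ (mul_mem ha hb) with h4 | h4
  · exact h2 ((mul_mem_cancel_right ((h b hb).resolve_right h3)).1 h4)
  · exact h3 ((mul_mem_cancel_left ((h a ha).resolve_left h2)).1 h4)

/-- one step of the vanishing of `H¹` along a series with free factors -/
theorem coset_step {K W : Subgroup G} {z t : G} (WK : W ≤ 𝒩(K)) (zK : z ∈ 𝒩(K)) (zW : z ∈ 𝒩(W))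
    (dj : K ⊓ W = ⊥) (z2 : z * z = 1) (ab : W ≤ 𝒞(W)) (sq : ∀ w ∈ W, w * w = 1)
    (hs : ∀ w ∈ W, w * z = z * w → ∃ v ∈ W, v * z * v⁻¹ * z⁻¹ = w) {k w : G} (hk : k ∈ K) (hw : w ∈ W)
    (h2 : k * w * z * (k * w * z) = 1) : ∃ v ∈ W, ∃ k' ∈ K, v * (k * w * z) * v⁻¹ = k' * z := by
  have h1 : w * (z * w * z⁻¹) ∈ K ⊓ W := by
    refine mem_inf.2 ⟨?_, mul_mem hw (conj_mem_of_norm le_rfl zW hw)⟩
    have h3 := inv_mem (mul_mem hk (conj_mem_of_norm le_rfl (mul_mem (WK hw) zK) hk))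
    convert h3 using 1
    rw [eq_inv_iff_mul_eq_one, mul_eq_one_comm, ← h2, inv_eq_of_mul_eq_one_right z2]
    calc _ = k * w * z * (k * (z * z) * w * z) := by
          rw [mul_inv_rev, inv_eq_of_mul_eq_one_right z2]; group
      _ = _ := by rw [z2]; group
  rw [dj, mem_bot, ← sq w hw, mul_right_inj, mul_inv_eq_iff_eq_mul] at h1
  obtain ⟨v, hv, e⟩ := hs w hw h1.symm
  refine ⟨v, hv, _, conj_mem_of_norm WK hv hk, ?_⟩
  have h4 : w * v = v * w := ab hv w hw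
  calc _ = v * k * v⁻¹ * (v * w) * z * v⁻¹ := by group
    _ = v * k * v⁻¹ * (w * (v * z * v⁻¹ * z⁻¹)) * z := by rw [← h4]; group
    _ = _ := by rw [e, sq w hw, mul_one]

/-- fixed points along a series -/
theorem card_fix_le {K W : Subgroup G} {r z : G} (WK : W ≤ 𝒩(K)) (rK : r ∈ 𝒩(K)) (zW : z ∈ 𝒩(W))
    (dj : K ⊓ W = ⊥) (h : ∀ w ∈ W, r * w * r⁻¹ * (z * w * z⁻¹)⁻¹ ∈ K) :
    Nat.card ↥((K ⊔ W) ⊓ 𝒞[r]) ≤ Nat.card ↥(K ⊓ 𝒞[r]) * Nat.card ↥(W ⊓ 𝒞[z]) := by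
  have h1 : (K ⊔ W) ⊓ 𝒞[r] ≤ K ⊔ (W ⊓ 𝒞[z]) := by
    intro x hx
    obtain ⟨hx, hc⟩ := mem_inf.1 hx
    obtain ⟨k, hk, w, hw, rfl⟩ := (mem_sup_of_norm_left WK).1 hx
    refine mul_mem (mem_sup_left hk) (mem_sup_right (mem_inf.2 ⟨hw, mem_cent1.2 ?_⟩))
    have h2 : w * (z * w * z⁻¹)⁻¹ ∈ K ⊓ W := by
      refine mem_inf.2 ⟨?_, mul_mem hw (inv_mem (conj_mem_of_norm le_rfl zW hw))⟩
      convert mul_mem (inv_mem hk) (mul_mem (conj_mem_of_norm le_rfl rK hk) (h w hw)) using 1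
      calc _ = k⁻¹ * (k * w * r) * r⁻¹ * (z * w * z⁻¹)⁻¹ := by group
        _ = _ := by rw [mem_cent1.1 hc]; group
    rwa [dj, mem_bot, mul_inv_eq_one, eq_mul_inv_iff_mul_eq] at h2
  have h3 := card_mul_le h1 le_sup_left
  have h4 : (K ⊔ W) ⊓ 𝒞[r] ⊓ K = K ⊓ 𝒞[r] := by
    rw [inf_right_comm, inf_eq_right.2 (le_sup_left : K ≤ K ⊔ W)]
  rw [h4, card_sup_of_disjoint (Or.inr (inf_le_left.trans WK))
    (le_bot_iff.1 (dj ▸ inf_le_inf_left K inf_le_left))] at h3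
  refine Nat.le_of_mul_le_mul_right ?_ (card_pos' K)
  nlinarith

/-- a conjugate containing `r` and normalised by `U` -/
theorem wc_move {A U : Subgroup G} {r g : G} (h : ∀ g : G, cj g A ≤ 𝒩(A) → cj g A = A) (hA : IsPGroup 2 A)
    (hc : cj g A ≤ 𝒞[r]) (hU : IsPGroup 2 U) (Ur : U ≤ 𝒞[r]) :
    ∃ m ∈ 𝒞[r], U ≤ 𝒩(cj (m * g) A) := by
  obtain ⟨m, hm, T, h1, -, h3, h4⟩ := two_join (isPGroup_cj.2 hA) hU hc Ur
  rw [cj_cj] at h3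
  refine ⟨m, hm, h4.trans (wc_two (X := ⊤) (fun x _ hx => ?_) h1 le_top h3)⟩
  rw [← cj_normalizer, le_cj_iff, cj_cj, cj_cj] at hx
  have := h _ hx
  rw [← cj_cj, ← cj_cj, cj_eq_iff, inv_inv] at this
  exact this

/-- a Sylow subgroup of the normalizer of a weakly closed subgroup -/
theorem wc_sylow {A S : Subgroup G} (h : ∀ g : G, cj g A ≤ S → cj g A = A) (AS : A ≤ S)
    (hS : IsSylowOf 2 S 𝒩(A)) : IsSylowOf 2 S ⊤ :=
  sylowOf_of_norm_le hS le_top fun n hn => mem_norm_iff_cj.2 (h n (cj_le_of_mem_norm AS hn.2))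

theorem hyp_of_nine (h : ∀ s : G, orderOf s = 3 → Nat.card 𝒞[s] = 9 ∧ ∀ x ∈ 𝒞[s], x ^ 3 = 1) : Hyp G := by
  intro s hs
  obtain ⟨h1, h2⟩ := h s hs
  have := Fact.mk pr3
  let _ : CommGroup 𝒞[s] := IsPGroup.commGroupOfCardEqPrimeSq (p := 3) h1
  obtain ⟨e⟩ := H75.exists_addEquiv_fun' (A := Additive 𝒞[s]) (n := 2) pr3
    (fun x => Additive.toMul.injective (Subtype.ext (h2 _ x.toMul.2))) h1
  exact Or.inl ⟨((AddEquiv.toMultiplicativeRight (e.trans (LinearEquiv.finTwoArrow ℤ (ZMod 3)).toAddEquiv))).trans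
    (MulEquiv.prodMultiplicative _ _)⟩

end Cfsg.Agent.C34
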