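import Cfsg.Agent.C34.Base

set_option autoImplicit false

namespace Cfsg.Agent.C34

open Cfsg Cfsg.Agent.H49 Subgroup

universe u

variable {G : Type u} [Group G] [Finite G] {P : Subgroup G} {y s r u : G}

namespace K4e

theorem two_of_sq {A : Subgroup G} (h : ∀ a ∈ A, a * a = 1) : IsPGroup 2 A :=
  fun a => ⟨1, Subtype.ext (by rw [pow_one, pow_two]; exact h a a.2)⟩

omit [Finite G] in
theorem ab_of_sq {A : Subgroup G} (h : ∀ a ∈ A, a * a = 1) : A ≤ 𝒞(A) := fun a ha b hb => by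
  rw [← inv_eq_of_mul_eq_one_right (h _ (A.mul_mem hb ha)), mul_inv_rev, inv_eq_of_mul_eq_one_right (h _ ha),
    inv_eq_of_mul_eq_one_right (h _ hb)]

omit [Finite G] in
theorem sq_sup {K W : Subgroup G} (h : W ≤ 𝒞(K)) (hK : ∀ a ∈ K, a * a = 1) (hW : ∀ a ∈ W, a * a = 1) :
    ∀ a ∈ K ⊔ W, a * a = 1 := fun a ha => by
  obtain ⟨k, hk, w, hw, rfl⟩ := (mem_sup_of_norm_left (norm_of_cent h)).1 ha
  rw [mul_assoc, ← mul_assoc w, ← h hw k hk, mul_assoc, hW w hw, mul_one, hK k hk]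

omit [Finite G] in
theorem sq_zp (h : r * r = 1) : ∀ a ∈ zpowers r, a * a = 1 := by
  rintro _ ⟨k, rfl⟩
  show r ^ k * r ^ k = 1
  rw [← (Commute.refl r).mul_zpow, h, one_zpow]

omit [Finite G] in
theorem sq_cj {A : Subgroup G} (h : ∀ a ∈ A, a * a = 1) (g : G) : ∀ a ∈ cj g A, a * a = 1 := fun a ha => by
  obtain ⟨b, hb, rfl⟩ := mem_cj'.1 ha
  rw [conj_mul, h b hb, mul_one, mul_inv_cancel]

theorem zp4 (h : y ^ 4 = 1) (hx : r ∈ zpowers y) : r = 1 ∨ r = y ∨ r = y * y ∨ r = y⁻¹ := by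
  obtain ⟨k, rfl⟩ := mem_powers_iff_mem_zpowers.2 hx
  dsimp only
  rw [pow_eq_pow_mod k h]
  have := Nat.mod_lt k (show 0 < 4 by norm_num)
  generalize k % 4 = j at *
  interval_cases j
  exacts [Or.inl (pow_zero y), Or.inr (Or.inl (pow_one y)), Or.inr (Or.inr (Or.inl (pow_two y))),
    Or.inr (Or.inr (Or.inr (eq_inv_of_mul_eq_one_left ((pow_succ y 3).symm.trans h))))]

theorem card_two {F T : Subgroup G} (hr : r ∈ F) (h : ∀ b ∈ F, b * r ∈ T ∨ b ∈ T) :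
    Nat.card F ≤ 2 * Nat.card ↥(T ⊓ F) := by
  rw [← card_inf_mul_relIndex T F, mul_comm]
  exact Nat.mul_le_mul_right _ (Nat.le_of_dvd two_pos (relIndex_dvd_two_iff.2 ⟨r, hr, h⟩))

theorem fix_le {K W : Subgroup G} (WK : W ≤ 𝒩(K)) (rK : r ∈ 𝒩(K)) (rW : r ∈ 𝒩(W)) (dj : K ⊓ W = ⊥) :
    Nat.card ↥((K ⊔ W) ⊓ 𝒞[r]) ≤ Nat.card ↥(K ⊓ 𝒞[r]) * Nat.card ↥(W ⊓ 𝒞[r]) :=
  card_fix_le WK rK rW dj fun w _ => by rw [mul_inv_cancel]; exact one_mem _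

theorem fix_bot {K W : Subgroup G} (WK : W ≤ 𝒩(K)) (rK : r ∈ 𝒩(K)) (rW : r ∈ 𝒩(W)) (dj : K ⊓ W = ⊥)
    (h1 : K ⊓ 𝒞[r] = ⊥) (h2 : W ⊓ 𝒞[r] = ⊥) : (K ⊔ W) ⊓ 𝒞[r] = ⊥ := by
  have := fix_le WK rK rW dj
  rw [h1, h2, card_bot] at this
  exact card_le_one_iff_eq_bot _ |>.1 this

/-- the 2-local data -/
structure KE (Z A T S : Subgroup G) (y : G) : Prop where
  ZA : Z ≤ A
  AT : A ≤ T
  cZ : Nat.card Z = 16
  cA : Nat.card A = 64
  TZ : T ≤ 𝒞(Z)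
  sq : ∀ a ∈ A, a * a = 1
  TN : T ≤ 𝒩(A)
  zA : y * y ∈ 𝒩(A)
  z2 : y * y * (y * y) = 1
  inv : ∀ t ∈ T, t * t = 1 → t ∈ A ∨ t ∈ cj y A
  out : ∀ x ∈ S, x * x = 1 → x ∈ T ∨ ∃ t ∈ T, x = t * (y * y) * t⁻¹
  tw : IsPGroup 2 T
  TS : T ≤ S
  nA : 𝒩(A) ≤ 𝒩(Z)
  yZ : y ∈ 𝒩(Z)
  yT : y ∈ 𝒩(T)
  fix : Nat.card ↥(A ⊓ 𝒞[y * y]) ≤ 8
  zT : y * y ∉ T

namespace KE

variable {Z A T S : Subgroup G} (k : KE Z A T S y)
include k

omit [Finite G] in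
/-- the two subgroups -/
theorem two {B : Subgroup G} (h : B = A ∨ B = cj y A) : Z ≤ B ∧ B ≤ T ∧ (∀ a ∈ B, a * a = 1) ∧ Nat.card B = 64 ∧
    ∀ t ∈ T, t * (y * y) * t⁻¹ ∈ 𝒩(B) ∧ Nat.card ↥(B ⊓ 𝒞[t * (y * y) * t⁻¹]) ≤ 8 := by
  have e : ∀ {B : Subgroup G}, T ≤ 𝒩(B) → y * y ∈ 𝒩(B) → Nat.card ↥(B ⊓ 𝒞[y * y]) ≤ 8 →
      ∀ t ∈ T, t * (y * y) * t⁻¹ ∈ 𝒩(B) ∧ Nat.card ↥(B ⊓ 𝒞[t * (y * y) * t⁻¹]) ≤ 8 := fun h1 h2 h3 t ht =>
    ⟨mul_mem (mul_mem (h1 ht) h2) (inv_mem (h1 ht)), by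
      rwa [← cj_cent1, ← cj_eq_of_mem_norm (h1 ht), ← cj_inf, card_cj]⟩
  rcases h with rfl | rfl
  · exact ⟨k.ZA, k.AT, k.sq, k.cA, e k.TN k.zA k.fix⟩
  refine ⟨cj_eq_of_mem_norm k.yZ ▸ cj_mono y k.ZA, cj_le_of_mem_norm k.AT k.yT, sq_cj k.sq y, by rw [card_cj, k.cA],
    e ?_ ?_ ?_⟩
  · rw [← cj_normalizer, ← cj_eq_of_mem_norm k.yT]; exact cj_mono y k.TN
  · rw [← cj_normalizer, mem_cj, show y⁻¹ * (y * y) * y = y * y by group]; exact k.zA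
  · rw [show y * y = y * (y * y) * y⁻¹ by group, ← cj_cent1, ← cj_inf, card_cj]; exact k.fix

theorem le_two {F : Subgroup G} (h : F ≤ T) (sq : ∀ a ∈ F, a * a = 1) : ∃ B, (B = A ∨ B = cj y A) ∧ F ≤ B :=
  (le_or_le fun a ha => k.inv a (h ha) (sq a ha)).elim (fun h => ⟨_, Or.inl rfl, h⟩) fun h => ⟨_, Or.inr rfl, h⟩

omit [Finite G] in
theorem idx {F : Subgroup G} (h : F ≤ S) (sq : ∀ a ∈ F, a * a = 1) {t : G} (ht : t ∈ T) :
    ∀ b ∈ F, b * (t * (y * y) * t⁻¹) ∈ T ∨ b ∈ T := fun b hb => by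
  refine (k.out b (h hb) (sq b hb)).symm.imp_left ?_
  rintro ⟨t', h1, rfl⟩
  have := conj_mem_of_norm (zpowers_le.2 (mul_mem k.yT k.yT)) (mem_zpowers _) (T.mul_mem (T.inv_mem h1) ht)
  rw [inv_eq_of_mul_eq_one_right k.z2] at this
  simpa [mul_assoc] using T.mul_mem (T.mul_mem h1 this) (T.inv_mem ht)

theorem big {F : Subgroup G} (h : F ≤ S) (sq : ∀ a ∈ F, a * a = 1) (c : 32 ≤ Nat.card F) : F ≤ T := fun x hx => by
  refine (k.out x (h hx) (sq x hx)).resolve_right ?_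
  rintro ⟨t, ht, rfl⟩
  obtain ⟨B, h1, h2⟩ := k.le_two (F := T ⊓ F) inf_le_left fun a ha => sq a ha.2
  have := card_two hx (k.idx h sq ht)
  have := ((k.two h1).2.2.2.2 t ht).2
  have := card_le_of_le (le_inf h2 (inf_le_right.trans ((ab_of_sq sq).trans (cent_le_cent1 hx))))
  omega

theorem inS0 {g : G} (h : cj g A ≤ S) : g ∈ 𝒩(A) ∨ y⁻¹ * g ∈ 𝒩(A) := by
  obtain ⟨B, h1, h2⟩ := k.le_two (k.big h (sq_cj k.sq g) (by rw [card_cj, k.cA]; norm_num)) (sq_cj k.sq g)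
  have e := eq_of_le_of_card_eq h2 (by rw [card_cj, k.cA, (k.two h1).2.2.2.1])
  exact h1.imp (fun h => mem_norm_iff_cj.2 (e.trans h)) fun h => mem_norm_iff_cj.2 (by rw [cj_mul, e, h, cj_inv_cj])

theorem inS {g : G} (h : cj g A ≤ S) : Z ≤ cj g A ∧ g ∈ 𝒩(Z) := by
  have : g ∈ 𝒩(Z) := (k.inS0 h).elim (fun h => k.nA h) fun h => by simpa using mul_mem k.yZ (k.nA h)
  exact ⟨cj_eq_of_mem_norm this ▸ cj_mono g k.ZA, this⟩

variable (syl : IsSylowOf 2 S ⊤)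
include syl

omit k in
theorem sub {Q : Subgroup G} (h : IsPGroup 2 Q) : ∃ g, cj g Q ≤ S :=
  (sylowOf_subJ syl le_top (isPi_of_isPGroup pr2 h)).imp fun _ h => h.2

theorem inA {x g : G} (hx : x ∈ A) (h : x ∈ cj g Z) : x ∈ Z := by
  obtain ⟨m, h1, Q, h2, -, h3, h4⟩ := two_join (M := 𝒞[x]) (two_of_sq (sq_cj k.sq g)) (two_of_sq k.sq)
    ((cj_mono g (k.AT.trans k.TZ)).trans ((cj_centralizer g Z).le.trans (cent_le_cent1 h)))
    ((ab_of_sq k.sq).trans (cent_le_cent1 hx))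
  obtain ⟨l, hl⟩ := sub syl h2
  have a := (k.inS ((cj_mono l h4).trans hl)).2
  have b := (k.inS (g := l * (m * g)) (by rw [cj_mul, cj_mul]; exact (cj_mono l h3).trans hl)).2
  rw [mul_mem_cancel_left a] at b
  rw [← cj_eq_of_mem_norm b, cj_mul, ← conj_mem_cj (g := m⁻¹), cj_inv_cj, inv_inv, mul_assoc, ← mem_cent1.1 h1,
    inv_mul_cancel_left]
  exact h

theorem not_z (g : G) : y * y ∉ cj g Z := fun h => by
  obtain ⟨m, h1, Q, h2, -, h3, h4⟩ := two_join (M := 𝒞[y * y]) (D := cj g T) (E := A ⊓ 𝒞[y * y])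
    (isPGroup_cj.2 k.tw) (two_of_sq k.sq).to_inf_left
    ((cj_mono g k.TZ).trans ((cj_centralizer g Z).le.trans (cent_le_cent1 h))) inf_le_right
  obtain ⟨l, hl⟩ := sub syl h2
  have a := (k.inS (g := l * (m * g)) (by
    rw [cj_mul, cj_mul]; exact (cj_mono l ((cj_mono m (cj_mono g k.AT)).trans h3)).trans hl)).2
  have rZ : l * (y * y) * l⁻¹ ∈ Z := by
    rw [← cj_eq_of_mem_norm a, cj_mul, conj_mem_cj, cj_mul, mem_cj, mul_assoc, ← mem_cent1.1 h1, inv_mul_cancel_left]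
    exact h
  have US : cj l A ⊓ 𝒞[l * (y * y) * l⁻¹] ≤ S := by
    rw [← cj_cent1, ← cj_inf]; exact (cj_mono l h4).trans hl
  have c8 : Nat.card ↥(cj l A ⊓ 𝒞[l * (y * y) * l⁻¹]) = 8 := by
    rw [← cj_cent1, ← cj_inf, card_cj]
    have := card_le_fix (ab_of_sq k.sq) k.sq k.zA (by rw [k.z2]; exact one_mem _)
    rw [k.cA] at this
    have := k.fix
    nlinarith
  have rA : l * (y * y) * l⁻¹ ∉ cj l A := fun e => k.zT (k.AT (conj_mem_cj.1 e))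
  have rN : l * (y * y) * l⁻¹ ∈ 𝒩(cj l A) := by rw [← cj_normalizer, conj_mem_cj]; exact k.zA
  generalize l * (y * y) * l⁻¹ = r at *
  have r2 := k.sq r (k.ZA rZ)
  have sA := sq_cj k.sq l
  generalize hU : cj l A ⊓ 𝒞[r] = U at *
  have sU : ∀ a ∈ U, a * a = 1 := fun a ha => sA a (hU ▸ ha).1
  have Ur : U ≤ 𝒞[r] := hU ▸ inf_le_right
  obtain ⟨B, hB, h5⟩ := k.le_two (F := T ⊓ U) inf_le_left fun a ha => sU a ha.2
  obtain ⟨b1, b2, b3, b4, b5⟩ := k.two hB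
  obtain ⟨E, e1, e2, e3⟩ : ∃ E, E ≤ B ∧ E ≤ 𝒩(U) ∧ 32 ≤ Nat.card E := by
    by_cases c : U ≤ T
    · exact ⟨B, le_rfl, norm_of_cent ((ab_of_sq b3).trans (cent_anti ((le_inf c le_rfl).trans h5))), by omega⟩
    obtain ⟨x, x1, x2⟩ := SetLike.not_le_iff_exists.1 c
    obtain ⟨t, ht, rfl⟩ := (k.out x (US x1) (sU x x1)).resolve_left x2
    obtain ⟨E, e1, e2, e3⟩ := card_comm_le (D := T ⊓ U) (ab_of_sq b3) b3 (b5 t ht).1 (by rw [sU _ x1]; exact one_mem _)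
      (le_inf h5 (inf_le_right.trans ((ab_of_sq sU).trans (cent_le_cent1 x1))))
    refine ⟨E, e1, le_norm_iff.2 fun a ha b hb => ?_, ?_⟩
    · have c : ∀ d ∈ T ⊓ U, a * d * a⁻¹ = d := fun d hd => by
        rw [← ab_of_sq b3 (e1 ha) d (h5 hd), mul_inv_cancel_right]
      rcases k.idx US sU ht b hb with h | h
      · have := U.mul_mem (U.mul_mem (U.mul_mem hb x1) (e2 a ha).2) x1
        rw [← c _ ⟨h, U.mul_mem hb x1⟩] at this
        convert this using 1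
        calc _ = a * (b * (t * (y * y) * t⁻¹ * (t * (y * y) * t⁻¹))) * a⁻¹ := by rw [sU _ x1, mul_one]
          _ = _ := by group
      · rw [c b ⟨h, hb⟩]; exact hb
    · have := card_two x1 (k.idx US sU ht)
      have := (b5 t ht).2
      rw [b4] at e3
      nlinarith
  have e4 : E ⊔ zpowers r ≤ B := sup_le e1 (zpowers_le.2 (b1 rZ))
  obtain ⟨m, -, Q, q1, -, q2, q3, -, q4⟩ := trick (X := ⊤) (E := E ⊔ zpowers r) (two_of_sq sA) ((two_of_sq b3).to_le e4)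
    le_top le_top (ab_of_sq sA) hU (fun a ha => hU ▸ comm_fix (ab_of_sq sA) sA rN (by rw [r2]; exact one_mem _) ha) rA
    (sup_le e2 (norm_of_cent (zpowers_le.2 (le_cent1_iff.1 Ur))))
    (e4.trans (b2.trans (k.TZ.trans (cent_le_cent1 rZ))))
  obtain ⟨n, hn⟩ := sub syl q1
  have a1 := k.big ((cj_mono n q2).trans hn) (sq_cj (fun a ha => b3 a (e4 ha)) n) (by
    rw [card_cj]; exact e3.trans (card_le_of_le le_sup_left))
  have a2 := (k.inS (g := n * (m * l)) (by rw [cj_mul, cj_mul]; exact (cj_mono n q3).trans hn)).1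
  have a3 : Z ≤ cj n U := by
    rw [← q4, cj_inf, cj_cent1, cj_cj, cj_cj, mul_assoc]
    exact le_inf a2 (le_cent1_iff.2 (k.TZ (a1 (conj_mem_cj.2 (mem_sup_right (mem_zpowers r))))))
  have := card_le_of_le a3
  rw [card_cj, c8, k.cZ] at this
  omega

theorem sc : ∀ x ∈ S, x * x = 1 → ∀ g : G, x ∈ cj g Z → x ∈ Z := fun x hx x2 g h => by
  rcases k.out x hx x2 with t | ⟨t, -, rfl⟩
  · rcases k.inv x t x2 with a | a
    · exact k.inA syl a h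
    · rw [← cj_eq_of_mem_norm k.yZ, mem_cj]
      exact k.inA syl (g := y⁻¹ * g) (mem_cj.1 a) (by simpa [mul_assoc] using h)
  · exact absurd (by simpa [mul_assoc] using h) (k.not_z syl (t⁻¹ * g))

end KE

end K4e

open K4e in
theorem k4e (c : Ctx G) (f : Fr P y) (hs : s ∈ P) (s1 : s ≠ 1) (hu : u ∈ P) (us : u ∉ zpowers s)
    (ur : u ∉ zpowers (y * s * y⁻¹)) (h1 : V s ≠ ⊥) (h3 : V u ≠ ⊥) (e12 : V (y * s * y⁻¹) ≤ 𝒞(V s))
    (e13 : V u ≤ 𝒞(V s)) (e14 : V (y * u * y⁻¹) ≤ 𝒞(V s)) (n34 : ¬ V (y * u * y⁻¹) ≤ 𝒞(V u)) :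
    False := by
  have h := c.hyp
  have u1 : u ≠ 1 := fun e => us (e ▸ one_mem _)
  have m2 := f.y_mem hs
  have m4 := f.y_mem hu
  have s2 : y * s * y⁻¹ ≠ 1 := fun e => s1 (conj_eq_one_iff.1 e)
  have s4 : y * u * y⁻¹ ≠ 1 := fun e => u1 (conj_eq_one_iff.1 e)
  obtain ⟨i41, i42⟩ := f.y_ind' hs s1 hu us ur
  have y1 := V_cj y s
  have y2 := (V_cj y _).trans (f.V_yy hs)
  have y3 := V_cj y u
  have y4 := (V_cj y _).trans (f.V_yy hu)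
  have e24 : V (y * u * y⁻¹) ≤ 𝒞(V (y * s * y⁻¹)) := by rw [← y1, ← y3, ← cj_centralizer]; exact cj_mono y e13
  have e23 : V u ≤ 𝒞(V (y * s * y⁻¹)) := by rw [← y1, ← y4, ← cj_centralizer]; exact cj_mono y e14
  have cv := fun {x : G} => f.cover' hs s1 hu us ur (x := x)
  have o := fun {x : G} (hx : x ∈ P) (x1 : x ≠ 1) => f.ord hx x1
  have le := fun {x : G} (hx : x ∈ P) (x1 : x ≠ 1) (e : V x ≤ 𝒞(V s)) => f.le_NN h hs s1 h1 (h.V_two (o hx x1)) e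
  have c4 := fun {x : G} (hx : x ∈ P) (x1 : x ≠ 1) => h.V_four (o hx x1)
  have q := fun {x : G} (hx : x ∈ P) (x1 : x ≠ 1) (v : G) (hv : v ∈ V x) => h.V_sq (o hx x1) hv
  have d := fun {x w : G} (hx : x ∈ P) (x1 : x ≠ 1) (hw : w ∈ P) => f.disj h hx x1 hw
  have vl := fun {x : G} (hx : x ∈ P) (x1 : x ≠ 1) => h.V_le (o hx x1)
  have pv := fun {x : G} (hx : x ∈ P) => f.P_V hx
  have zv := fun {x : G} (hx : x ∈ P) => f.z_V hx
  have zs := fun {x : G} (hx : x ∈ P) (x1 : x ≠ 1) (w : G) (hw : w ∈ V x) => f.z_surj h hx x1 hw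
  have fz := fun {x : G} (hx : x ∈ P) (x1 : x ≠ 1) => f.card_fix_z h hx x1
  have h2 : V (y * s * y⁻¹) ≠ ⊥ := fun e => h1 (by rw [← y2, e, cj_bot])
  have h4 : V (y * u * y⁻¹) ≠ ⊥ := fun e => h3 (by rw [← y4, e, cj_bot])
  have t1 := h.V_le_NN (o hs s1)
  have t2 := le m2 s2 e12
  have t3 := le hu u1 e13
  have t4 := le m4 s4 e14
  have eT : NN s = V s ⊔ V (y * s * y⁻¹) ⊔ V u ⊔ V (y * u * y⁻¹) := le_antisymm
    (f.gen h (f.P_NN h hs) (NN_two s) fun x hx x1 _ => by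
      rcases cv hx x1 with e | e | e | e <;> rw [e]
      exacts [le_sup_of_le_left (le_sup_of_le_left le_sup_left), le_sup_of_le_left (le_sup_of_le_left le_sup_right),
        le_sup_of_le_left le_sup_right, le_sup_right]) (sup_le (sup_le (sup_le t1 t2) t3) t4)
  have db : ∀ {K : Subgroup G} {x : G}, x ∈ P → x ≠ 1 → K ⊓ 𝒞[x] = ⊥ → K ⊓ V x = ⊥ := fun hx x1 e =>
    eq_bot_iff.2 (e ▸ inf_le_inf_left _ (vl hx x1))
  have d12 := db m2 s2 (d hs s1 m2 (f.y_ind hs s1))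
  have n12 := norm_of_cent e12
  have f3 := fix_bot n12 (pv hs hu) (pv m2 hu) d12 (d hs s1 hu us) (d m2 s2 hu ur)
  have f4 := fix_bot n12 (pv hs m4) (pv m2 m4) d12 (d hs s1 m4 i41) (d m2 s2 m4 i42)
  have cZ := card_sup_of_disjoint (Or.inr n12) d12
  have PZ := norm_sup (pv hs) (pv m2)
  have zZ : y * y ∈ 𝒩(V s ⊔ V (y * s * y⁻¹)) := norm_sup (zpowers_le.2 (zv hs)) (zpowers_le.2 (zv m2)) (mem_zpowers _)
  have yZ : y ∈ 𝒩(V s ⊔ V (y * s * y⁻¹)) := mem_norm_iff_cj.2 (by rw [cj_sup, y1, y2, sup_comm])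
  have sZ := sq_sup e12 (q hs s1) (q m2 s2)
  have e3 : V u ≤ 𝒞(V s ⊔ V (y * s * y⁻¹)) := (le_inf e13 e23).trans (cent_sup _ _).ge
  have e4 : V (y * u * y⁻¹) ≤ 𝒞(V s ⊔ V (y * s * y⁻¹)) := (le_inf e14 e24).trans (cent_sup _ _).ge
  have fZ := fix_le n12 (zv hs) (zv m2) d12
  have iZ : ∀ k ∈ V s ⊔ V (y * s * y⁻¹), k * (y * y) * (k * (y * y)) = 1 →
      ∃ t ∈ V s ⊔ V (y * s * y⁻¹), t * (k * (y * y)) * t⁻¹ = y * y := fun k hk k2 => by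
    obtain ⟨a, ha, b, hb, rfl⟩ := (mem_sup_of_norm_left n12).1 hk
    obtain ⟨v, hv, k, hk, e⟩ := coset_step (t := 1) n12 (zv hs) (zv m2) d12 f.y4 (h.V_ab (o m2 s2)) (q m2 s2) (zs m2 s2)
      ha hb k2
    obtain ⟨w, hw, k', hk', e'⟩ := coset_step (t := 1) (K := ⊥) (le_norm_bot _) (le_norm_bot ⊤ (mem_top (y * y))) (zv hs)
      (bot_inf_eq _) f.y4 (h.V_ab (o hs s1)) (q hs s1) (zs hs s1) (one_mem _) hk (by
        rw [one_mul, ← e, conj_mul, k2, mul_one, mul_inv_cancel])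
    refine ⟨w * v, mul_mem (mem_sup_left hw) (mem_sup_right hv), ?_⟩
    rw [mem_bot.1 hk', one_mul, one_mul, ← e] at e'
    exact Eq.trans (by group) e'
  have c1 : ∀ x ∈ P, x ≠ 1 → V x ≤ V s ⊔ V (y * s * y⁻¹) ∨ V x = V u ∨ V x = V (y * u * y⁻¹) := fun x hx x1 => by
    rcases cv hx x1 with e | e | e | e
    exacts [Or.inl (e ▸ le_sup_left), Or.inl (e ▸ le_sup_right), Or.inr (Or.inl e), Or.inr (Or.inr e)]
  have Z0 : V s ⊔ V (y * s * y⁻¹) ≠ ⊥ := ne_bot_mono le_sup_left h1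
  have ZT := sup_le t1 t2
  rw [c4 hs s1 h1, c4 m2 s2 h2] at cZ
  generalize V s ⊔ V (y * s * y⁻¹) = Z at *
  have TZ : NN s ≤ 𝒞(Z) := eT ▸ sup_le (sup_le (ab_of_sq sZ) e3) e4
  have cm : ∀ v ∈ V u, ∀ w ∈ V (y * u * y⁻¹), v * w * v⁻¹ * w⁻¹ ∈ Z := fun v hv w hw =>
    f.comm_mod h (NN_two s) (f.P_NN h hs) PZ ZT (norm_of_cent TZ) t3 t4 (fun x hx x1 _ => c1 x hx x1) hv hw
  have n3 := norm_of_cent e3
  have d3 := db hu u1 f3
  have n4 : V (y * u * y⁻¹) ≤ 𝒩(Z ⊔ V u) := le_norm_iff.2 fun w hw x hx => by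
    obtain ⟨a, ha, v, hv, rfl⟩ := (mem_sup_of_norm_left n3).1 hx
    have := mul_mem (mul_mem (mem_sup_left (conj_mem_of_norm (norm_of_cent e4) hw ha)) (mem_sup_left (T := V u)
      (inv_mem (cm v hv w hw)))) (mem_sup_right hv)
    convert this using 1
    group
  have d4 := db m4 s4 (fix_bot n3 (PZ m4) (pv hu m4) d3 f4 (d hu u1 m4 (f.y_ind hu u1)))
  have PA := norm_sup PZ (pv hu)
  have zA : y * y ∈ 𝒩(Z ⊔ V u) := norm_sup (zpowers_le.2 zZ) (zpowers_le.2 (zv hu)) (mem_zpowers _)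
  have yA : cj y (Z ⊔ V u) = Z ⊔ V (y * u * y⁻¹) := by rw [cj_sup, cj_eq_of_mem_norm yZ, y3]
  have yT : y ∈ 𝒩(NN s) := mem_norm_iff_cj.2 (by
    rw [eT, cj_sup, yA, y4, sup_right_comm])
  have TN : NN s ≤ 𝒩(Z ⊔ V u) := eT ▸ sup_le le_normalizer n4
  have zT : y * y ∉ NN s := fun e => by
    have := fz hs s1
    rw [inf_eq_left.2 (le_cent1_iff.2 (NN_le s e)), c4 hs s1 h1] at this
    omega
  have nA : 𝒩(Z ⊔ V u) ≤ 𝒩(V s) := f.st h PA (fun n hn hn' => f.idxV h hn' m4 s4 h4 (mem_norm_iff_cj.2 (by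
      have k : cj n (V (y * u * y⁻¹)) ≤ Z ⊔ V u → False := fun e => h4 (by
        rw [← d4, right_eq_inf]; exact (cj_le_iff_of_mem_norm hn).1 e)
      rw [V_cj] at k ⊢
      rcases c1 _ (conj_mem_of_norm (zpowers_le.2 hn') (mem_zpowers n) m4) (fun e => s4 (conj_eq_one_iff.1 e))
        with e | e | e
      exacts [(k (le_sup_of_le_left e)).elim, (k (e ▸ le_sup_right)).elim, e]))) (pv hs) (zv hs) fun x hx x1 _ => by
    refine le_trans ?_ ((NN_le s).trans (cent_le_norm _))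
    rcases c1 x hx x1 with e | e | e
    exacts [e.trans ZT, e ▸ t3, e ▸ t4]
  have y4' : y ^ 4 = 1 := by rw [← f.y4]; simp only [pow_succ, pow_zero, one_mul, mul_assoc]
  have y2' : IsPGroup 2 (zpowers y) := IsPGroup.of_card_dvd_pow (n := 2) (by
    rw [Nat.card_zpowers]; exact orderOf_dvd_of_pow_eq_one y4')
  have S2 : IsPGroup 2 (NN s ⊔ zpowers y : Subgroup G) := (NN_two s).to_sup_of_normal_left' y2' (zpowers_le.2 yT)
  have dT : ∀ t ∈ NN s, ∃ k ∈ Z ⊔ V u, ∃ w ∈ V (y * u * y⁻¹), t = k * w := fun t ht =>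
    (mem_sup_of_norm_left n4).1 (eT ▸ ht)
  have out : ∀ x ∈ NN s ⊔ zpowers y, x * x = 1 → x ∈ NN s ∨ ∃ t ∈ NN s, x = t * (y * y) * t⁻¹ := fun x hx x2 => by
    obtain ⟨t, ht, w, hw, rfl⟩ := (mem_sup_of_norm_left (zpowers_le.2 yT)).1 hx
    have k : w * w ∈ NN s := by
      have := (NN s).inv_mem ((NN s).mul_mem ht (conj_mem_of_norm (zpowers_le.2 yT) hw ht))
      rwa [← eq_inv_of_mul_eq_one_right (show t * (w * t * w⁻¹) * (w * w) = 1 by rw [← x2]; group)] at this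
    rcases zp4 y4' hw with rfl | rfl | rfl | rfl
    · exact Or.inl (by rwa [mul_one])
    · exact absurd k zT
    swap
    · exact absurd (by simpa using inv_mem k) zT
    obtain ⟨k, hk, w, hw, rfl⟩ := dT t ht
    obtain ⟨v, hv, k, hk, e⟩ := coset_step (t := 1) n4 zA (zv m4) d4 f.y4 (h.V_ab (o m4 s4)) (q m4 s4) (zs m4 s4) hk hw x2
    obtain ⟨a, ha, b, hb, rfl⟩ := (mem_sup_of_norm_left n3).1 hk
    obtain ⟨v', hv', k', hk', e'⟩ := coset_step (t := 1) n3 zZ (zv hu) d3 f.y4 (h.V_ab (o hu u1)) (q hu u1) (zs hu u1)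
      ha hb (by rw [← e, conj_mul, x2, mul_one, mul_inv_cancel])
    obtain ⟨t, h5, e''⟩ := iZ k' hk' (by rw [← e', ← e, conj_mul, conj_mul, x2]; simp)
    refine Or.inr ⟨(t * v' * v)⁻¹, inv_mem (mul_mem (mul_mem (ZT h5) (t3 hv')) (t4 hv)), ?_⟩
    rw [← e', ← e] at e''
    generalize k * w * (y * y) = x at e''
    rw [← e'']; group
  have k : KE Z (Z ⊔ V u) (NN s) (NN s ⊔ zpowers y) y :=
    ⟨le_sup_left, sup_le ZT t3, cZ, by rw [card_sup_of_disjoint (Or.inr n3) d3, cZ, c4 hu u1 h3], TZ,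
      sq_sup e3 sZ (q hu u1), TN, zA, f.y4, fun t ht t2 => by
        obtain ⟨k, hk, w, hw, rfl⟩ := dT t ht
        obtain ⟨a, ha, v, hv, rfl⟩ := (mem_sup_of_norm_left n3).1 hk
        by_cases w1 : w = 1
        · exact Or.inl (by rwa [w1, mul_one])
        by_cases v1 : v = 1
        · exact Or.inr (by rw [yA, v1, mul_one]; exact mul_mem (mem_sup_left ha) (mem_sup_right hw))
        refine absurd (f.pair h hu u1 m4 (f.y_ind hu u1) hv v1 hw w1 ?_) n34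
        have e : a * a * (v * w * (v * w)) = 1 := by
          rw [← t2, mul_assoc a v, mul_assoc a (v * w), ← mul_assoc (v * w) a, ← TZ (mul_mem (t3 hv) (t4 hw)) a ha]
          simp only [mul_assoc]
        rw [sZ a ha, one_mul] at e
        rw [← inv_eq_of_mul_eq_one_right e, mul_inv_rev, inv_eq_of_mul_eq_one_right (q hu u1 v hv),
          inv_eq_of_mul_eq_one_right (q m4 s4 w hw)], out, NN_two s, le_sup_left, fun g hg => by
        obtain ⟨n, hn, p, hp, rfl | rfl⟩ := f.mem_NV h hs s1 h1 (nA hg)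
        exacts [mul_mem (norm_of_cent TZ hn) (PZ hp), mul_mem (mul_mem (norm_of_cent TZ hn) (PZ hp)) zZ], yZ, yT, by
        have := fix_le n3 zZ (zv hu) d3
        have := Nat.mul_le_mul (fZ.trans (Nat.mul_le_mul (fz hs s1) (fz m2 s2))) (fz hu u1)
        omega, zT⟩
  have syl : IsSylowOf 2 (NN s ⊔ zpowers y) ⊤ := sylowOf_of_max (isPi_of_isPGroup pr2 S2) le_top fun Q a1 _ a2 => by
    refine (eq_of_inf_norm_le_of_nilpotent a2.nilpotent a1 fun g hg => ?_).ge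
    have yS : y ∈ NN s ⊔ zpowers y := mem_sup_right (mem_zpowers y)
    have b : ∀ g ∈ Q, g ∈ 𝒩(Z ⊔ V u) → g ∈ NN s ⊔ zpowers y := fun g a3 a4 => by
      have b : ∀ p ∈ P, p ∈ Q → p = 1 := fun p a b => mem_bot.1 ((isPi_of_isPGroup pr3 f.three).inf_eq_bot
        (a2.compl_singleton_of_ne (by decide)) ▸ (⟨a, b⟩ : p ∈ P ⊓ Q))
      obtain ⟨n, hn, p, hp, rfl | rfl⟩ := f.mem_NV h hs s1 h1 (nA a4)
      · rw [b p hp ((mul_mem_cancel_left (a1 (mem_sup_left hn))).1 a3), mul_one]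
        exact mem_sup_left hn
      · rw [mul_mem_cancel_right (a1 (mul_mem yS yS)), mul_mem_cancel_left (a1 (mem_sup_left hn))] at a3
        rw [b p hp a3, mul_one]
        exact mul_mem (mem_sup_left hn) (mul_mem yS yS)
    rcases k.inS0 (cj_le_of_mem_norm (k.AT.trans k.TS) hg.2) with e | e
    · exact b g hg.1 e
    · exact (mul_mem_cancel_left (inv_mem yS)).1 (b _ (mul_mem (inv_mem (a1 yS)) hg.1) e)
  exact c.no_sc (o hs s1) h1 syl (ZT.trans le_sup_left) Z0 (ab_of_sq sZ) sZ (k.sc syl)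

end Cfsg.Agent.C34
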