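import Cfsg.Agent.C34.Cl

set_option autoImplicit false

namespace Cfsg.Agent.C34

open Cfsg Cfsg.Agent.H49 Subgroup

universe u

variable {G : Type u} [Group G] [Finite G] {P : Subgroup G} {y s r u : G}

theorem k4b (c : Ctx G) (hs : orderOf s = 3) (h0 : V s ≠ ⊥) {A : Subgroup G} (ab : A ≤ 𝒞(A))
    (sq : ∀ a ∈ A, a * a = 1) (hA : Nat.card A = 256)
    (h1 : ∀ r ∈ 𝒩(A), r ∉ A → r * r = 1 → Nat.card ↥(A ⊓ 𝒞[r]) = 16)
    (h2 : ∀ E : Subgroup G, E ≤ 𝒩(A) → (∀ e ∈ E, e * e = 1) → Nat.card E ≤ 4 * Nat.card ↥(E ⊓ A)) :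
    False := by
  have h1' : ∀ r ∈ 𝒩(A), r ∉ A → r * r = 1 → Nat.card ↥(A ⊓ 𝒞[r]) ≤ 16 := fun r a b c => (h1 r a b c).le
  have wc := cl_wc ab sq h1' h2 (by omega)
  refine cl_main c hs h0 (fun e => by rw [e, card_bot] at hA; omega) ab sq wc fun r hr rA r2 g rg Un => ?_
  have bd := fun E => cl_bound (E := E) ab sq wc h2 hr rA r2 rg
  have cU := h1 r hr rA r2
  have hs' := fun u => comm_surj (u := u) ab sq hr (r2 ▸ one_mem _) (by rw [cU, hA]; norm_num)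
  have ab1 := cl_ab_cj ab g
  have sq1 := cl_sq_cj sq g
  have c1 : Nat.card (cj g A) = 256 := by rw [card_cj, hA]
  have k1 := cl_h1_cj h1' g
  have k2 := cl_h2_cj h2 g
  have UA : A ⊓ 𝒞[r] ≤ A := inf_le_left
  have Ur : A ⊓ 𝒞[r] ≤ 𝒞[r] := inf_le_right
  generalize A ⊓ 𝒞[r] = U at *
  generalize cj g A = A1 at *
  have sU : ∀ u ∈ U, u * u = 1 := fun u hu => sq u (UA hu)
  have AU : A ≤ 𝒞(U) := ab.trans (cent_anti UA)
  by_cases hU : U ≤ A1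
  · have := bd A1 le_rfl (norm_of_cent (ab1.trans (cent_anti hU)))
    rw [inf_eq_left.2 hU] at this
    omega
  have d1 : 2 * Nat.card ↥(U ⊓ A1) ≤ Nat.card U := cl_lt inf_le_left fun h => hU (h.trans inf_le_right)
  have d2 := k2 U Un sU
  have rU : r ∉ U := fun h => rA (UA h)
  have rn : r ∈ 𝒩(U) := cent_le_norm _ (le_cent1_iff.1 Ur)
  have cB := cl_card_sup rn (r2 ▸ one_mem _) rU
  have rB : r ∈ U ⊔ zpowers r := mem_sup_right (mem_zpowers r)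
  have BU : U ⊔ zpowers r ≤ 𝒞(U) := sup_le (UA.trans AU) (zpowers_le.2 (le_cent1_iff.1 Ur))
  have d3 : 2 * Nat.card ↥(U ⊓ A1) ≤ Nat.card ↥((U ⊔ zpowers r) ⊓ A1) :=
    cl_lt (inf_le_inf_right _ le_sup_left) fun h => rU (h ⟨rB, rg⟩).1
  have key : ∀ u ∈ U, ∃ E : Subgroup G, E ≤ A1 ∧ (∀ a ∈ E, a * u * a⁻¹ ∈ U ⊔ zpowers r) ∧
      128 ≤ Nat.card E := fun u hu => by
    by_cases uA : u ∈ A1
    · exact ⟨A1, le_rfl, fun a ha => by
        rw [cl_comm ab1 ha uA, mul_inv_cancel_right]; exact mem_sup_left hu, by omega⟩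
    obtain ⟨E, e1, e2, e3⟩ := card_comm_le (D := (U ⊔ zpowers r) ⊓ A1) ab1 sq1 (Un hu)
      (sU u hu ▸ one_mem _) (le_inf inf_le_right (inf_le_left.trans (BU.trans (cent_le_cent1 hu))))
    refine ⟨E, e1, fun a ha => ?_, ?_⟩
    · simpa using mul_mem (mem_inf.1 (e2 a ha)).1 (mem_sup_left hu)
    · have := e3.trans (Nat.mul_le_mul_left _ (k1 u (Un hu) uA (sU u hu)))
      rw [c1] at this
      omega
  obtain ⟨u, hu, w, hw, gen⟩ := cl_gen2 (inf_le_left (a := U) (b := A1)) d2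
  obtain ⟨E, e1, e2, e3⟩ := key u hu
  obtain ⟨F, f1, f2, f3⟩ := key w hw
  have d4 := (Nat.mul_le_mul e3 f3).trans (card_mul_le e1 f1)
  rw [c1] at d4
  have EU : E ⊓ F ≤ 𝒩(U) := fun a ha => by
    have a1 := e1 ha.1
    have fix : ∀ x ∈ U ⊔ zpowers r, x ∈ A1 → x ∈ cj a⁻¹ (U ⊔ zpowers r) := fun x hx x1 => by
      rw [cl_mem_cj_inv, cl_comm ab1 a1 x1, mul_inv_cancel_right]; exact hx
    have aB : a ∈ 𝒩(U ⊔ zpowers r) := cl_mem_norm (sup_le (gen.trans (sup_le (sup_le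
      (fun x hx => fix x (mem_sup_left hx.1) hx.2) (zpowers_le.2 (cl_mem_cj_inv.2 (e2 a ha.1))))
      (zpowers_le.2 (cl_mem_cj_inv.2 (f2 a ha.2))))) (zpowers_le.2 (fix r rB rg)))
    rw [mem_norm_iff_cj]
    by_contra ne
    obtain ⟨t, t3, ht⟩ := transv AU sU Ur (UA.trans AU) r2 hs' aB rU ne
    have d5 := c.hyp.card_le_four t3 (cl_two sU).to_inf_left ht
    have d6 := (card_mul_le le_sup_left (cj_le_of_mem_norm le_sup_left aB)).trans
      (Nat.mul_le_mul_left _ d5)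
    rw [card_cj, cB, cU] at d6
    omega
  have := bd _ (inf_le_left.trans e1) EU
  omega

end Cfsg.Agent.C34
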