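import Cfsg.Agent.C34.Cl
import Cfsg.Agent.C34.MatD

set_option autoImplicit false

namespace Cfsg.Agent.C34

open Cfsg Cfsg.Agent.H49 Subgroup

universe u

variable {G : Type u} [Group G] [Finite G] {P : Subgroup G} {y s r u : G}

/-- the abstract strong closure argument for `E₁₆` -/
theorem m1_abs (c : Ctx G) (hs : orderOf s = 3) (h0 : V s ≠ ⊥) {A : Subgroup G} (ab : A ≤ 𝒞(A))
    (sq : ∀ a ∈ A, a * a = 1) (hA : Nat.card A = 16)
    (h1 : ∀ r ∈ 𝒩(A), r ∉ A → r * r = 1 → Nat.card ↥(A ⊓ 𝒞[r]) ≤ 4)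
    (h2 : ∀ E : Subgroup G, E ≤ 𝒩(A) → (∀ e ∈ E, e * e = 1) → Nat.card E ≤ 2 * Nat.card ↥(E ⊓ A)) :
    False := by
  have wc := cl_wc ab sq h1 h2 (by omega)
  refine cl_main c hs h0 (fun e => by rw [e, card_bot] at hA; omega) ab sq wc fun r hr rA r2 g rg Un => ?_
  have bd := fun E => cl_bound (E := E) ab sq wc h2 hr rA r2 rg
  have cU := h1 r hr rA r2
  have ab1 := cl_ab_cj ab g
  have sq1 := cl_sq_cj sq g
  have c1 : Nat.card (cj g A) = 16 := by rw [card_cj, hA]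
  have k1 := cl_h1_cj h1 g
  have k2 := cl_h2_cj h2 g
  have UA : A ⊓ 𝒞[r] ≤ A := inf_le_left
  generalize A ⊓ 𝒞[r] = U at *
  generalize cj g A = A1 at *
  have sU : ∀ u ∈ U, u * u = 1 := fun u hu => sq u (UA hu)
  have AU : A ≤ 𝒞(U) := ab.trans (cent_anti UA)
  by_cases hU : U ≤ A1
  · have := bd A1 le_rfl (norm_of_cent (ab1.trans (cent_anti hU)))
    rw [inf_eq_left.2 hU] at this
    omega
  obtain ⟨u, hu, gen⟩ := cl_gen1 (inf_le_left (a := U) (b := A1)) (k2 U Un sU)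
  have uA : u ∉ A1 := fun h => hU (gen.trans (sup_le inf_le_right (zpowers_le.2 h)))
  obtain ⟨E, e1, e2, e3⟩ := card_comm_le (D := U ⊓ A1) ab1 sq1 (Un hu)
    (sU u hu ▸ one_mem _) (le_inf inf_le_right (inf_le_left.trans ((UA.trans AU).trans (cent_le_cent1 hu))))
  have d4 := e3.trans (Nat.mul_le_mul_left _ (k1 u (Un hu) uA (sU u hu)))
  have EU : E ≤ 𝒩(U) := fun a ha => cl_mem_norm (gen.trans (sup_le
    (fun x hx => by rw [cl_mem_cj_inv, cl_comm ab1 (e1 ha) hx.2, mul_inv_cancel_right]; exact hx.1)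
    (zpowers_le.2 (cl_mem_cj_inv.2 (by simpa using mul_mem (mem_inf.1 (e2 a ha)).1 hu)))))
  have := bd _ e1 EU
  have := card_pos' (U ⊓ A1)
  rw [c1] at d4
  omega

namespace Ed

variable {A : Subgroup G} (f : Fr P y) (h : Hyp G) (d : Ed P s r A)
include f h d

omit f h [Finite G] in
theorem m1_r1 : r ≠ 1 := fun e => d.ind (e ▸ one_mem _)

omit f h [Finite G] in
theorem m1_e : V r ≤ 𝒞(V s) :=
  (d.sup ▸ le_sup_right : V r ≤ A).trans (d.ab.trans (cent_anti (d.sup ▸ le_sup_left)))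

omit h [Finite G] in
theorem m1_PA : P ≤ 𝒩(A) := d.sup ▸ norm_sup (f.P_V d.hs) (f.P_V d.hr)

omit h [Finite G] in
theorem m1_zA : y * y ∈ 𝒩(A) := by
  rw [← d.sup, mem_norm_iff_cj, cj_sup, cj_eq_of_mem_norm (f.z_V d.hs), cj_eq_of_mem_norm (f.z_V d.hr)]

omit h [Finite G] in
theorem m1_AP {x : G} (hA : x ∈ A) (hP : x ∈ P) : x = 1 := by
  have := f.cube x hP
  rwa [pow_succ, pow_two, d.sq x hA, one_mul] at this

theorem m1_swap {n x : G} (nA : n ∈ 𝒩(A)) (nP : n ∈ 𝒩(P)) (hx : x ∈ P) (x1 : x ≠ 1) (h0 : V x ≠ ⊥)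
    (xA : V x ≤ A) : cj n (V x) = V s ∨ cj n (V x) = V r :=
  cl_sub4 f h d.hs d.s1 d.hr d.ind d.m1_e d.h1 d.h2 (V_cj n x ▸ f.P_V (cl_norm nP hx))
    (d.sup ▸ cj_le_of_mem_norm xA nA) (by rw [card_cj, h.V_four (f.ord hx x1) h0])

theorem m1_64 {n : G} (nA : n ∈ 𝒩(A)) (n1 : cj n (V s) = V r) (n2 : cj n (V r) = V s) :
    64 ∣ Nat.card 𝒩(A) := by
  have ne := f.V_ne h d.hs d.s1 d.hr d.ind d.h1
  have a1 : n ∈ 𝒩(𝒩(V s) ⊓ 𝒩(V r)) := by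
    rw [mem_norm_iff_cj, cj_inf, cj_normalizer, cj_normalizer, n1, n2, inf_comm]
  have a2 : n * n ∈ 𝒩(V s) ⊓ 𝒩(V r) :=
    mem_inf.2 ⟨by rw [mem_norm_iff_cj, cj_mul, n1, n2], by rw [mem_norm_iff_cj, cj_mul, n2, n1]⟩
  have a3 : n ∉ 𝒩(V s) ⊓ 𝒩(V r) := fun k => ne (by rw [← n1, cj_eq_of_mem_norm (mem_inf.1 k).1])
  have a4 := cl_card_sup a1 a2 a3
  have a5 : 𝒩(V s) ⊓ 𝒩(V r) ⊔ zpowers n ≤ 𝒩(A) :=
    sup_le (d.sup ▸ norm_sup inf_le_left inf_le_right) (zpowers_le.2 nA)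
  have a6 := cl_card_sup (d.m1_zA f) (f.y4 ▸ one_mem _) fun k =>
    cl_z_cent f h d.hs d.s1 d.h1 (cent_anti (d.sup ▸ le_sup_left) (d.ab k))
  have a7 : A ⊔ zpowers (y * y) ≤ 𝒩(V s) ⊓ 𝒩(V r) := sup_le
    (le_inf (norm_of_cent (d.ab.trans (cent_anti (d.sup ▸ le_sup_left))))
      (norm_of_cent (d.ab.trans (cent_anti (d.sup ▸ le_sup_right)))))
    (zpowers_le.2 (mem_inf.2 ⟨f.z_V d.hs, f.z_V d.hr⟩))
  have a8 := card_dvd_of_le a7
  rw [a6, d.card] at a8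
  exact dvd_trans (a4 ▸ Nat.mul_dvd_mul_left 2 a8) (card_dvd_of_le a5)

/-- `N(A)` permutes the two factors -/
theorem m1_perm (hc : ∀ t ∈ V s, t ≠ 1 → ¬ 64 ∣ Nat.card 𝒞[t]) {g : G} (hg : g ∈ 𝒩(A)) :
    cj g (V s) = V s ∨ cj g (V s) = V r := by
  have r1 := d.m1_r1
  have sA : V s ≤ A := d.sup ▸ le_sup_left
  have rA : V r ≤ A := d.sup ▸ le_sup_right
  by_cases hn : ∀ n ∈ 𝒩(A), n ∈ 𝒩(P) → n ∈ P ∨ n * (y * y) ∈ P
  · refine Or.inl (cj_eq_of_mem_norm (f.st h (d.m1_PA f) hn (f.P_V d.hs) (f.z_V d.hs)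
      (fun x hx x1 xA => norm_of_cent ?_) hg))
    rcases cl_nrm f h d.hs d.s1 d.hr d.ind d.m1_e d.h1 hx x1 (d.sup ▸ xA) with k | k
    · exact k
    · exact (d.n2 ▸ f.le_NN h d.hr r1 d.h2 (h.V_two (f.ord hx x1)) k : V x ≤ A).trans
        (d.ab.trans (cent_anti sA))
  push Not at hn
  obtain ⟨n, nA, nP, n1, n2⟩ := hn
  have b1 : cj n (V s) = V r := (d.m1_swap f h nA nP d.hs d.s1 d.h1 sA).resolve_left fun k =>
    (f.idxV h nP d.hs d.s1 d.h1 (mem_norm_iff_cj.2 k)).elim n1 n2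
  have b2 : cj n (V r) = V s := (d.m1_swap f h nA nP d.hr r1 d.h2 rA).resolve_right fun k =>
    (f.idxV h nP d.hr r1 d.h2 (mem_norm_iff_cj.2 k)).elim n1 n2
  obtain ⟨T, hT, AT⟩ := exists_sylowOf_ge (isPi_of_isPGroup pr2 (cl_two d.sq)) (le_normalizer (H := A))
  have b3 : 64 ∣ Nat.card T := by
    have := d.m1_64 f h nA b1 b2
    rw [← card_mul_relIndex hT.le] at this
    exact Nat.Coprime.dvd_of_dvd_mul_right (Nat.Coprime.pow_left 6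
      ((Nat.Prime.coprime_iff_not_dvd pr2).2 ((sylowOf_iff pr2).1 hT).2.2)) this
  obtain ⟨a, ha, a1⟩ := ne_bot_iff_exists.1 (inf_center_ne_bot_of_nilpotent hT.pi.nilpotent AT hT.le
    (ne_bot_mono sA d.h1))
  have b4 : 64 ∣ Nat.card 𝒞[a] := b3.trans (card_dvd_of_le (le_cent1_iff.2 ha.2))
  obtain ⟨a', a1', b, hb, rfl⟩ := (mem_sup_of_norm_left (norm_of_cent d.m1_e)).1 (d.sup ▸ ha.1)
  have a0 : a' ≠ 1 := by
    rintro rfl
    rw [one_mul] at a1 b4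
    exact hc (n * b * n⁻¹) (b2 ▸ conj_mem_cj.2 hb) (fun e => a1 (by simpa using e))
      (by rwa [cl_card_cent])
  have b0 : b ≠ 1 := by
    rintro rfl
    rw [mul_one] at b4
    exact hc a' a1' a0 b4
  have b5 : ∀ e ∈ cj g (V s), e ∈ V s ∨ e ∈ V r := fun e he => by
    obtain ⟨v, hv, rfl⟩ := mem_cj'.1 he
    obtain ⟨v1, h1, v2, h2, e⟩ := (mem_sup_of_norm_left (norm_of_cent d.m1_e)).1
      (d.sup ▸ cl_norm hg (sA hv) : g * v * g⁻¹ ∈ V s ⊔ V r)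
    by_cases k2 : v2 = 1
    · exact Or.inl (by rw [e, k2, mul_one]; exact h1)
    by_cases k1 : v1 = 1
    · exact Or.inr (by rw [e, k1, one_mul]; exact h2)
    exfalso
    obtain ⟨p, hp, ep⟩ := f.trans h d.hs d.s1 d.hr d.ind h1 k1 a1' a0
    obtain ⟨q, hq, eq⟩ := f.trans h d.hr r1 d.hs (f.ind_symm d.hs d.s1 d.hr d.ind) h2 k2 hb b0
    have c1 : p * v2 = v2 * p := (cl_comm (cent_zpowers r ▸ h.V_le (f.ord d.hr r1)) h2 hp).symm
    have c2 : q * a' = a' * q := (cl_comm (cent_zpowers s ▸ h.V_le (f.ord d.hs d.s1)) a1' hq).symm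
    have c3 : q * p * g * v * (q * p * g)⁻¹ = a' * b := by
      calc _ = q * (p * (g * v * g⁻¹) * p⁻¹) * q⁻¹ := by group
        _ = q * (p * v1 * p⁻¹ * (p * v2 * p⁻¹)) * q⁻¹ := by rw [e]; group
        _ = q * a' * v2 * q⁻¹ := by rw [ep, c1]; group
        _ = a' * b := by rw [c2, ← eq]; group
    refine hc v hv (fun e => a1 ?_) (by rwa [← c3, cl_card_cent] at b4)
    rw [← c3, e]; group
  have c4 : Nat.card (cj g (V s)) = 4 := by rw [card_cj, h.V_four (f.ord d.hs d.s1) d.h1]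
  exact (le_or_le b5).imp
    (fun k => eq_of_le_of_card_eq k (card_cj _ _))
    fun k => eq_of_le_of_card_eq k (by rw [c4, h.V_four (f.ord d.hr r1) d.h2])

theorem m1_frat {x g : G} (hx : x ∈ P) (x1 : x ≠ 1) (h0 : V x ≠ ⊥) (xA : NN x = A)
    (hg : cj g (V s) = V x) : ∃ a ∈ A, ∃ n ∈ 𝒩(P), g = a * n := by
  obtain ⟨m, hm, e⟩ := sylowOf_subJ (f.sylow h (f.P_V hx)) (X := cj g P)
    (by rw [← hg, ← cj_normalizer]; exact cj_mono g (f.P_V d.hs)) ((isPi_of_isPGroup pr3 f.three).cj g)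
  rw [cj_cj] at e
  have e' := mem_norm_of_cj_le e
  obtain ⟨a, ha, p, hp, k | k⟩ := f.mem_NV h hx x1 h0 (inv_mem hm)
  · exact ⟨a, xA ▸ ha, p * (m * g), mul_mem (le_normalizer hp) e', by rw [← mul_assoc, ← k]; group⟩
  · exact ⟨a, xA ▸ ha, p * (y * y) * (m * g), mul_mem (mul_mem (le_normalizer hp) (mul_mem f.ny f.ny)) e',
      by rw [← mul_assoc, ← mul_assoc a, ← k]; group⟩

theorem m1_inv (hc : ∀ t ∈ V s, t ≠ 1 → ¬ 64 ∣ Nat.card 𝒞[t]) {g : G} (hg : g ∈ 𝒩(A)) (gA : g ∉ A)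
    (g2 : g * g = 1) : ∃ a ∈ A, ∃ p ∈ P, g = a * (p * (y * y) * p⁻¹) := by
  obtain ⟨a, ha, n, hn, rfl⟩ : ∃ a ∈ A, ∃ n ∈ 𝒩(P), g = a * n :=
    (d.m1_perm f h hc hg).elim (d.m1_frat f h d.hs d.s1 d.h1 d.n1) (d.m1_frat f h d.hr d.m1_r1 d.h2 d.n2)
  have nA : n ∈ 𝒩(A) := (mul_mem_cancel_left (le_normalizer ha)).1 hg
  have n2 : n * n ∈ A := by
    have := inv_mem (mul_mem ha (cl_norm nA ha))
    rwa [show (a * (n * a * n⁻¹))⁻¹ = n * n * (a * n * (a * n))⁻¹ by group, g2, inv_one, mul_one] at this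
  have n3 : n * n ∈ P := by
    rw [← f.cent, mem_centralizer_iff]
    intro p hp
    have := d.m1_AP f (x := (n * n)⁻¹ * (p * (n * n) * p⁻¹))
      (mul_mem (inv_mem n2) (conj_mem_of_norm (d.m1_PA f) hp n2))
      (by
        have := mul_mem (cl_norm' (mul_mem hn hn) hp) (inv_mem hp)
        rwa [show (n * n)⁻¹ * p * (n * n) * p⁻¹ = (n * n)⁻¹ * (p * (n * n) * p⁻¹) by group] at this)
    rw [inv_mul_eq_one, eq_mul_inv_iff_mul_eq] at this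
    exact this.symm
  obtain ⟨p, hp, e⟩ := f.invol h hn (d.m1_AP f n2 n3) (by rintro rfl; exact gA (by rwa [mul_one]))
  exact ⟨a, ha, p, hp, by rw [e]⟩

end Ed

theorem match1 (c : Ctx G) (f : Fr P y) {A : Subgroup G} (d : Ed P s r A)
    (h : ∀ t ∈ V s, t ≠ 1 → ¬ 64 ∣ Nat.card 𝒞[t]) : False := by
  refine m1_abs c (f.ord d.hs d.s1) d.h1 d.ab d.sq d.card (fun g hg gA g2 => ?_)
    fun E hE sq => cl_card_two fun a ha b hb aA bA => ?_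
  · obtain ⟨a, ha, p, hp, rfl⟩ := d.m1_inv f c.hyp h hg gA g2
    have h1 := cl_fixz f c.hyp d.hs d.s1 d.hr d.ind d.m1_e
    rw [d.sup, ← cl_fix_cj p, cj_eq_of_mem_norm (d.m1_PA f hp)] at h1
    refine le_trans (card_le_of_le fun x hx => mem_inf.2 ⟨hx.1, mem_cent1.2 ?_⟩) h1
    have h2 := mem_cent1.1 hx.2
    rw [← mul_assoc, cl_comm d.ab hx.1 ha, mul_assoc, mul_assoc a] at h2
    exact mul_left_cancel h2
  · obtain ⟨a1, ha1, p, hp, ea⟩ := d.m1_inv f c.hyp h (hE ha) aA (sq a ha)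
    obtain ⟨b1, hb1, q, hq, eb⟩ := d.m1_inv f c.hyp h (hE hb) bA (sq b hb)
    have zP : y * y ∈ 𝒩(P) := mul_mem f.ny f.ny
    have PA := d.m1_PA f
    set z := y * y with hz
    have k1 : p * z * p⁻¹ * (q * z * q⁻¹) ∈ P := by
      have := mul_mem (mul_mem hp (cl_norm zP (mul_mem (inv_mem hp) hq))) (inv_mem hq)
      rwa [show p * (z * (p⁻¹ * q) * z⁻¹) * q⁻¹ = p * z * p⁻¹ * (q * (z * (z * z)⁻¹) * q⁻¹) by group,
        f.y4, inv_one, mul_one] at this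
    have k2 : a1 * (p * z * p⁻¹ * b1 * (p * z * p⁻¹)⁻¹) ∈ A :=
      mul_mem ha1 (cl_norm (mul_mem (mul_mem (PA hp) (d.m1_zA f)) (inv_mem (PA hp))) hb1)
    have k3 : a * b = a1 * (p * z * p⁻¹ * b1 * (p * z * p⁻¹)⁻¹) * (p * z * p⁻¹ * (q * z * q⁻¹)) := by
      rw [ea, eb]; group
    generalize a1 * (p * z * p⁻¹ * b1 * (p * z * p⁻¹)⁻¹) = t at *
    generalize p * z * p⁻¹ * (q * z * q⁻¹) = w at *
    have k4 := sq _ (mul_mem ha hb)
    rw [k3] at k4 ⊢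
    have k5 : w * w ∈ A := by
      have := inv_mem (mul_mem k2 (conj_mem_of_norm PA k1 k2))
      rwa [show (t * (w * t * w⁻¹))⁻¹ = w * w * (t * w * (t * w))⁻¹ by group, k4, inv_one, mul_one] at this
    have k6 := f.cube w k1
    rw [pow_succ, pow_two, d.m1_AP f k5 (mul_mem k1 k1), one_mul] at k6
    rwa [k6, mul_one]

end Cfsg.Agent.C34
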