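import Cfsg.Agent.C34.BlkD
import Cfsg.Agent.C34.Match1

set_option autoImplicit false

namespace Cfsg.Agent.C34

open Cfsg Cfsg.Agent.H49 Subgroup

universe u

variable {G : Type u} [Group G] [Finite G] {P A A0 Q : Subgroup G} {y s r t u w : G}

omit [Finite G] in
theorem ncard_cls33 (S : Subgroup G) (x : G) :
    Nat.card ↥(S ⊓ 𝒞[x]) * {y | ∃ k ∈ S, k * x * k⁻¹ = y}.ncard = Nat.card S := by
  let _ := MulAction.compHom G (MulAut.conj.comp S.subtype)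
  have e : {y | ∃ k ∈ S, k * x * k⁻¹ = y} = MulAction.orbit S x := by
    ext y
    exact ⟨fun ⟨k, hk, e⟩ => ⟨⟨k, hk⟩, e⟩, fun ⟨k, e⟩ => ⟨k, k.2, e⟩⟩
  rw [e, ← MulAction.index_stabilizer, inf_comm, ← card_inf_mul_relIndex 𝒞[x] S, relIndex]
  congr 2
  ext s
  rw [mem_subgroupOf, mem_centralizer_singleton_iff, ← mul_inv_eq_iff_eq_mul]
  rfl

theorem ncard_diff33 {H K : Subgroup G} (h : H ≤ K) : ((K : Set G) \ H).ncard = Nat.card K - Nat.card H := by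
  rw [Set.ncard_diff h, ← Nat.card_coe_set_eq, ← Nat.card_coe_set_eq]; rfl

/-- the elements centralised by `m` modulo `⟨t⟩` -/
def KK33 (t m : G) : Subgroup G where
  carrier := {a | a ∈ 𝒞[t] ∧ m * a * m⁻¹ * a⁻¹ ∈ zpowers t}
  one_mem' := ⟨one_mem _, by simp⟩
  mul_mem' := fun {a b} ha hb => ⟨mul_mem ha.1 hb.1, by
    convert mul_mem ha.2 (conj_mem_of_norm (norm_of_cent (cent_zpowers t).ge) ha.1 hb.2) using 1; group⟩
  inv_mem' := fun {a} ha => ⟨inv_mem ha.1, by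
    convert conj_mem_of_norm' (norm_of_cent (cent_zpowers t).ge) ha.1 (inv_mem ha.2) using 1; group⟩

/-- the elements of `M` acting trivially on `A0 / ⟨t⟩` -/
def QQ33 (t : G) (M A0 : Subgroup G) (h1 : M ≤ 𝒞[t]) (h2 : M ≤ 𝒩(A0)) : Subgroup G where
  carrier := {x | x ∈ M ∧ ∀ a ∈ A0, x * a * x⁻¹ * a⁻¹ ∈ zpowers t}
  one_mem' := ⟨one_mem _, by simp⟩
  mul_mem' := fun {p q} hp hq => ⟨mul_mem hp.1 hq.1, fun a ha => by
    convert mul_mem (conj_mem_of_norm (norm_of_cent (cent_zpowers t).ge) (h1 hp.1) (hq.2 a ha)) (hp.2 a ha)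
      using 1; group⟩
  inv_mem' := fun {p} hp => ⟨inv_mem hp.1, fun a ha => by
    convert inv_mem (hp.2 _ (conj_mem_of_norm' h2 hp.1 ha)) using 1; group⟩

theorem m2a_aux (h : Hyp G) (f : Fr P y) (d : Ed P s r A) (ht : t ∈ V s) (t1 : t ≠ 1) (h64 : 64 ∣ Nat.card 𝒞[t])
    (tz : t * (y * y) = y * y * t) (hu : u ∈ V s) (e0 : u * (y * y) * u⁻¹ * (y * y)⁻¹ = t) :
    (∃ (u w : G) (A0 Q : Subgroup G), Blk t s u w A A0 Q) ∧
      ∀ a ∈ A, a ≠ 1 → ∃ n ∈ 𝒩(A), a = n * t * n⁻¹ := by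
  have := Fact.mk pr2
  have := Fact.mk pr3
  have r1 := d.m1_r1
  have os := f.ord d.hs d.s1
  have or := f.ord d.hr r1
  have ind' := f.ind_symm d.hs d.s1 d.hr d.ind
  have sA : V s ≤ A := d.sup ▸ le_sup_left
  have rA : V r ≤ A := d.sup ▸ le_sup_right
  have cm : ∀ {a b : G}, a ∈ A → b ∈ A → a * b = b * a := fun ha hb => cl_comm d.ab ha hb
  have dj : ∀ {x : G}, x ∈ V s → x ∈ V r → x = 1 := fun h1 h2 =>
    mem_bot.1 (cl_inf f h d.hs d.s1 d.hr d.ind ▸ mem_inf.2 ⟨h1, h2⟩)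
  have tA := sA ht
  have uA := sA hu
  have t2 := d.sq t tA
  have u2 := d.sq u uA
  have ZV : zpowers t ≤ V s := zpowers_le.2 ht
  have u1 : u ≠ 1 := fun e => t1 (by rw [← e0, e]; group)
  have ut : u ≠ t := fun e => t1 (by rw [← e0, e, tz]; group)
  have ut1 : u * t ≠ 1 := fun e => ut (by rw [← mul_one u, ← t2, ← mul_assoc, e, one_mul])
  have V1 : ∀ {x : G}, x ∈ V s → x = 1 ∨ x = t ∨ x = u ∨ x = u * t := fun hx =>
    four_elts (h.V_four os d.h1).le ht hu (mul_mem hu ht) hx t1 u1 ut1 ut.symm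
      (fun e => u1 (mul_right_cancel (e.symm.trans (one_mul t).symm))) fun e => t1 (by simpa using e)
  have zA := d.m1_zA f
  have PA := d.m1_PA f
  have zX : y * y ∈ 𝒞[t] := mem_cent1.2 tz.symm
  have zu : y * y * u * (y * y)⁻¹ = u * t := by
    rw [← e0, inv_eq_of_mul_eq_one_right u2, ← mul_assoc, ← mul_assoc, ← mul_assoc, u2, one_mul]
  have AX : A ≤ 𝒞[t] := le_cent1_iff.2 (d.ab tA)
  have Vs := cent_zpowers s ▸ h.V_le os
  have Vr := cent_zpowers r ▸ h.V_le or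
  have sX : zpowers s ≤ 𝒞[t] := le_cent1_iff.2 (Vs ht)
  have sM : zpowers s ≤ 𝒞[t] ⊓ 𝒩(A) := le_inf sX ((zpowers_le.2 d.hs).trans PA)
  have zM : y * y ∈ 𝒞[t] ⊓ 𝒩(A) := mem_inf.2 ⟨zX, zA⟩
  have tN : t ∈ 𝒩(V r) := norm_of_cent (d.ab.trans (cent_anti rA)) tA
  have tr : t ∉ V r := fun k => t1 (dj ht k)
  have c0 : Nat.card ↥(V r ⊔ zpowers t) = 8 := by rw [cl_card_sup tN (t2 ▸ one_mem _) tr, h.V_four or d.h2]
  have le0 : V r ⊔ zpowers t ≤ A := sup_le rA (zpowers_le.2 tA)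
  have mem0 : ∀ {a : G}, a ∈ V r ⊔ zpowers t ↔ ∃ x ∈ V r, ∃ c ∈ zpowers t, a = x * c :=
    mem_sup_of_norm_left (zpowers_le.2 tN)
  have tA0 : t ∈ V r ⊔ zpowers t := mem_sup_right (mem_zpowers t)
  have u0 : u ∉ V r ⊔ zpowers t := fun k => by
    rcases cl_mem_sup tN (t2 ▸ one_mem _) k with k | k
    exacts [u1 (dj hu k), ut1 (dj (mul_mem hu ht) k)]
  have rA0 : V r ≤ V r ⊔ zpowers t := le_sup_left
  have C0 : 𝒞(V r ⊔ zpowers t) ≤ A := fun g hg => by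
    obtain ⟨n, hn, k, hk, rfl⟩ := f.mem_CV h d.hr r1 d.h2 (cent_anti rA0 hg)
    rw [d.n2] at hn
    have h1 : t * k = k * t := mul_left_cancel (a := n) (by
      rw [← mul_assoc, cm hn tA, mul_assoc, hg t tA0, mul_assoc])
    rcases zp3 (or ▸ pow_orderOf_eq_one r) hk with rfl | rfl | rfl
    · rwa [mul_one]
    · exact absurd (f.fpf h d.hs d.s1 d.hr d.ind ht h1) t1
    · exact absurd (f.fpf h d.hs d.s1 (inv_mem d.hr) (fun k => d.ind (inv_mem_iff.1 k)) ht h1) t1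
  generalize V r ⊔ zpowers t = A0 at *
  have CV : 𝒞[t] ⊓ 𝒞[u] = 𝒞(V s) := le_antisymm (fun g hg x hx => by
    have h1 := mem_cent1.1 (mem_inf.1 hg).1
    have h2 := mem_cent1.1 (mem_inf.1 hg).2
    rcases V1 hx with rfl | rfl | rfl | rfl
    · simp
    · exact h1.symm
    · exact h2.symm
    · rw [mul_assoc, ← h1, ← mul_assoc, ← h2, mul_assoc]) (le_inf (cent_le_cent1 ht) (cent_le_cent1 hu))
  have c48 : Nat.card 𝒞(V s) = 48 := by
    have h1 := (f.prod_CV h d.hs d.s1 d.h1).card_mul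
    rw [d.n1, (eq_bot_iff_forall _).2 fun x hx => d.m1_AP f (mem_inf.1 hx).1 (zpowers_le.2 d.hs (mem_inf.1 hx).2),
      card_bot, d.card, Nat.card_zpowers, os] at h1
    omega
  have fz := d.sup ▸ cl_fixz f h d.hs d.s1 d.hr d.ind d.m1_e
  have zA' : y * y ∉ A := fun k => cl_z_cent f h d.hs d.s1 d.h1 (cent_anti sA (d.ab k))
  have m64 : 64 ∣ Nat.card ↥(𝒞[t] ⊓ 𝒩(A)) := by
    have c32 := cl_card_sup zA (f.y4 ▸ one_mem A) zA'
    rw [d.card] at c32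
    obtain ⟨T, hT, h1⟩ := exists_sylowOf_ge (isPi_of_card_eq_pow (k := 5) pr2 c32) (sup_le AX (zpowers_le.2 zX))
    have h2 : 64 ∣ Nat.card T := by
      rw [← card_mul_relIndex hT.le] at h64
      exact Nat.Coprime.dvd_of_dvd_mul_right (Nat.Coprime.pow_left 6
        ((Nat.Prime.coprime_iff_not_dvd pr2).2 ((sylowOf_iff pr2).1 hT).2.2)) h64
    have h3 := lt_inf_norm_of_nilpotent hT.pi.nilpotent (lt_of_le_of_ne h1 fun e => by
      rw [← e, c32] at h2; exact absurd h2 (by decide))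
    have h4 := cl_lt h3.le h3.2
    obtain ⟨k, hk⟩ := (hT.pi.inf_left 𝒩(A ⊔ zpowers (y * y))).exists_card_eq_pow pr2
    rw [c32, hk] at h4
    refine (hk ▸ Nat.pow_dvd_pow 2 ((Nat.pow_le_pow_iff_right (by decide)).1 (show 2 ^ 6 ≤ _ from h4))).trans
      (card_dvd_of_le (le_inf (inf_le_left.trans hT.le) fun g hg => mem_norm_of_cj_le (by_contra fun k => ?_)))
    have h5 := cj_le_of_mem_norm le_sup_left (mem_inf.1 hg).2
    obtain ⟨ρ, hρ, hn⟩ := SetLike.not_le_iff_exists.1 k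
    have h6 := (cl_mem_sup zA (f.y4 ▸ one_mem A) (h5 hρ)).resolve_left hn
    have h7 := cl_card_two (cl_out zA (f.y4 ▸ one_mem A) h5)
    have h8 : cj g A ⊓ A ≤ A ⊓ 𝒞[y * y] := fun x hx => mem_inf.2 ⟨(mem_inf.1 hx).2, mem_cent1.2
      (mul_left_cancel (a := ρ) (by
        rw [← mul_assoc, cl_comm (cl_ab_cj d.ab g) hρ (mem_inf.1 hx).1, mul_assoc, cm (mem_inf.1 hx).2 h6,
          mul_assoc]))⟩
    have h9 := card_le_of_le h8
    rw [card_cj, d.card] at h7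
    omega
  have cΩ := ncard_cls33 (𝒞[t] ⊓ 𝒩(A)) u
  rw [inf_right_comm, CV, inf_eq_left.2 ((cent_le_norm _).trans (d.n1 ▸ norm_NN s)), c48] at cΩ
  have Ωd : ∀ x, x ∈ {y | ∃ k ∈ 𝒞[t] ⊓ 𝒩(A), k * u * k⁻¹ = y} ↔ ∃ k ∈ 𝒞[t] ⊓ 𝒩(A), k * u * k⁻¹ = x :=
    fun _ => Iff.rfl
  generalize {y | ∃ k ∈ 𝒞[t] ⊓ 𝒩(A), k * u * k⁻¹ = y} = Ω at cΩ Ωd
  have Mt : ∀ {m : G}, m ∈ 𝒞[t] ⊓ 𝒩(A) → m * t * m⁻¹ = t := fun hm => by
    rw [mem_cent1.1 (mem_inf.1 hm).1, mul_inv_cancel_right]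
  have MA : ∀ {m a : G}, m ∈ 𝒞[t] ⊓ 𝒩(A) → a ∈ A → m * a * m⁻¹ ∈ A := fun hm ha => cl_norm (mem_inf.1 hm).2 ha
  have Ωc : ∀ {m x : G}, m ∈ 𝒞[t] ⊓ 𝒩(A) → x ∈ Ω → m * x * m⁻¹ ∈ Ω := fun {m x} hm hx => by
    obtain ⟨k, hk, rfl⟩ := (Ωd x).1 hx
    exact (Ωd _).2 ⟨m * k, mul_mem hm hk, by group⟩
  have Ωc' : ∀ {m x : G}, m ∈ 𝒞[t] ⊓ 𝒩(A) → m * x * m⁻¹ ∈ Ω → x ∈ Ω := fun hm hx => by
    simpa [mul_assoc] using Ωc (inv_mem hm) hx
  have Ωu : u ∈ Ω := (Ωd u).2 ⟨1, one_mem _, by group⟩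
  have Ωt : ∀ {x : G}, x ∈ Ω → x * t ∈ Ω := fun {x} hx => by
    obtain ⟨k, hk, rfl⟩ := (Ωd x).1 hx
    refine (Ωd _).2 ⟨k * (y * y), mul_mem hk zM, ?_⟩
    calc _ = k * (y * y * u * (y * y)⁻¹) * k⁻¹ := by group
      _ = k * u * k⁻¹ * (k * t * k⁻¹) := by rw [zu]; group
      _ = _ := by rw [Mt hk]
  have Ωt' : ∀ {x : G}, x * t ∈ Ω → x ∈ Ω := fun hx => by
    have := Ωt hx
    rwa [mul_assoc, t2, mul_one] at this
  have ΩA : ∀ {x : G}, x ∈ Ω → x ∈ A ∧ x ≠ 1 ∧ x ≠ t := fun {x} hx => by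
    obtain ⟨k, hk, rfl⟩ := (Ωd x).1 hx
    exact ⟨MA hk uA, fun e => u1 (by simpa using e), fun e => ut (by simpa using e.trans (Mt hk).symm)⟩
  have Ωs : ∀ {c v v' : G}, c ∈ V s → v ∈ V r → v ≠ 1 → v' ∈ V r → v' ≠ 1 → c * v ∈ Ω → c * v' ∈ Ω :=
    fun {c v v'} hc hv v1 hv' v1' hx => by
      obtain ⟨p, hp, rfl⟩ := f.trans h d.hr r1 d.hs ind' hv v1 hv' v1'
      have := Ωc (sM hp) hx
      rwa [← mul_assoc, ← cl_comm Vs hc hp, mul_assoc c, mul_assoc c] at this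
  have cls : ∀ {a : G}, a ∈ A → ∃ v ∈ V r, a = v ∨ a = v * t ∨ a = u * v ∨ a = u * v * t := fun {a} ha => by
    obtain ⟨c, hc, v, hv, rfl⟩ := (mem_sup_of_norm_left (norm_of_cent d.m1_e)).1 (d.sup ▸ ha : a ∈ V s ⊔ V r)
    refine ⟨v, hv, ?_⟩
    rcases V1 hc with rfl | rfl | rfl | rfl
    · simp
    · exact Or.inr (Or.inl (cm tA (rA hv)))
    · simp
    · exact Or.inr (Or.inr (Or.inr (by rw [mul_assoc, cm tA (rA hv), mul_assoc])))
  obtain ⟨v, hv, v1⟩ := ne_bot_iff_exists.1 d.h2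
  have hv' : s * v * s⁻¹ ∈ V r := conj_mem_of_norm (f.P_V d.hr) d.hs hv
  have vv : s * v * s⁻¹ ≠ v := fun e => v1 (f.fpf h d.hr r1 d.hs ind' hv (mul_inv_eq_iff_eq_mul.1 e).symm)
  have v1' : s * v * s⁻¹ ≠ 1 := fun e => v1 (by simpa using e)
  have h4 : 4 ∣ Ω.ncard := by rw [← cΩ] at m64; omega
  have eΩ : Ω = (A : Set G) \ A0 := by
    by_cases pW : u * v ∈ Ω
    · have a1 : ∀ x ∈ V r, u * x ∈ Ω := fun x hx => by
        by_cases x1 : x = 1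
        · rwa [x1, mul_one]
        · exact Ωs hu hv v1 hx x1 pW
      have a2 : ∀ x ∈ V r, x ≠ 1 → x ∉ Ω := fun x hx x1 hΩ => by
        have a3 : Ω = (A : Set G) \ zpowers t := by
          refine Set.Subset.antisymm (fun a ha => ⟨(ΩA ha).1, fun k => ?_⟩) fun a ha => ?_
          · rcases V1 (ZV k) with e | e | e | e
            exacts [(ΩA ha).2.1 e, (ΩA ha).2.2 e, u0 (zpowers_le.2 tA0 (e ▸ k)),
              u0 ((mul_mem_cancel_right tA0).1 (zpowers_le.2 tA0 (e ▸ k)))]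
          have a4 : ∀ w ∈ V r, w ≠ 1 → w ∈ Ω := fun w hw w1 => by
            simpa using Ωs (one_mem _) hx x1 hw w1 (by rwa [one_mul])
          obtain ⟨w, hw, e | e | e | e⟩ := cls ha.1 <;> rw [e]
          · exact a4 w hw fun k => ha.2 (by rw [e, k]; exact one_mem _)
          · exact Ωt (a4 w hw fun k => ha.2 (by rw [e, k, one_mul]; exact mem_zpowers t))
          · exact a1 w hw
          · exact Ωt (a1 w hw)
        rw [a3, ncard_diff33 (zpowers_le.2 tA), d.card, Nat.card_zpowers,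
          orderOf_eq_prime ((pow_two t).trans t2) t1] at h4
        exact absurd h4 (by decide)
      refine Set.Subset.antisymm (fun a ha => ⟨(ΩA ha).1, fun k => ?_⟩) fun a ha => ?_
      · obtain ⟨x, hx, c, hc, rfl⟩ := mem0.1 k
        rcases V1 (ZV hc) with e | e | e | e
        · rw [e, mul_one] at ha
          exact a2 x hx (ΩA ha).2.1 ha
        · rw [e] at ha
          exact a2 x hx (fun k => (ΩA ha).2.2 (by rw [k, one_mul])) (Ωt' ha)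
        · exact u0 (zpowers_le.2 tA0 (e ▸ hc))
        · exact u0 ((mul_mem_cancel_right tA0).1 (zpowers_le.2 tA0 (e ▸ hc)))
      · obtain ⟨w, hw, e | e | e | e⟩ := cls ha.1
        · exact absurd (e ▸ rA0 hw) ha.2
        · exact absurd (e ▸ mul_mem (rA0 hw) tA0) ha.2
        · exact e ▸ a1 w hw
        · exact e ▸ Ωt (a1 w hw)
    exfalso
    have a1 : ∀ x ∈ V r, u * x ∈ Ω → x = 1 := fun x hx k => by_contra fun x1 => pW (Ωs hu hx x1 hv v1 k)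
    by_cases pV : v ∈ Ω
    · have a4 : ∀ w ∈ V r, w ≠ 1 → w ∈ Ω := fun w hw w1 => by
        simpa using Ωs (one_mem _) hv v1 hw w1 (by rwa [one_mul])
      obtain ⟨m, hm, em⟩ := (Ωd v).1 pV
      have a5 : ∀ x ∈ V r, x ≠ 1 → m * x * m⁻¹ * u ∈ zpowers t := fun x hx x1 => by
        have b1 := Ωc hm (a4 x hx x1)
        have b2 : v * (m * x * m⁻¹) ∉ Ω := fun k => x1 (a1 x hx (Ωc' hm (by rwa [← em, conj_mul] at k)))
        have b3 : ∀ c ∈ A0, m * c * m⁻¹ = c → v * (m * x * m⁻¹) ≠ c := fun c hc e k => by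
          rw [← em, conj_mul, ← e] at k
          exact u0 ((mul_mem_cancel_right (rA0 hx)).1 ((by simpa using k : u * x = c) ▸ hc))
        obtain ⟨w, hw, e | e | e | e⟩ := cls (ΩA b1).1 <;> rw [e] at b1 b2 b3 ⊢
        · exact absurd (a4 _ (mul_mem hv hw) (b3 1 (one_mem _) (by group))) b2
        · rw [← mul_assoc] at b2 b3
          exact absurd (Ωt (a4 _ (mul_mem hv hw) fun k => b3 t tA0 (Mt hm) (by rw [k, one_mul]))) b2
        · rw [a1 w hw b1, mul_one, u2]; exact one_mem _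
        · rw [a1 w hw (Ωt' b1), mul_one, mul_assoc, cm tA uA, ← mul_assoc, u2, one_mul]; exact mem_zpowers t
      have a6 := mul_mem (a5 _ hv' v1') (inv_mem (a5 v hv v1))
      have a7 := conj_mem_of_norm' (norm_of_cent (cent_zpowers t).ge) (mem_inf.1 hm).1 a6
      rw [show m⁻¹ * (m * (s * v * s⁻¹) * m⁻¹ * u * (m * v * m⁻¹ * u)⁻¹) * m = s * v * s⁻¹ * v⁻¹ by group] at a7
      exact vv (mul_inv_eq_one.1 (dj (ZV a7) (mul_mem hv' (inv_mem hv))))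
    have a2 : Ω ⊆ {u, u * t} := fun a ha => by
      have a4 : ∀ w ∈ V r, w ∈ Ω → False := fun w hw k =>
        pV (by simpa using Ωs (one_mem _) hw (ΩA k).2.1 hv v1 (by rwa [one_mul]))
      obtain ⟨w, hw, e | e | e | e⟩ := cls (ΩA ha).1 <;> rw [e] at ha ⊢
      · exact (a4 w hw ha).elim
      · exact (a4 w hw (Ωt' ha)).elim
      · rw [a1 w hw ha, mul_one]; simp
      · rw [a1 w hw (Ωt' ha), mul_one]; simp
    have a3 := (Set.ncard_le_ncard a2).trans (Set.ncard_insert_le _ _)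
    rw [Set.ncard_singleton] at a3
    have a5 := (Set.ncard_pos (s := Ω)).2 ⟨u, Ωu⟩
    omega
  have mΩ : ∀ {a : G}, a ∈ A → a ∉ A0 → a ∈ Ω := fun ha h0 => eΩ ▸ ⟨ha, h0⟩
  rw [eΩ, ncard_diff33 le0, d.card, c0] at cΩ
  have n0 : 𝒞[t] ⊓ 𝒩(A) ≤ 𝒩(A0) := le_norm_iff.2 fun m hm a ha => by_contra fun k =>
    (eΩ ▸ Ωc' hm (mΩ (MA hm (le0 ha)) k) : a ∈ (A : Set G) \ A0).2 ha
  constructor
  · refine ⟨u, y * y, A0, QQ33 t _ A0 inf_le_left n0, t1, t2, os, sM (mem_zpowers s), zM, f.y4, f.inv s d.hs, uA, u0,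
      mem_cent1.1 (h.V_le os hu), zu, fun x h1 h2 => ?_, fun x hx n hn => V1 (h.mem_V_two os hn hx), d.ab, d.sq,
      d.card, tA0, le0, c0, cΩ.symm, n0, fun _ => Iff.rfl, ?_, C0, fun a ha h0 => ?_⟩
    · obtain ⟨c, hc, p, hp, rfl⟩ := f.mem_C h d.hs d.s1 h2
      have h3 : p ∈ zpowers s := by_contra fun k => t1 (f.fpf h d.hs d.s1 hp k ht (mul_left_cancel (a := c) (by
        rw [← mul_assoc, cm (sA hc) tA, mul_assoc, ← h1, mul_assoc])))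
      refine ⟨p, h3, ?_⟩
      rw [cl_comm Vs hc h3]
      rcases V1 hc with e | e | e | e <;> simp [e]
    · have QM : QQ33 t _ A0 inf_le_left n0 ≤ 𝒞[t] ⊓ 𝒩(A) := fun x hx => hx.1
      have mQ : ∀ {x : G}, x ∈ QQ33 t _ A0 inf_le_left n0 ↔
        x ∈ 𝒞[t] ⊓ 𝒩(A) ∧ ∀ a ∈ A0, x * a * x⁻¹ * a⁻¹ ∈ zpowers t := Iff.rfl
      generalize QQ33 t _ A0 inf_le_left n0 = Q at QM mQ
      have nQ : 𝒞[t] ⊓ 𝒩(A) ≤ 𝒩(Q) := le_norm_iff.2 fun m hm q hq => mQ.2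
        ⟨mul_mem (mul_mem hm (QM hq)) (inv_mem hm), fun a ha => by
          have := conj_mem_of_norm (norm_of_cent (cent_zpowers t).ge) (mem_inf.1 hm).1
            ((mQ.1 hq).2 _ (conj_mem_of_norm' n0 hm ha))
          convert this using 1; group⟩
      have q1 : ∀ {p : G}, p ∈ Q → p ∈ 𝒩(V r) → p ∈ 𝒞(V r) := fun hp hn x hx => by
        have := dj (ZV ((mQ.1 hp).2 x (rA0 hx))) (mul_mem (cl_norm hn hx) (inv_mem hx))
        rw [mul_inv_eq_one, mul_inv_eq_iff_eq_mul] at this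
        exact this.symm
      have q3 : ¬ 3 ∣ Nat.card Q := fun k => by
        obtain ⟨X, XQ, hX⟩ := exists_card_eq_prime pr3 k
        have cs := (Nat.card_zpowers s).trans os
        obtain ⟨g, hg, k1⟩ := sylowOf_subJ ((sylowOf_iff pr3).2 ⟨sM, IsPGroup.of_card (n := 1) cs, by
          have := card_mul_relIndex sM
          rw [cs, ← cΩ] at this
          omega⟩) (XQ.trans QM) (isPi_of_card_eq_prime pr3 hX)
        have k2 := (eq_of_le_of_card_eq k1 (by rw [card_cj, hX, cs])).ge.trans (cj_le_of_mem_norm XQ (nQ hg))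
        exact v1 (f.fpf h d.hr r1 d.hs ind' hv (q1 (k2 (mem_zpowers s)) (f.P_V d.hr d.hs) v hv))
      have q2 := card_dvd_of_le (sup_le QM (zpowers_le.2 zM))
      rw [cl_card_sup (nQ zM) (f.y4 ▸ one_mem Q) fun k => cl_z_cent f h d.hr r1 d.h2 (q1 k (f.z_V d.hr)),
        ← cΩ] at q2
      have q4 : Nat.card Q ∣ 64 := Nat.Coprime.dvd_of_dvd_mul_right (n := 3)
        ((Nat.Prime.coprime_iff_not_dvd pr3).2 q3).symm (Nat.dvd_of_mul_dvd_mul_left (by decide : 0 < 2) q2)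
      have el := fun {x : G} (hx : x ∈ V r) => f.V_elts h d.hr r1 d.hs ind' hv v1 hx
      have toQ : ∀ {m : G}, m ∈ 𝒞[t] ⊓ 𝒩(A) → m * v = v * m →
          m * (s * v * s⁻¹) * m⁻¹ * (s * v * s⁻¹)⁻¹ ∈ zpowers t → m ∈ Q := fun {m} hm h1 h2 => by
        have k1 : v ∈ KK33 t m := ⟨AX (rA hv), by rw [h1]; simp⟩
        have k2 : s * v * s⁻¹ ∈ KK33 t m := ⟨AX (rA hv'), h2⟩
        refine mQ.2 ⟨hm, fun a ha => ?_⟩
        obtain ⟨x, hx, c, hc, rfl⟩ := mem0.1 ha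
        refine (mul_mem (?_ : x ∈ KK33 t m) (zpowers_le.2 (show t ∈ KK33 t m from
          ⟨self_mem_cent1 t, by rw [Mt hm]; simp⟩) hc)).2
        rcases (el hx).2 with e | e | e | e <;> rw [e]
        exacts [one_mem _, k1, k2, (el hx).1 ▸ mul_mem k1 k2]
      have nq : ∀ m ∈ 𝒞[t] ⊓ 𝒩(A) ⊓ 𝒞[v], m ∉ Q →
          ∃ c ∈ zpowers t, m * (s * v * s⁻¹) * m⁻¹ = v * (s * v * s⁻¹) * c := fun m hm hn => by
        obtain ⟨hm, mv⟩ := mem_inf.1 hm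
        obtain ⟨x, hx, c, hc, e⟩ := mem0.1 (conj_mem_of_norm n0 hm (rA0 hv'))
        have k0 : m⁻¹ * c * m ∈ V s := ZV (conj_mem_of_norm' (norm_of_cent (cent_zpowers t).ge) (mem_inf.1 hm).1 hc)
        rcases (el hx).2 with k | k | k | k <;> rw [k] at e
        · exact absurd (dj ((show m⁻¹ * c * m = s * v * s⁻¹ by rw [← one_mul c, ← e]; group) ▸ k0) hv') v1'
        · have k1 : m⁻¹ * c * m = v⁻¹ * (s * v * s⁻¹) := by
            calc _ = m⁻¹ * v⁻¹ * (v * c) * m := by group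
              _ = (v * m)⁻¹ * m * (s * v * s⁻¹) := by rw [← e]; group
              _ = _ := by rw [← mem_cent1.1 mv]; group
          exact absurd (inv_mul_eq_one.1 (dj (k1 ▸ k0) (mul_mem (inv_mem hv) hv'))).symm vv
        · refine absurd (toQ hm (mem_cent1.1 mv) ?_) hn
          rwa [e, cm (rA hv') (zpowers_le.2 tA hc), mul_inv_cancel_right]
        · exact ⟨c, hc, (el hx).1 ▸ e⟩
      have q5 := cl_card_two (E := 𝒞[t] ⊓ 𝒩(A) ⊓ 𝒞[v]) (A := Q) fun a ha b hb a0 b0 => by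
        obtain ⟨c, hc, ea⟩ := nq a ha a0
        obtain ⟨c', hc', eb⟩ := nq b hb b0
        obtain ⟨hm, mv⟩ := mem_inf.1 (mul_mem ha hb)
        refine toQ hm (mem_cent1.1 mv) ?_
        have k1 := conj_mem_of_norm (norm_of_cent (cent_zpowers t).ge) (mem_inf.1 (mem_inf.1 ha).1).1 hc'
        have k2 := conj_mem_of_norm (norm_of_cent (cent_zpowers t).ge) (AX (rA hv')) (mul_mem hc k1)
        convert k2 using 2
        calc _ = a * (b * (s * v * s⁻¹) * b⁻¹) * a⁻¹ := by group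
          _ = a * v * a⁻¹ * (a * (s * v * s⁻¹) * a⁻¹) * (a * c' * a⁻¹) := by rw [eb]; group
          _ = v * v * (s * v * s⁻¹) * (c * (a * c' * a⁻¹)) := by rw [ea, mem_cent1.1 (mem_inf.1 ha).2]; group
          _ = _ := by rw [d.sq v (rA hv), one_mul]
      have q6 := ncard_cls33 (𝒞[t] ⊓ 𝒩(A)) v
      have q7 : {y | ∃ k ∈ 𝒞[t] ⊓ 𝒩(A), k * v * k⁻¹ = y} ⊆ (A0 : Set G) \ zpowers t := by
        rintro _ ⟨k, hk, rfl⟩
        refine ⟨conj_mem_of_norm n0 hk (rA0 hv), fun e => v1 (dj (ZV ?_) hv)⟩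
        simpa [mul_assoc] using conj_mem_of_norm' (norm_of_cent (cent_zpowers t).ge) (mem_inf.1 hk).1 e
      have q8 := Set.ncard_le_ncard q7
      rw [ncard_diff33 (zpowers_le.2 tA0), c0, Nat.card_zpowers, orderOf_eq_prime ((pow_two t).trans t2) t1] at q8
      have q9 : 64 ≤ Nat.card ↥(𝒞[t] ⊓ 𝒩(A) ⊓ 𝒞[v]) := by rw [← cΩ] at q6; nlinarith
      have q10 := cl_lt (inf_le_right : 𝒞[t] ⊓ 𝒩(A) ⊓ 𝒞[v] ⊓ Q ≤ Q) fun k => by
        have k1 : Q ≤ 𝒞[v] := k.trans (inf_le_left.trans inf_le_right)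
        have k2 : Q ≤ 𝒞[s * v * s⁻¹] := by
          rw [← cj_cent1, ← cj_eq_of_mem_norm (nQ (sM (mem_zpowers s)))]; exact cj_mono s k1
        have k3 : Q ≤ A := le_trans (cent_symm fun a ha => ?_) C0
        · have := (card_le_of_le (inf_le_right : 𝒞[t] ⊓ 𝒩(A) ⊓ 𝒞[v] ⊓ Q ≤ Q)).trans (card_le_of_le k3)
          rw [d.card] at this
          omega
        obtain ⟨x, hx, c, hc, rfl⟩ := mem0.1 ha
        refine mul_mem ?_ (zpowers_le.2 (le_cent1_iff.1 (QM.trans inf_le_left)) hc)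
        rcases (el hx).2 with e | e | e | e <;> rw [e]
        exacts [one_mem _, le_cent1_iff.1 k1, le_cent1_iff.1 k2,
          (el hx).1 ▸ mul_mem (le_cent1_iff.1 k1) (le_cent1_iff.1 k2)]
      exact le_antisymm (Nat.le_of_dvd (by decide) q4) (by omega)
    · obtain ⟨m, hm, rfl⟩ := (Ωd a).1 (mΩ ha h0)
      have e : 𝒞[t] ⊓ 𝒞[m * u * m⁻¹] = cj m 𝒞(V s) := by rw [← CV, cj_inf, cj_cent1, cj_cent1, Mt hm]
      rw [e, card_cj]
      refine ⟨c48, fun D hD hle => ?_⟩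
      rw [← cj_eq_of_mem_norm (mem_inf.1 hm).2, le_cj_iff, ← d.n1]
      exact f.le_NN h d.hs d.s1 d.h1 (isPGroup_cj.2 hD) (le_cj_iff.1 hle)
  have Cc : ∀ {m x : G}, m ∈ 𝒩(A) → (∃ n ∈ 𝒩(A), m * x * m⁻¹ = n * t * n⁻¹) → ∃ n ∈ 𝒩(A), x = n * t * n⁻¹ :=
    fun {m x} hm ⟨n, hn, e⟩ => ⟨m⁻¹ * n, mul_mem (inv_mem hm) hn, by
      rw [show m⁻¹ * n * t * (m⁻¹ * n)⁻¹ = m⁻¹ * (n * t * n⁻¹) * m by group, ← e]; group⟩
  obtain ⟨p, hp, ep⟩ := f.trans h d.hs d.s1 d.hr d.ind ht t1 hu u1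
  have pA := PA (zpowers_le.2 d.hr hp)
  have C1 : ∀ a ∈ A, a ∉ A0 → ∃ n ∈ 𝒩(A), a = n * t * n⁻¹ := fun a ha h0 => by
    obtain ⟨m, hm, rfl⟩ := (Ωd a).1 (mΩ ha h0)
    exact ⟨m * p, mul_mem (mem_inf.1 hm).2 pA, by rw [← ep]; group⟩
  have C2 : ∀ a ∈ A, a ∉ V r → ∃ n ∈ 𝒩(A), a = n * t * n⁻¹ := fun a ha h0 => by
    by_cases k : a ∈ A0
    · obtain ⟨x, hx, c, hc, rfl⟩ := mem0.1 k
      rcases V1 (ZV hc) with e | e | e | e
      · exact absurd (by rwa [e, mul_one]) h0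
      · refine Cc pA (C1 _ (cl_norm pA ha) fun k => u0 ?_)
        rwa [e, ← conj_mul, ep, ← cl_comm Vr hx hp, mul_inv_cancel_right, mul_mem_cancel_left (rA0 hx)] at k
      · exact absurd (zpowers_le.2 tA0 (e ▸ hc)) u0
      · exact absurd ((mul_mem_cancel_right tA0).1 (zpowers_le.2 tA0 (e ▸ hc))) u0
    · exact C1 a ha k
  intro a ha a1
  by_contra k
  have aV : a ∈ V r := by_contra fun k' => k (C2 a ha k')
  have nV : 𝒩(A) ≤ 𝒩(V r) := le_norm_iff.2 fun m hm x hx => by_contra fun k' => k (by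
    obtain ⟨q, hq, e⟩ := f.trans h d.hr r1 d.hs ind' aV a1 hx (fun e => k' (by simp [e]))
    exact Cc (PA (zpowers_le.2 d.hs hq)) (e.symm ▸ Cc hm (C2 _ (cl_norm hm (rA hx)) k')))
  obtain ⟨m, hm, e⟩ := (Ωd _).1 (mΩ (mul_mem uA (rA hv)) fun k => u0 ((mul_mem_cancel_right (rA0 hv)).1 k))
  have AV : A ≤ 𝒩(V s) := norm_of_cent (d.ab.trans (cent_anti sA))
  have mV : m ∈ 𝒩(V s) := by
    obtain ⟨n, hn, q, hq, e | e⟩ := f.mem_NV h d.hr r1 d.h2 (nV (mem_inf.1 hm).2) <;> rw [e]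
    · exact mul_mem (AV (d.n2 ▸ hn)) (f.P_V d.hs hq)
    · exact mul_mem (mul_mem (AV (d.n2 ▸ hn)) (f.P_V d.hs hq)) (f.z_V d.hs)
  exact v1 (dj ((mul_mem_cancel_left hu).1 (e ▸ cl_norm mV hu)) hv)

theorem m2a (h : Hyp G) (f : Fr P y) (d : Ed P s r A) (ht : t ∈ V s) (t1 : t ≠ 1) (h64 : 64 ∣ Nat.card 𝒞[t]) :
    (∃ (u w : G) (A0 Q : Subgroup G), Blk t s u w A A0 Q) ∧
      ∀ a ∈ A, a ≠ 1 → ∃ n ∈ 𝒩(A), a = n * t * n⁻¹ := by
  obtain ⟨t0, h0, t01, tz, -, u, hu, e⟩ := f.exists_t' h d.hs d.s1 d.h1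
  obtain ⟨p, hp, rfl⟩ := f.trans h d.hs d.s1 d.hr d.ind h0 t01 ht t1
  have pP := zpowers_le.2 d.hr hp
  have f' := f.cj p
  rw [cj_eq_of_mem pP] at f'
  refine m2a_aux h f' d ht t1 h64 ?_ (conj_mem_of_norm (f.P_V d.hs) pP hu) ?_
  · rw [conj_mul, conj_mul, conj_mul, tz]
  · rw [← e]; group

end Cfsg.Agent.C34
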