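import Cfsg.Agent.C34.M2b0

set_option autoImplicit false
set_option linter.unusedSectionVars false

namespace Cfsg.Agent.C34

open Cfsg Cfsg.Agent.H49 Subgroup

universe u

variable {G : Type u} [Group G] [Finite G] {A A0 Q B B0 Q2 : Subgroup G} {s t u w s' u' w' : G}

/-- the facts on a pair of blocks -/
structure WPair (A Q B B0 : Subgroup G) : Prop where
  nAB : A ≤ 𝒩(B)
  cD : Nat.card ↥(A ⊓ B) = 4
  b0 : Q ⊓ B = B0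
  nQ : Q ≤ 𝒩(B)
  inv : ∀ x ∈ A ⊔ B, x * x = 1 → x ∈ A ∨ x ∈ B
  fix : ∀ x ∈ B, x ∉ A → A ⊓ 𝒞[x] = A ⊓ B

theorem wb_step1 (b : Blk t s u w A A0 Q) (c : Blk t s' u' w' B B0 Q2) (BA : B ≤ 𝒩(A)) (ne : B ≠ A) :
    WPair A Q B B0 := by
  have BM : B ≤ 𝒞[t] ⊓ 𝒩(A) := le_inf c.wb_AX BA
  have B2 := cl_two c.sq
  have nle : ¬ B ≤ A := fun h => ne (cl_eq h (by rw [b.cA, c.cA]))
  obtain ⟨x0, hx0, x0A⟩ : ∃ x ∈ B, x ∉ A := by
    by_contra! h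
    exact nle h
  have hD : ∀ x ∈ B, A ⊓ B ≤ A ⊓ 𝒞[x] := fun x hx => inf_le_inf_left _ (c.ab.trans (cent_le_cent1 hx))
  have h4 := (Subgroup.card_le_of_le (hD x0 hx0)).trans (b.wb_fix4 B2 c.wb_AX hx0 x0A)
  have BQ : B ≤ 𝒩(Q) := BM.trans b.wb_nQ
  have S2 : IsPGroup 2 ↥(Q ⊔ B) := b.wb_Q2.to_sup_of_normal_left' B2 BQ
  have SM : Q ⊔ B ≤ 𝒞[t] ⊓ 𝒩(A) := sup_le b.wb_QM BM
  have c1 := card_sup_mul_card_inf (H := Q) (K := B) (Or.inr BQ)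
  have c2 := b.wb_128 S2 SM
  have c3 := card_sup_mul_card_inf (H := A) (K := Q ⊓ B) (Or.inr (inf_le_right.trans BA))
  have e3 : A ⊓ (Q ⊓ B) = A ⊓ B := by rw [← inf_assoc, inf_eq_left.2 b.wb_AQ]
  have RQ : A ⊔ Q ⊓ B ≤ Q := sup_le b.wb_AQ inf_le_left
  rw [e3, b.cA] at c3
  rw [b.cQ, c.cA] at c1
  have nR : ¬ Q ≤ A ⊔ Q ⊓ B := fun h => by
    have hz : ∀ a ∈ A, Q ⊓ B ≤ 𝒞[a] → a ∈ zpowers t := fun a ha hc =>
      b.wb_ZQ ⟨ha, le_cent1_iff.1 (h.trans (sup_le (b.ab.trans (cent_le_cent1 ha)) hc))⟩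
    have h2 : Nat.card ↥(A ⊓ B) ≤ 2 := b.wb_ct ▸ Subgroup.card_le_of_le fun a ha =>
      hz a ha.1 (inf_le_right.trans (c.ab.trans (cent_le_cent1 ha.2)))
    have hB : B ≤ Q := fun x hx => (b.memQ x).2 ⟨BM hx, fun a ha => by
      refine hz _ (mul_mem (cl_norm (BA hx) (b.le0 ha)) (inv_mem (b.le0 ha))) fun y hy => mem_cent1.2 ?_
      have h1 := ((b.memQ y).1 hy.1).2 a ha
      have h3 : x * (y * a * y⁻¹ * a⁻¹) = y * a * y⁻¹ * a⁻¹ * x :=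
        mem_cent1.1 (cent_le_cent1 h1 (by rw [cent_zpowers]; exact c.wb_AX hx))
      have h5 : x * y = y * x := cl_comm c.ab hx hy.2
      have h6 : y * a * y⁻¹ * a⁻¹ * (x * a * x⁻¹) = x * a * x⁻¹ * (y * a * y⁻¹ * a⁻¹) :=
        cl_comm b.ab (b.le0 ((zpowers_le.2 b.tA0) h1)) (cl_norm (BA hx) (b.le0 ha))
      have h7 : y * a * y⁻¹ * a⁻¹ * a = a * (y * a * y⁻¹ * a⁻¹) :=
        cl_comm b.ab (b.le0 ((zpowers_le.2 b.tA0) h1)) (b.le0 ha)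
      have h8 : y * (x * a * x⁻¹) * y⁻¹ = x * a * x⁻¹ * (y * a * y⁻¹ * a⁻¹) := by
        calc _ = (y * x) * a * (y * x)⁻¹ := by group
          _ = x * (y * a * y⁻¹ * a⁻¹) * a * x⁻¹ := by rw [← h5]; group
          _ = y * a * y⁻¹ * a⁻¹ * (x * a * x⁻¹) := by rw [h3]; group
          _ = _ := h6
      calc y * (x * a * x⁻¹ * a⁻¹) = y * (x * a * x⁻¹) * y⁻¹ * (y * a * y⁻¹ * a⁻¹ * a)⁻¹ * y := by group
        _ = _ := by rw [h8, h7]; group⟩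
    have h3 := Subgroup.card_le_of_le RQ
    rw [inf_eq_right.2 hB, c.cA] at c3
    rw [inf_eq_right.2 hB, b.cQ] at h3
    have := Nat.mul_le_mul h3 h2
    omega
  have c4 := cl_lt RQ nR
  rw [b.cQ] at c4
  have c5 : Nat.card ↥(Q ⊓ B) = 8 := by
    have := Nat.mul_le_mul (show Nat.card ↥(A ⊔ Q ⊓ B) ≤ 32 by omega) h4
    have := Nat.mul_le_mul_right (Nat.card ↥(Q ⊓ B)) c2
    omega
  rw [c5] at c1 c3
  have c6 : Nat.card ↥(A ⊓ B) = 4 := by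
    have := Nat.mul_le_mul_right (Nat.card ↥(A ⊓ B)) (show Nat.card ↥(A ⊔ Q ⊓ B) ≤ 32 by omega)
    omega
  have fix : ∀ x ∈ B, x ∉ A → A ⊓ 𝒞[x] = A ⊓ B := fun x hx xA =>
    (cl_eq (hD x hx) (c6 ▸ b.wb_fix4 B2 c.wb_AX hx xA)).symm
  have nAB : A ≤ 𝒩(B) := le_norm_iff.2 fun a ha x hx => by
    by_cases xA : x ∈ A
    · rw [cl_comm b.ab ha xA]; simpa using hx
    · have := comm_fix b.ab b.sq (BA hx) (by rw [c.sq x hx]; exact one_mem _) ha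
      rw [fix x hx xA] at this
      exact (mul_mem_cancel_right (inv_mem hx)).1 this.2
  have inv : ∀ x ∈ A ⊔ B, x * x = 1 → x ∈ A ∨ x ∈ B := fun x hx x2 => by
    obtain ⟨a, ha, y, hy, rfl⟩ := (mem_sup_of_norm_right nAB).1 hx
    by_cases yA : y ∈ A
    · exact Or.inl (mul_mem ha yA)
    · have : a ∈ A ⊓ 𝒞[y] := ⟨ha, mem_cent1.2 (by
        rw [eq_inv_of_mul_eq_one_left x2, mul_inv_rev, inv_eq_of_mul_eq_one_right (b.sq a ha),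
          inv_eq_of_mul_eq_one_right (c.sq y hy)])⟩
      rw [fix y hy yA] at this
      exact Or.inr (mul_mem this.2 hy)
  have c7 := card_sup_mul_card_inf (H := A) (K := B) (Or.inr BA)
  rw [c6, b.cA, c.cA] at c7
  have nT : Q ⊔ B ≤ 𝒩(A ⊔ B) := wb_norm2 (sup_le_sup_right b.wb_AQ B) (by omega)
  have nQ : Q ≤ 𝒩(B) := fun q hq => by
    have h1 : cj q B ≤ A ⊔ B := cj_le_of_mem_norm le_sup_right (nT (mem_sup_left hq))
    rcases le_or_le fun x hx => inv x (h1 hx) (cl_sq_cj c.sq q x hx) with h | h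
    · rw [← cj_eq_of_mem_norm (b.wb_QM hq).2, cj_le_cj_iff] at h
      exact absurd h nle
    · exact mem_norm_of_cj_le h
  have SM2 : Q ⊔ B ≤ 𝒞[t] ⊓ 𝒩(B) := le_inf (SM.trans inf_le_left) (sup_le nQ le_normalizer)
  refine ⟨nAB, c6, cl_eq (fun x hx => ?_) (by rw [c5, c.c0]), nQ, inv, fix⟩
  · by_contra h
    have x1 : x ≠ 1 := fun e => h (e ▸ one_mem _)
    have h1 : 𝒞[x] ⊓ (Q ⊔ B) ≤ B := (c.Cu x hx.2 h).2 _ S2.to_inf_right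
      (le_inf (inf_le_right.trans (SM.trans inf_le_left)) inf_le_left)
    have h2 := wb_cls (S := Q ⊔ B) (b := x) (Ω := ((Q ⊓ B : Subgroup G) : Set G) \ {1}) fun g hg =>
      ⟨cl_norm (norm_inf (SM.trans b.wb_nQ) (SM2.trans inf_le_right) hg) hx, by simpa using x1⟩
    have h3 := Subgroup.card_le_of_le h1
    rw [Set.ncard_sdiff_singleton_of_mem (one_mem _), ← Nat.card_coe_set_eq] at h2
    erw [c5] at h2
    rw [c.cA] at h3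
    omega

theorem wb_Z32 (b : Blk t s u w A A0 Q) (p' : WPair B Q2 A A0) : Nat.card ↥(Q ⊓ Q2) ≤ 32 := by
  have := cl_lt (inf_le_left (a := Q) (b := Q2)) fun h => b.u0 (p'.b0 ▸ ⟨(h (b.wb_AQ b.uA)).2, b.uA⟩)
  rw [b.cQ] at this
  omega

theorem wb_step2 (b : Blk t s u w A A0 Q) (c : Blk t s' u' w' B B0 Q2) (p : WPair A Q B B0) (p' : WPair B Q2 A A0)
    {k : G} (hk : k ∈ 𝒞[t] ⊓ 𝒩(A)) (nD : k ∉ 𝒩(A ⊓ B)) :
    B0 ⊓ cj k B0 ≤ zpowers t ∧ B0 ⊔ cj k B0 = Q ⊓ Q2 := by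
  have tD : t ∈ A ⊓ B := ⟨b.le0 b.tA0, c.le0 c.tA0⟩
  have e : k * t * k⁻¹ = t := by rw [mem_cent1.1 hk.1]; group
  have h1 : B0 ⊓ cj k B0 ≤ zpowers t := fun x hx => by
    have hy := mem_cj.1 hx.2
    by_cases xA : x ∈ A
    · have h2 := cl_lt (inf_le_left (a := A ⊓ B) (b := cj k (A ⊓ B))) fun h =>
        nD (mem_norm_of_le_cj (h.trans inf_le_right))
      rw [p.cD] at h2
      rw [cl_eq (zpowers_le.2 (show t ∈ (A ⊓ B) ⊓ cj k (A ⊓ B) from ⟨tD, e ▸ conj_mem_cj.2 tD⟩))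
        (by rw [b.wb_ct]; omega)]
      exact ⟨⟨xA, c.le0 hx.1⟩, mem_cj.2 ⟨cl_norm' hk.2 xA, c.le0 hy⟩⟩
    · refine absurd (mem_norm_iff_cj.2 ?_) nD
      have h2 := p.fix _ (c.le0 hy) fun h => xA (by simpa [mul_assoc] using cl_norm hk.2 h)
      conv_lhs => rw [← h2, cj_inf, cj_eq_of_mem_norm hk.2, cj_cent1]
      rw [← p.fix x (c.le0 hx.1) xA]
      congr 3
      group
  have QM : Q ≤ 𝒞[t] ⊓ 𝒩(B) := le_inf (b.wb_QM.trans inf_le_left) p.nQ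
  have n0 : Q ≤ 𝒩(B0) := QM.trans c.n0
  have l0 : B0 ≤ Q := p.b0 ▸ inf_le_left
  have l1 : cj k B0 ≤ Q := cj_le_of_mem_norm l0 (b.wb_nQ hk)
  have n1 : Q ≤ 𝒩(cj k B0) := by
    rw [← cj_normalizer, ← cj_eq_of_mem_norm (b.wb_nQ hk)]
    exact cj_mono k n0
  have l2 : cj k B0 ≤ Q2 := fun x hx => (c.memQ x).2 ⟨QM (l1 hx), fun a ha => h1
    (mem_inf.2 ⟨mul_mem (cl_norm (n0 (l1 hx)) ha) (inv_mem ha), by
      simpa only [mul_assoc] using mul_mem hx (cl_norm (n1 (l0 ha)) (inv_mem hx))⟩)⟩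
  refine ⟨h1, cl_eq (sup_le (le_inf l0 (c.le0.trans c.wb_AQ)) (le_inf l1 l2)) ?_⟩
  have h2 := card_sup_mul_card_inf (H := B0) (K := cj k B0) (Or.inl (l0.trans n1))
  have h3 := Nat.mul_le_mul_left (Nat.card ↥(B0 ⊔ cj k B0)) (b.wb_ct ▸ Subgroup.card_le_of_le h1)
  have h4 := wb_Z32 b p'
  rw [card_cj, c.c0] at h2
  omega

theorem wb_DA (c : Blk t s' u' w' B B0 Q2) (p' : WPair B Q2 A A0) : A ⊓ B ≤ A0 :=
  fun _ hx => p'.b0 ▸ ⟨c.wb_AQ hx.2, hx.1⟩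

theorem wb_sD (b : Blk t s u w A A0 Q) (c : Blk t s' u' w' B B0 Q2) (p : WPair A Q B B0) (p' : WPair B Q2 A A0) :
    s ∉ 𝒩(A ⊓ B) := fun h => by
  have := Subgroup.card_le_of_le (b.wb_inv4 (mem_inf.2 ⟨b.le0 b.tA0, c.le0 c.tA0⟩) p.cD.le h (fun v hv => b.sq v hv.1)
    fun h => b.u0 (wb_DA c p' h))
  rw [p.cD, b.wb_ct] at this
  omega

theorem wb_pick (b : Blk t s u w A A0 Q) (c : Blk t s' u' w' B B0 Q2) (p : WPair A Q B B0) (p' : WPair B Q2 A A0)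
    {F : Subgroup G} (FZ : F ≤ Q ⊓ Q2) (cF : Nat.card F = 8) (sq : ∀ x ∈ F, x * x = 1) (dj : A0 ⊓ F ≤ zpowers t) :
    ∃ f ∈ F, f ∈ B0 ∧ f ∉ zpowers t := by
  have l0 : A0 ≤ Q := b.le0.trans b.wb_AQ
  have h1 := card_sup_mul_card_inf (H := A0) (K := B0)
    (Or.inl (l0.trans ((le_inf (b.wb_QM.trans inf_le_left) p.nQ).trans c.n0)))
  have h2 := Nat.mul_le_mul_left (Nat.card ↥(A0 ⊔ B0)) (p.cD ▸ Subgroup.card_le_of_le (inf_le_inf b.le0 c.le0))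
  have h3 := card_mul_le FZ (show A0 ⊔ B0 ≤ Q ⊓ Q2 from
    sup_le (le_inf l0 (p'.b0 ▸ inf_le_left)) (le_inf (p.b0 ▸ inf_le_left) (c.le0.trans c.wb_AQ)))
  have h4 := Nat.mul_le_mul_right (Nat.card ↥(F ⊓ (A0 ⊔ B0))) (wb_Z32 b p')
  rw [b.c0, c.c0] at h1
  rw [cF] at h3
  obtain ⟨f, hf, ft⟩ : ∃ f ∈ F ⊓ (A0 ⊔ B0), f ∉ zpowers t := by
    by_contra! h
    have := b.wb_ct ▸ Subgroup.card_le_of_le (show F ⊓ (A0 ⊔ B0) ≤ zpowers t from h)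
    omega
  refine ⟨f, hf.1, ?_, ft⟩
  rcases p.inv f (sup_le_sup b.le0 c.le0 hf.2) (sq f hf.1) with h | h
  · exact absurd (dj ⟨p'.b0 ▸ ⟨(FZ hf.1).2, h⟩, hf.1⟩) ft
  · exact p.b0 ▸ ⟨(FZ hf.1).1, h⟩

theorem Blk.wb_tr (b : Blk t s u w A A0 Q) {T : Subgroup G} (hT : IsPGroup 2 T) (sT : s ∈ 𝒩(T)) {x : G} (hx : x ∈ T)
    (h : s * x * s⁻¹ * (s⁻¹ * x * s) * x * (s * x * s⁻¹ * (s⁻¹ * x * s))⁻¹ * x⁻¹ ∈ zpowers t) {y : G}
    (hy : y = x * (s * x * s⁻¹ * (s⁻¹ * x * s))) : y = 1 ∨ y = t ∨ y = u ∨ y = u * t := by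
  obtain ⟨n, hn⟩ := hT ⟨y, hy ▸ mul_mem hx (mul_mem (cl_norm sT hx) (cl_norm' sT hx))⟩
  refine b.Vs y (b.wb_fix3 ?_) n (congrArg Subtype.val hn)
  have e : s * s = s⁻¹ := eq_inv_of_mul_eq_one_left b.wb_s3
  have e1 : s * y * s⁻¹ = s * x * s⁻¹ * (s * s * x * (s * s)⁻¹) * x := by rw [hy]; group
  rw [e1, e, inv_inv, hy]
  convert h using 1; group

theorem wb_main (b : Blk t s u w A A0 Q) (c : Blk t s' u' w' B B0 Q2) (BA : B ≤ 𝒩(A)) : B = A := by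
  by_contra ne
  have p := wb_step1 b c BA ne
  have p' := wb_step1 c b p.nAB (Ne.symm ne)
  obtain ⟨d1, z1⟩ := wb_step2 b c p p' b.sM (wb_sD b c p p')
  obtain ⟨-, z2⟩ := wb_step2 b c p p' (inv_mem b.sM) (by rw [inv_mem_iff]; exact wb_sD b c p p')
  have sZ : s ∈ 𝒩(Q ⊓ Q2) := mem_norm_iff_cj.2 (by
    conv_lhs => rw [← z2, cj_sup, cj_cj_inv, sup_comm, z1])
  obtain ⟨d3, z3⟩ := wb_step2 c b p' p c.sM (wb_sD c b p' p)
  have c' := b.wb_cj c.sM.1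
  have cs := c.wb_cj b.sM.1
  generalize cj s' A0 = F at d3 z3 c'
  generalize cj s' A = A' at c'
  have FZ : F ≤ Q ⊓ Q2 := by rw [inf_comm, ← z3]; exact le_sup_right
  have sqF : ∀ x ∈ F, x * x = 1 := fun x hx => c'.sq x (c'.le0 hx)
  have st : s ∈ 𝒩(zpowers t) := cent_le_norm _ (by rw [cent_zpowers]; exact b.sM.1)
  obtain ⟨f, fF, fB, ft⟩ := wb_pick b c p p' FZ c'.c0 sqF d3
  obtain ⟨f', f'F, f'B, f't⟩ := wb_pick b c p p' (cj_le_of_mem_norm FZ (inv_mem sZ)) (by rw [card_cj, c'.c0])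
    (cl_sq_cj sqF s⁻¹) (by
      rw [← cj_eq_of_mem_norm (inv_mem (b.n0 b.sM)), ← cj_inf]; exact cj_le_of_mem_norm d3 (inv_mem st))
  have g1Z := cl_norm sZ (FZ fF)
  have g2Z := cl_norm' sZ (FZ fF)
  have tF := zpowers_le.2 c'.tA0
  have uQ : u ∉ Q2 := fun h => b.u0 (p'.b0 ▸ ⟨h, b.uA⟩)
  obtain ⟨τ, hτ⟩ : ∃ τ, τ = f * (s * f * s⁻¹ * (s⁻¹ * f * s)) := ⟨_, rfl⟩
  have τQ : τ ∈ Q2 := hτ ▸ mul_mem (FZ fF).2 (mul_mem g1Z.2 g2Z.2)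
  have τt : τ ∈ zpowers t := by
    rcases b.wb_tr b.wb_Q2.to_inf_left sZ (FZ fF) (((c.memQ _).1 (mul_mem g1Z.2 g2Z.2)).2 f fB) hτ with h | h | h | h
    · exact h ▸ one_mem _
    · exact h ▸ mem_zpowers t
    · exact absurd (h ▸ τQ) uQ
    · exact absurd ((mul_mem_cancel_right (mem_inf.1 (FZ c'.tA0)).2).1 (h ▸ τQ)) uQ
  have f2 := sqF f fF
  have i0 := inv_eq_of_mul_eq_one_right f2
  have i1 : (s * f * s⁻¹)⁻¹ = s * f * s⁻¹ := by simp only [mul_inv_rev, inv_inv, i0, mul_assoc]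
  have i2 : (s⁻¹ * f * s)⁻¹ = s⁻¹ * f * s := by simp only [mul_inv_rev, inv_inv, i0, mul_assoc]
  have com : s * f * s⁻¹ * f = f * (s * f * s⁻¹) := by
    have h1 : f * (s * f * s⁻¹) = τ * (s⁻¹ * f * s)⁻¹ := by rw [hτ]; group
    have h2 : s⁻¹ * f * s * τ = τ * (s⁻¹ * f * s) :=
      mem_cent1.1 (cent_le_cent1 τt (by rw [cent_zpowers]; exact (b.wb_QM g2Z.1).1))
    calc _ = (f * (s * f * s⁻¹))⁻¹ := by rw [mul_inv_rev, i0, i1]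
      _ = _ := by rw [h1, mul_inv_rev, inv_inv, inv_eq_of_mul_eq_one_right (sqF τ (tF τt)), h2, i2]
  have four : ∀ {W : Subgroup G} {x y : G}, Nat.card W ≤ 4 → t ∈ W → x ∈ W → y ∈ W → x ∉ zpowers t →
      ∀ K : Subgroup G, t ∈ K → x ∈ K → y ∈ K := fun {W x y} hW tW xW yW xt K tK xK => by
    have x1 : x ≠ 1 := fun e => xt (e ▸ one_mem _)
    rcases four_elts hW tW xW (mul_mem tW xW) yW b.t1 x1
      (fun e => xt (by rw [eq_inv_of_mul_eq_one_right e]; exact inv_mem (mem_zpowers t)))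
      (fun e => xt (e ▸ mem_zpowers t)) (fun e => x1 (by simpa using e)) (fun e => b.t1 (by simpa using e))
      with h | h | h | h <;> rw [h]
    exacts [one_mem _, tK, xK, mul_mem tK xK]
  have f1F : s * f' * s⁻¹ ∈ F := by simpa using mem_cj.1 f'F
  have g1F : s * f * s⁻¹ ∈ F := by
    refine four (cs.wb_fix4 (cl_two c.sq) c.wb_AX (c.le0 fB) fun h => ft (d1 ⟨fB, mem_cj.2 ?_⟩))
      ⟨cs.le0 cs.tA0, mem_cent1_comm.1 (c.wb_AX (c.le0 fB))⟩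
      ⟨conj_mem_cj.2 (c.le0 f'B), mem_cent1.2 (cl_comm c'.ab (c'.le0 f1F) (c'.le0 fF))⟩
      ⟨conj_mem_cj.2 (c.le0 fB), mem_cent1.2 com⟩ (fun h => f't ?_) F c'.tA0 f1F
    · exact p.b0 ▸ ⟨g2Z.1, mem_cj.1 h⟩
    · simpa [mul_assoc] using cl_norm' st h
  have g2F : s⁻¹ * f * s ∈ F := by
    have := tF τt
    rwa [hτ, mul_mem_cancel_left fF, mul_mem_cancel_left g1F] at this
  have sF : s ∈ 𝒩(F) := by
    by_contra h
    have h1 := cl_lt (inf_le_left (a := F) (b := cj s F)) fun h' => h (mem_norm_of_le_cj (h'.trans inf_le_right))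
    rw [c'.c0] at h1
    have h2 := four (W := F ⊓ cj s F) (by omega) ⟨c'.tA0, mem_cj.2 (tF (cl_norm' st (mem_zpowers t)))⟩
      ⟨fF, mem_cj.2 g2F⟩ ⟨g1F, conj_mem_cj.2 fF⟩ ft B0 c.tA0 fB
    exact ft (by simpa [mul_assoc] using cl_norm' st (d1 ⟨h2, conj_mem_cj.2 fB⟩))
  have eA : 𝒞(F) = A' := le_antisymm c'.C0 (c'.ab.trans (cent_anti c'.le0))
  have sA : s ∈ 𝒩(A') := eA ▸ norm_cent le_rfl sF
  obtain ⟨a, aA, aF⟩ : ∃ a ∈ A', a ∉ F := ⟨_, c'.uA, c'.u0⟩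
  have a1 := cl_norm sA aA
  have a2 := cl_norm' sA aA
  obtain ⟨σ, hσ⟩ : ∃ σ, σ = a * (s * a * s⁻¹ * (s⁻¹ * a * s)) := ⟨_, rfl⟩
  have σA : σ ∈ A' := hσ ▸ mul_mem aA (mul_mem a1 a2)
  have σF : σ ∉ F := by
    rw [hσ, mul_mem_cancel_right]
    · exact aF
    · rw [wb_idx2 c'.le0 (by rw [c'.cA, c'.c0]) a1 a2]
      exact iff_of_false (fun h => aF (by simpa [mul_assoc] using cl_norm' sF h))
        fun h => aF (by simpa [mul_assoc] using cl_norm sF h)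
  have uA : u ∈ A' := by
    rcases b.wb_tr (cl_two c'.sq) sA aA (by rw [cl_comm c'.ab (mul_mem a1 a2) aA, mul_inv_cancel_right, mul_inv_cancel]; exact one_mem _) hσ with h | h | h | h
    · exact absurd (h ▸ one_mem _) σF
    · exact absurd (h ▸ c'.tA0) σF
    · exact h ▸ σA
    · exact (mul_mem_cancel_right (c'.le0 c'.tA0)).1 (h ▸ σA)
  have : u ∈ A ⊓ 𝒞[f] := ⟨b.uA, mem_cent1.2 (cl_comm c'.ab uA (c'.le0 fF))⟩
  rw [p.fix f (c.le0 fB) fun h => ft (d3 ⟨p'.b0 ▸ ⟨(FZ fF).2, h⟩, fF⟩)] at this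
  exact b.u0 (wb_DA c p' this)

theorem Blk.m2b (b : Blk t s u w A A0 Q) : ∀ g ∈ 𝒞[t], cj g A ≤ 𝒩(A) → cj g A = A :=
  fun _ hg h => wb_main b (b.wb_cj hg) h

end Cfsg.Agent.C34
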