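import Cfsg.Agent.C34.BlkD
import Cfsg.Agent.C34.Cl

set_option autoImplicit false
set_option linter.unusedSectionVars false

namespace Cfsg.Agent.C34

open Cfsg Cfsg.Agent.H49 Subgroup

universe u

variable {G : Type u} [Group G] [Finite G]

theorem wb_idx2 {F A : Subgroup G} (h : F ≤ A) (hc : Nat.card A = 2 * Nat.card F) {a b : G} (ha : a ∈ A)
    (hb : b ∈ A) : a * b ∈ F ↔ (a ∈ F ↔ b ∈ F) := by
  have h1 := card_mul_relIndex h
  have h2 : F.relIndex A = 2 := by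
    rw [hc, mul_comm 2] at h1
    exact Nat.eq_of_mul_eq_mul_left (card_pos' F) h1
  exact Subgroup.mul_mem_iff_of_index_two (H := F.subgroupOf A) h2 (a := ⟨a, ha⟩) (b := ⟨b, hb⟩)

theorem wb_norm2 {F A : Subgroup G} (h : F ≤ A) (hc : Nat.card A = 2 * Nat.card F) : A ≤ 𝒩(F) :=
  le_norm_iff.2 fun g hg x hx => by
    rw [wb_idx2 h hc (mul_mem hg (h hx)) (inv_mem hg), inv_mem_iff, mul_mem_cancel_right hx]

theorem wb_cls {S : Subgroup G} {b : G} {Ω : Set G} (h : ∀ g ∈ S, g * b * g⁻¹ ∈ Ω) :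
    Nat.card S ≤ Nat.card ↥(𝒞[b] ⊓ S) * Ω.ncard := by
  rw [← card_inf_mul_relIndex 𝒞[b] S]
  refine Nat.mul_le_mul_left _ ?_
  have key : ∀ x y : S, (x : G) * b * (x : G)⁻¹ = y * b * (y : G)⁻¹ ↔ x⁻¹ * y ∈ (𝒞[b]).subgroupOf S := fun x y => by
    rw [mem_subgroupOf, mem_cent1]
    simp only [coe_mul, coe_inv]
    constructor
    · intro e
      calc (x : G)⁻¹ * y * b = (x : G)⁻¹ * (y * b * (y : G)⁻¹) * y := by group
        _ = _ := by rw [← e]; group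
    · intro e
      calc (x : G) * b * (x : G)⁻¹ = x * (b * ((x : G)⁻¹ * y)) * (y : G)⁻¹ := by group
        _ = _ := by rw [← e]; group
  let f : S ⧸ (𝒞[b]).subgroupOf S → Ω := Quotient.lift (fun x : S => (⟨x * b * (x : G)⁻¹, h x x.2⟩ : Ω))
    fun x y e => Subtype.ext ((key x y).2 (QuotientGroup.leftRel_apply.1 e))
  refine Nat.card_le_card_of_injective f fun x y => ?_
  induction x using QuotientGroup.induction_on with | H x => ?_
  induction y using QuotientGroup.induction_on with | H y => ?_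
  intro e
  exact QuotientGroup.eq.2 ((key x y).1 (congrArg Subtype.val e))

theorem wb_zp2 {t x : G} (t2 : t * t = 1) (hx : x ∈ zpowers t) : x = 1 ∨ x = t := by
  obtain ⟨k, rfl⟩ := hx
  have h : t ^ (2 : ℤ) = 1 := by rw [zpow_two, t2]
  rcases Int.even_or_odd' k with ⟨m, rfl | rfl⟩
  · left; simp only [zpow_mul, h, one_zpow]
  · right; simp only [zpow_add, zpow_mul, h, one_zpow, zpow_one, one_mul]

namespace Blk

variable {A A0 Q : Subgroup G} {s t u w : G} (b : Blk t s u w A A0 Q)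
include b

theorem wb_cj {g : G} (hg : g ∈ 𝒞[t]) :
    Blk t (g * s * g⁻¹) (g * u * g⁻¹) (g * w * g⁻¹) (cj g A) (cj g A0) (cj g Q) := by
  have e : g * t * g⁻¹ = t := by rw [mem_cent1.1 hg]; group
  have e' : g⁻¹ * t * g = t := by rw [mul_assoc, ← mem_cent1.1 hg]; group
  have hX : cj g 𝒞[t] = 𝒞[t] := cj_eq_of_mem hg
  have hM : cj g (𝒞[t] ⊓ 𝒩(A)) = 𝒞[t] ⊓ 𝒩(cj g A) := by rw [cj_inf, hX, cj_normalizer]
  have hz : cj g (zpowers t) = zpowers t := by rw [cj_zpowers, e]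
  have c : ∀ {x y : G}, x * (g * y * g⁻¹) = g * y * g⁻¹ * x → g⁻¹ * x * g * y = y * (g⁻¹ * x * g) := fun {x y} h => by
    calc g⁻¹ * x * g * y = g⁻¹ * (x * (g * y * g⁻¹)) * g := by group
      _ = _ := by rw [h]; group
  have d : ∀ {x y : G}, g⁻¹ * x * g = y → x = g * y * g⁻¹ := fun h => by rw [← h]; group
  have m : ∀ x y : G, g * (x * y) * g⁻¹ = g * x * g⁻¹ * (g * y * g⁻¹) := fun x y => by group
  refine ⟨b.t1, b.t2, ?_, hM ▸ conj_mem_cj.2 b.sM, hM ▸ conj_mem_cj.2 b.wM, ?_, ?_, conj_mem_cj.2 b.uA,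
    fun h => b.u0 (conj_mem_cj.1 h), ?_, ?_, fun x h1 h2 => ?_, fun x h1 n hn => ?_, cl_ab_cj b.ab g, cl_sq_cj b.sq g,
    by rw [card_cj, b.cA], e ▸ conj_mem_cj.2 b.tA0, cj_mono g b.le0, by rw [card_cj, b.c0], by rw [← hM, card_cj, b.cM],
    by rw [← hM, ← cj_normalizer]; exact cj_mono g b.n0, fun x => ?_, by rw [card_cj, b.cQ],
    by rw [← cj_centralizer]; exact cj_mono g b.C0, fun a ha h0 => ?_⟩
  · rw [← b.os]; exact MulEquiv.orderOf_eq (MulAut.conj g) s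
  · rw [← m, b.w2]; group
  · calc _ = g * (w * s * w⁻¹) * g⁻¹ := by group
      _ = _ := by rw [b.ws]; group
  · rw [← m, b.us, m]
  · calc _ = g * (w * u * w⁻¹) * g⁻¹ := by group
      _ = _ := by rw [b.wu, m, e]
  · obtain ⟨k, hk, h⟩ := b.Cs (g⁻¹ * x * g) (c (by rw [e, h1])) (c h2)
    refine ⟨g * k * g⁻¹, by rw [← cj_zpowers]; exact conj_mem_cj.2 hk, ?_⟩
    rcases h with h | h | h | h
    · exact Or.inl (d h)
    · exact Or.inr (Or.inl (by rw [d h, m, e]))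
    · exact Or.inr (Or.inr (Or.inl (by rw [d h, m])))
    · exact Or.inr (Or.inr (Or.inr (by rw [d h, m, m, e])))
  · have h2 : (g⁻¹ * x * g) ^ 2 ^ n = 1 := by
      have := conj_pow (a := g⁻¹) (b := x) (i := 2 ^ n)
      rw [inv_inv] at this
      rw [this, hn]; group
    rcases b.Vs _ (c h1) n h2 with h | h | h | h
    · exact Or.inl (by rw [d h]; group)
    · exact Or.inr (Or.inl (by rw [d h, e]))
    · exact Or.inr (Or.inr (Or.inl (d h)))
    · exact Or.inr (Or.inr (Or.inr (by rw [d h, m, e])))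
  · rw [mem_cj, b.memQ, ← hM, mem_cj]
    refine and_congr_right fun _ => ⟨fun h a ha => ?_, fun h a ha => ?_⟩
    · have := conj_mem_cj (g := g).2 (h _ (mem_cj.1 ha))
      rw [hz] at this
      convert this using 1; group
    · have := h _ (conj_mem_cj (g := g).2 ha)
      rw [← hz, mem_cj] at this
      convert this using 1; group
  · obtain ⟨a, ha', rfl⟩ := mem_cj'.1 ha
    obtain ⟨h1, h2⟩ := b.Cu a ha' fun h => h0 (conj_mem_cj.2 h)
    have h3 : cj g (𝒞[t] ⊓ 𝒞[a]) = 𝒞[t] ⊓ 𝒞[g * a * g⁻¹] := by rw [cj_inf, hX, cj_cent1]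
    refine ⟨by rw [← h3, card_cj, h1], fun D hD hle => le_cj_iff.2 (h2 _ (isPGroup_cj.2 hD) ?_)⟩
    rw [← h3] at hle
    exact le_cj_iff.1 hle

theorem wb_QM : Q ≤ 𝒞[t] ⊓ 𝒩(A) := fun x hx => ((b.memQ x).1 hx).1

theorem wb_AX : A ≤ 𝒞[t] := b.ab.trans (cent_le_cent1 (b.le0 b.tA0))

theorem wb_AQ : A ≤ Q := fun a ha => (b.memQ a).2 ⟨⟨b.wb_AX ha, le_normalizer ha⟩, fun c hc => by
  rw [cl_comm b.ab ha (b.le0 hc)]; simp⟩

theorem wb_nQ : 𝒞[t] ⊓ 𝒩(A) ≤ 𝒩(Q) := le_norm_iff.2 fun m hm x hx => by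
  refine (b.memQ _).2 ⟨mul_mem (mul_mem hm (b.wb_QM hx)) (inv_mem hm), fun a ha => ?_⟩
  have h1 := ((b.memQ x).1 hx).2 _ (cl_norm' (b.n0 hm) ha)
  have h2 : m ∈ 𝒩(zpowers t) := cent_le_norm _ (by rw [cent_zpowers]; exact hm.1)
  convert cl_norm h2 h1 using 1; group

theorem wb_Q2 : IsPGroup 2 Q := IsPGroup.of_card (n := 6) (by rw [b.cQ]; norm_num)

theorem wb_ct : Nat.card (zpowers t) = 2 := by
  have := Fact.mk pr2
  rw [Nat.card_zpowers, orderOf_eq_prime (by rw [pow_two, b.t2]) b.t1]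

theorem wb_fix0 {T : Subgroup G} (hT : IsPGroup 2 T) (TX : T ≤ 𝒞[t]) {x : G} (hx : x ∈ T) (xA : x ∉ A) :
    A ⊓ 𝒞[x] ≤ A0 := fun a ha => by
  by_contra h
  have h1 : zpowers x ≤ T := zpowers_le.2 hx
  exact xA ((b.Cu a ha.1 h).2 _ (hT.to_le h1) (le_inf (h1.trans TX) (zpowers_le.2 (mem_cent1_comm.1 ha.2)))
    (mem_zpowers x))

theorem wb_fix4 {T : Subgroup G} (hT : IsPGroup 2 T) (TX : T ≤ 𝒞[t]) {x : G} (hx : x ∈ T) (xA : x ∉ A) :
    Nat.card ↥(A ⊓ 𝒞[x]) ≤ 4 := by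
  have := cl_lt (b.wb_fix0 hT TX hx xA) fun h => xA (b.C0 (le_cent1_iff.1 (h.trans inf_le_right)))
  rw [b.c0] at this
  omega

theorem wb_s3 : s * s * s = 1 := by
  have := pow_orderOf_eq_one s
  rwa [b.os, pow_three'] at this

/-- an element fixed by `s` modulo `t` is fixed by `s` -/
theorem wb_fix3 {x : G} (h : s * x * s⁻¹ * x⁻¹ ∈ zpowers t) : x * s = s * x := by
  have e : s * t * s⁻¹ = t := by rw [mem_cent1.1 b.sM.1]; group
  rcases wb_zp2 b.t2 h with h | h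
  · rw [mul_inv_eq_one, mul_inv_eq_iff_eq_mul] at h
    exact h.symm
  · exfalso
    have h1 : s * x * s⁻¹ = t * x := by rw [← h]; group
    have h2 : s * (s * x * s⁻¹) * s⁻¹ = x := by
      calc _ = s * (t * x) * s⁻¹ := by rw [h1]
        _ = s * t * s⁻¹ * (s * x * s⁻¹) := by group
        _ = x := by rw [e, h1, ← mul_assoc, b.t2, one_mul]
    have h3 : s * (s * (s * x * s⁻¹) * s⁻¹) * s⁻¹ = x := by
      calc _ = s * s * s * x * (s * s * s)⁻¹ := by group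
        _ = x := by rw [b.wb_s3]; group
    rw [h2, h1] at h3
    exact b.t1 (mul_eq_right.1 h3)

/-- an `s`-invariant four-group through `t` contains `u` -/
theorem wb_inv4 {W : Subgroup G} (tW : t ∈ W) (hc : Nat.card W ≤ 4) (sW : s ∈ 𝒩(W)) (sq : ∀ v ∈ W, v * v = 1)
    (uW : u ∉ W) : W ≤ zpowers t := fun v hv => by
  by_contra h
  have v1 : v ≠ 1 := fun e => h (e ▸ one_mem _)
  have vt : v ≠ t := fun e => h (e ▸ mem_zpowers t)
  have e : s * t * s⁻¹ = t := by rw [mem_cent1.1 b.sM.1]; group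
  have h1 : s * v * s⁻¹ * v⁻¹ ∈ zpowers t := by
    rcases four_elts hc tW hv (mul_mem tW hv) (cl_norm sW hv) b.t1 v1
      (fun e => vt (by rw [eq_inv_of_mul_eq_one_right e, inv_eq_of_mul_eq_one_right b.t2])) vt.symm
      (fun e => v1 (by simpa using e)) (fun e => b.t1 (by simpa using e)) with h1 | h1 | h1 | h1
    · exact absurd (by simpa using h1) v1
    · exact absurd (by simpa using h1.trans e.symm) vt
    · rw [h1]; simp
    · rw [h1]; simp
  rcases b.Vs v (b.wb_fix3 h1) 1 (by rw [pow_one, pow_two, sq v hv]) with h2 | h2 | h2 | h2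
  · exact v1 h2
  · exact vt h2
  · exact uW (h2 ▸ hv)
  · exact uW ((mul_mem_cancel_right tW).1 (h2 ▸ hv))

theorem wb_ZQ : A ⊓ 𝒞(Q) ≤ zpowers t := by
  obtain ⟨q, hq, qA⟩ : ∃ q ∈ Q, q ∉ A := by
    by_contra! h
    have := Subgroup.card_le_of_le (show Q ≤ A from h)
    rw [b.cA, b.cQ] at this
    omega
  have h1 : A ⊓ 𝒞(Q) ≤ A ⊓ 𝒞[q] := inf_le_inf_left _ (cent_le_cent1 hq)
  have h2 := b.wb_QM.trans inf_le_left
  refine b.wb_inv4 ⟨b.le0 b.tA0, le_cent1_iff.1 h2⟩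
    ((Subgroup.card_le_of_le h1).trans (b.wb_fix4 b.wb_Q2 h2 hq qA)) ?_ (fun v hv => b.sq v hv.1)
    fun h => b.u0 (b.wb_fix0 b.wb_Q2 h2 hq qA (h1 h))
  exact norm_inf inf_le_right (norm_cent b.wb_nQ) b.sM

/-- 2-subgroups of `M` have order at most 128 -/
theorem wb_128 {T : Subgroup G} (hT : IsPGroup 2 T) (TM : T ≤ 𝒞[t] ⊓ 𝒩(A)) : Nat.card T ≤ 128 := by
  have := Fact.mk pr2
  obtain ⟨n, hn⟩ := IsPGroup.iff_card.1 hT
  have h1 := card_dvd_of_le TM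
  rw [b.cM, hn, show 384 = 128 * 3 from rfl] at h1
  rw [hn]
  exact Nat.le_of_dvd (by norm_num) (Nat.Coprime.dvd_of_dvd_mul_right (Nat.Coprime.pow_left _ (by decide)) h1)

end Blk

end Cfsg.Agent.C34
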