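import Cfsg.Agent.C34.BlkD
import Cfsg.Agent.C34.Cl
import Cfsg.Agent.H3.FrobQuo
import Cfsg.Agent.S0111
import Cfsg.Agent.S0243
import Cfsg.Agent.S3331

set_option autoImplicit false

namespace Cfsg.Agent.C34

open Cfsg Cfsg.Agent.H49 Subgroup

universe u

variable {G : Type u} [Group G] [Finite G] {P A A0 Q : Subgroup G} {y s r t u w : G}

omit [Finite G] in
theorem zp2_33 (h : t * t = 1) {x : G} (hx : x ∈ zpowers t) : x = 1 ∨ x = t := by
  obtain ⟨n, rfl⟩ := mem_zpowers_iff.1 hx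
  obtain ⟨k, rfl | rfl⟩ := Int.even_or_odd' n
  · left; simp [zpow_mul, zpow_ofNat, sq, h]
  · right; simp [zpow_add, zpow_mul, zpow_ofNat, sq, h]

theorem idx2_33 {D E : Subgroup G} (h : D ≤ E) (hc : Nat.card E = 2 * Nat.card D) {a b : G} (ha : a ∈ E)
    (hb : b ∈ E) (a0 : a ∉ D) (b0 : b ∉ D) : a * b ∈ D := by
  have h1 : (D.subgroupOf E).index = 2 := Nat.eq_of_mul_eq_mul_left (card_pos' D)
    ((card_mul_relIndex h).trans (hc.trans (mul_comm _ _)))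
  exact (mul_mem_iff_of_index_two h1 (a := ⟨a, ha⟩) (b := ⟨b, hb⟩)).2 (iff_of_false a0 b0)

theorem s3_33 : ∀ a c : Equiv.Perm (Fin 3), a * a = 1 → a * (c * a * c⁻¹) * (c⁻¹ * a * c) = 1 → a = 1 := by
  decide +kernel

namespace Blk

variable (b : Blk t s u w A A0 Q)
include b

omit [Finite G] in
theorem AX : A ≤ 𝒞[t] := le_cent1_iff.2 (b.ab (b.le0 b.tA0))

omit [Finite G] in
theorem QM : Q ≤ 𝒞[t] ⊓ 𝒩(A) := fun x hx => ((b.memQ x).1 hx).1

omit [Finite G] in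
theorem AQ : A ≤ Q := fun a ha => (b.memQ a).2 ⟨mem_inf.2 ⟨b.AX ha, le_normalizer ha⟩, fun c hc => by
  rw [cl_comm b.ab ha (b.le0 hc)]; simp⟩

omit [Finite G] in
theorem nZ : 𝒞[t] ≤ 𝒩(zpowers t) := norm_of_cent (cent_zpowers t).ge

omit [Finite G] in
theorem nQ : 𝒞[t] ⊓ 𝒩(A) ≤ 𝒩(Q) := le_norm_iff.2 fun m hm q hq => (b.memQ _).2
  ⟨mul_mem (mul_mem hm (b.QM hq)) (inv_mem hm), fun a ha => by
    have := conj_mem_of_norm b.nZ (mem_inf.1 hm).1 (((b.memQ q).1 hq).2 _ (conj_mem_of_norm' b.n0 hm ha))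
    convert this using 1; group⟩

theorem Q2 : IsPGroup 2 Q := IsPGroup.of_card (n := 6) b.cQ

omit [Finite G] in
theorem s3 : s ^ 3 = 1 := b.os ▸ pow_orderOf_eq_one s

omit [Finite G] in
theorem sss : s⁻¹ * s⁻¹ = s := by
  rw [← mul_one (s⁻¹ * s⁻¹), ← b.s3]; group

omit [Finite G] in
theorem wQ : w ∉ Q := fun hw => by
  have h1 := mul_mem hw (conj_mem_of_norm b.nQ b.sM (inv_mem hw))
  rw [← mul_assoc, ← mul_assoc, b.ws, b.sss] at h1
  have := Q.orderOf_dvd_natCard h1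
  rw [b.os, b.cQ] at this
  exact absurd this (by decide)

omit [Finite G] in
theorem S0M : Q ⊔ zpowers w ≤ 𝒞[t] ⊓ 𝒩(A) := sup_le b.QM (zpowers_le.2 b.wM)

theorem cS : Nat.card ↥(Q ⊔ zpowers w) = 128 := by
  rw [cl_card_sup (b.nQ b.wM) (b.w2 ▸ one_mem Q) b.wQ, b.cQ]

theorem sylX (wc : ∀ g ∈ 𝒞[t], cj g A ≤ 𝒩(A) → cj g A = A) : IsSylowOf 2 (Q ⊔ zpowers w) 𝒞[t] := by
  refine sylowOf_of_norm_le (H := 𝒞[t] ⊓ 𝒩(A)) ((sylowOf_iff pr2).2 ⟨b.S0M, IsPGroup.of_card (n := 7) b.cS, ?_⟩)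
    (b.S0M.trans inf_le_left) fun g hg => mem_inf.2 ⟨hg.1, mem_norm_iff_cj.2 (wc g hg.1
      ((cj_le_of_mem_norm (b.AQ.trans le_sup_left) hg.2).trans (b.S0M.trans inf_le_right)))⟩
  have := card_mul_relIndex b.S0M
  rw [b.cS, b.cM] at this
  omega

theorem fuse (wc : ∀ g ∈ 𝒞[t], cj g A ≤ 𝒩(A) → cj g A = A) {g : G} (hg : g ∈ 𝒞[t])
    (hu : g * u * g⁻¹ ∈ 𝒩(A)) : g * u * g⁻¹ ∈ A ∧ g * u * g⁻¹ ∉ A0 := by
  have uB : g * u * g⁻¹ ∈ cj g A := conj_mem_cj.2 b.uA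
  have key : ∀ D : Subgroup G, IsPGroup 2 D → D ≤ 𝒞[t] → D ≤ 𝒞[g * u * g⁻¹] → D ≤ cj g A := fun D h1 h2 h3 =>
    le_cj_iff.2 ((b.Cu u b.uA b.u0).2 _ (isPGroup_cj.2 h1)
      (le_inf (cj_le_of_mem h2 (inv_mem hg)) (le_cj_iff.1 (cj_cent1 g u ▸ h3))))
  have r2 := cl_sq_cj b.sq g _ uB
  have abB := cl_ab_cj b.ab g
  generalize g * u * g⁻¹ = v at *
  have A2 := cl_two b.sq
  constructor
  · by_contra hv
    obtain ⟨m, hm, T, T2, TX, h1, h2, h3, -⟩ := trick A2 (isPGroup_cj.2 A2) b.AX (cj_le_of_mem b.AX hg) b.ab rfl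
      (fun a ha => comm_fix b.ab b.sq hu (r2 ▸ one_mem _) ha) hv
      (norm_of_cent (abB.trans (cent_anti (key _ (A2.to_inf_left) (inf_le_left.trans b.AX) inf_le_right))))
      (le_cent1_iff.2 (abB uB))
    have h4 := wc_two wc (isPGroup_cj.2 T2) (cj_le_of_mem TX (inv_mem hm)) (cj_le_iff.1 h2)
    have h5 := (cj_mono m⁻¹ h1).trans h4
    rw [cj_cj] at h5
    have h6 := wc _ (mul_mem (inv_mem hm) hg) h5
    rw [← cj_cj, cj_eq_iff, inv_inv] at h6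
    exact h3 (h6 ▸ uB)
  · intro hv
    have h1 := card_le_of_le (key (Q ⊓ 𝒞[v]) b.Q2.to_inf_left (inf_le_left.trans (b.QM.trans inf_le_left))
      inf_le_right)
    have h0 : ∀ q ∈ Q, q ∉ 𝒞[v] → q * v * q⁻¹ = t * v := fun q hq hn =>
      mul_inv_eq_iff_eq_mul.1 ((zp2_33 b.t2 (((b.memQ q).1 hq).2 v hv)).resolve_left fun e => hn
        (mem_cent1.2 (by rwa [mul_inv_eq_one, mul_inv_eq_iff_eq_mul] at e)))
    have h2 := cl_card_two (E := Q) (A := 𝒞[v]) fun p hp q hq hp' hq' => mem_cent1.2 (by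
      rw [← mul_inv_eq_iff_eq_mul]
      calc _ = p * (q * v * q⁻¹) * p⁻¹ := by group
        _ = p * t * p⁻¹ * (p * v * p⁻¹) := by rw [h0 q hq hq']; group
        _ = _ := by rw [mem_cent1.1 (b.QM hp).1, h0 p hp hp', mul_inv_cancel_right, ← mul_assoc, b.t2, one_mul])
    rw [card_cj, b.cA] at h1
    rw [b.cQ] at h2
    omega

omit [Finite G] in
theorem sq_cent {x : G} (hx : x ∈ 𝒞[t]) (h : ∀ a ∈ A0, x * a * x⁻¹ * a⁻¹ ∈ zpowers t) : x * x ∈ A :=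
  b.C0 fun a ha => by
    rcases zp2_33 b.t2 (h a ha) with e | e
    · rw [mul_inv_eq_one, mul_inv_eq_iff_eq_mul] at e
      rw [← mul_assoc, ← e, mul_assoc, ← e, mul_assoc]
    · rw [mul_inv_eq_iff_eq_mul, mul_inv_eq_iff_eq_mul] at e
      calc a * (x * x) = t * t * a * x * x := by rw [b.t2]; group
        _ = t * (t * a * x) * x := by group
        _ = t * x * a * x := by rw [← e]; group
        _ = x * (t * a * x) := by rw [← mem_cent1.1 hx]; group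
        _ = _ := by rw [← e]; group

theorem sqQ {q : G} (hq : q ∈ Q) : q * q ∈ A0 := by
  by_cases hA : q ∈ A
  · rw [b.sq q hA]; exact one_mem _
  by_contra hn
  exact hA ((b.Cu _ (b.sq_cent (b.QM hq).1 ((b.memQ q).1 hq).2) hn).2 _ (b.Q2.to_le (zpowers_le.2 hq))
    (zpowers_le.2 (mem_inf.2 ⟨(b.QM hq).1, mem_cent1.2 (mul_assoc q q q).symm⟩)) (mem_zpowers q))

omit [Finite G] in
theorem norm3 {a : G} (ha : a ∈ A0) :
    a * (s * a * s⁻¹) * (s⁻¹ * a * s) = 1 ∨ a * (s * a * s⁻¹) * (s⁻¹ * a * s) = t := by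
  have h1 := conj_mem_of_norm b.n0 b.sM ha
  have h2 := conj_mem_of_norm' b.n0 b.sM ha
  have h3 := mul_mem (mul_mem ha h1) h2
  have h4 : a * (s * a * s⁻¹) * (s⁻¹ * a * s) * s = s * (a * (s * a * s⁻¹) * (s⁻¹ * a * s)) := by
    have e : s * s = s⁻¹ := by rw [← inv_inj, mul_inv_rev, b.sss, inv_inv]
    calc _ = s * ((s⁻¹ * a * s) * (a * (s⁻¹ * s⁻¹ * a * (s * s)))) := by group
      _ = _ := by rw [b.sss, e, cl_comm b.ab (b.le0 h2) (b.le0 (mul_mem ha h1))]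
  rcases b.Vs _ h4 1 ((pow_two _).trans (b.sq _ (b.le0 h3))) with e | e | e | e
  exacts [Or.inl e, Or.inr e, absurd (e ▸ h3) b.u0, absurd ((mul_mem_cancel_right b.tA0).1 (e ▸ h3)) b.u0]

theorem exists_R : ∃ R : Subgroup G, R ≤ Q ⊔ zpowers w ∧ Nat.card R = 64 ∧ ∀ x ∈ R, x ∈ A → x ∈ A0 := by
  have := Fact.mk pr3
  have Q0 : Q ≤ 𝒩(A0) := b.QM.trans b.n0
  have s0 : zpowers s ≤ 𝒩(A0) := zpowers_le.2 (b.n0 b.sM)
  have sQ : zpowers s ≤ 𝒩(Q) := zpowers_le.2 (b.nQ b.sM)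
  have A0Q := b.le0.trans b.AQ
  have cs : Nat.card (zpowers s) = 3 := (Nat.card_zpowers s).trans b.os
  have cop : (Nat.card (zpowers s)).Coprime (Nat.card Q) := by rw [cs, b.cQ]; decide
  have der : ⁅Q, Q⁆ ≤ A0 := commutator_le.2 fun p hp q hq => by
    have := mul_mem (mul_mem (b.sqQ hp) (b.sqQ (mul_mem (inv_mem hp) hq))) (inv_mem (b.sqQ hq))
    rw [commutatorElement_def]
    convert this using 1; group
  have le1 : ⁅Q, zpowers s⁆ ⊔ A0 ≤ Q := sup_le (commutator_le_left_of_norm sQ) A0Q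
  have hu : u ∉ ⁅Q, zpowers s⁆ ⊔ A0 := fun hu => by
    have dp := coprime_abelian_dp ((quo_abelian_iff Q0).2 der) (quo_norm A0 sQ)
      ((cop.coprime_dvd_left (card_quo_dvd _ A0)).coprime_dvd_right (card_quo_dvd _ A0))
    have h1 : coset A0 ⟨u, Q0 (b.AQ b.uA)⟩ ∈ quo Q A0 ⊓ 𝒞(quo (zpowers s) A0) :=
      quo_inf_cent_le Q _ A0 (coset_mem_quo (mem_inf.2 ⟨b.AQ b.uA, cent_zpowers s ▸ mem_cent1.2 b.us⟩))
    have h2 : coset A0 ⟨u, Q0 (b.AQ b.uA)⟩ ∈ ⁅quo Q A0, quo (zpowers s) A0⁆ := by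
      rw [← quo_commutator Q0 s0, ← quo_sup_ker ((commutator_le_left_of_norm sQ).trans Q0)]
      exact coset_mem_quo hu
    exact b.u0 (coset_eq_one_iff.1 (mem_bot.1 (dp.2.1 ▸ mem_inf.2 ⟨h1, h2⟩)))
  have nw : w ∈ 𝒩(⁅Q, zpowers s⁆ ⊔ A0) := zpowers_le.1 (norm_sup (norm_commutator (zpowers_le.2 (b.nQ b.wM))
    (zpowers_le.2 (mem_norm_iff_cj.2 (by rw [cj_zpowers, b.ws, zpowers_inv])))) (zpowers_le.2 (b.n0 b.wM)))
  have gen : ⁅Q, zpowers s⁆ ⊔ A0 ⊔ zpowers u = Q := le_antisymm (sup_le le1 (zpowers_le.2 (b.AQ b.uA))) (by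
    refine (coprime_comm_sup_cent sQ cop (Or.inl (solvable_of_abelian inferInstance))).ge.trans
      (sup_le (le_sup_left.trans le_sup_left) fun x hx => ?_)
    obtain ⟨n, hn⟩ := b.Q2 ⟨x, hx.1⟩
    have ht : t ∈ ⁅Q, zpowers s⁆ ⊔ A0 ⊔ zpowers u := mem_sup_left (mem_sup_right b.tA0)
    have hu : u ∈ ⁅Q, zpowers s⁆ ⊔ A0 ⊔ zpowers u := mem_sup_right (mem_zpowers u)
    rcases b.Vs x (mem_cent1.1 (cent_zpowers s ▸ (mem_inf.1 hx).2)) n (congrArg Subtype.val hn) with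
      e | e | e | e <;> rw [e]
    exacts [one_mem _, ht, hu, mul_mem hu ht])
  have nQ0 : Q ≤ 𝒩(⁅Q, zpowers s⁆ ⊔ A0) := norm_of_der_le (der.trans le_sup_right) le1
  have A0le : A0 ≤ ⁅Q, zpowers s⁆ ⊔ A0 := le_sup_right
  generalize ⁅Q, zpowers s⁆ ⊔ A0 = K at *
  have c1 := cl_card_sup (nQ0 (b.AQ b.uA)) (b.sq u b.uA ▸ one_mem K) hu
  rw [gen, b.cQ] at c1
  refine ⟨K ⊔ zpowers w, sup_le_sup_right le1 _, ?_, fun x hx xA => by_contra fun x0 => ?_⟩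
  · rw [cl_card_sup nw (b.w2 ▸ one_mem K) fun h => b.wQ (le1 h), c1]
  rcases cl_mem_sup nw (b.w2 ▸ one_mem K) hx with h | h
  · exact hu ((mul_mem_cancel_left h).1 (A0le (idx2_33 b.le0 (by rw [b.cA, b.c0]) xA b.uA x0 b.u0)))
  · exact b.wQ ((mul_mem_cancel_left (b.AQ xA)).1 (le1 h))

theorem exists_X0 (wc : ∀ g ∈ 𝒞[t], cj g A ≤ 𝒩(A) → cj g A = A) :
    ∃ Y : Subgroup G, Y ≤ 𝒞[t] ∧ Nat.card 𝒞[t] = 2 * Nat.card Y ∧ u ∉ Y ∧ s ∈ Y ∧ A0 ≤ Y := by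
  have := Fact.mk pr2
  obtain ⟨R, RS, cR, hR⟩ := b.exists_R
  obtain ⟨S, hS⟩ := exists_sylow_of pr2 (b.sylX wc)
  have SX := b.S0M.trans inf_le_left
  have eS : (S : Subgroup 𝒞[t]) = (Q ⊔ zpowers w).subgroupOf 𝒞[t] := by
    rw [← hS, subgroupOf, comap_map_eq_self_of_injective (subtype_injective _)]
  have uX := b.AX b.uA
  have u1 : u ≠ 1 := fun e => b.u0 (e ▸ one_mem _)
  rcases S0111.result S (R.subgroupOf 𝒞[t]) (eS ▸ comap_mono RS) (by
      rw [eS, relIndex_subgroupOf SX]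
      have := card_mul_relIndex RS
      rw [cR, b.cS] at this
      omega) ⟨u, uX⟩
    (orderOf_eq_prime (Subtype.ext ((pow_two u).trans (b.sq u b.uA))) fun e => u1 (congrArg Subtype.val e))
    (eS ▸ mem_subgroupOf.2 (mem_sup_left (b.AQ b.uA))) (fun h => b.u0 (hR u h b.uA)) with
    ⟨M, hM, h2, hu⟩ | ⟨g, hg⟩
  · have mm : ∀ {x : G} (hx : x ∈ 𝒞[t]), x ∈ M.map (𝒞[t]).subtype ↔ (⟨x, hx⟩ : 𝒞[t]) ∈ M := fun hx =>
      mem_map_iff_mem (subtype_injective _) (x := ⟨_, hx⟩)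
    have mul : ∀ {x x' : G}, x ∈ 𝒞[t] → x' ∈ 𝒞[t] → (x * x' ∈ M.map (𝒞[t]).subtype ↔
        (x ∈ M.map (𝒞[t]).subtype ↔ x' ∈ M.map (𝒞[t]).subtype)) := fun hx hx' => by
      rw [mm hx, mm hx', mm (mul_mem hx hx')]
      exact mul_mem_iff_of_index_two h2 (a := ⟨_, hx⟩) (b := ⟨_, hx'⟩)
    have nM := norm_map_subtype M
    have cM : Nat.card 𝒞[t] = 2 * Nat.card (M.map (𝒞[t]).subtype) := by
      rw [card_map_of_injective (subtype_injective _), ← h2, mul_comm, card_mul_index]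
    have hu' := (mm uX).not.2 hu
    have MX := map_subtype_le M
    generalize M.map (𝒞[t]).subtype = Y at *
    have cj' : ∀ {g x : G}, g ∈ 𝒞[t] → (x ∈ Y ↔ g * x * g⁻¹ ∈ Y) := fun hg => mem_normalizer_iff.1 (nM hg) _
    have ht : t ∈ Y := by
      have := (mul uX (self_mem_cent1 t)).not.1 (b.wu ▸ (cj' b.wM.1).not.1 hu')
      tauto
    have sX := b.sM.1
    refine ⟨Y, MX, cM, hu', b.sss ▸ (mul (inv_mem sX) (inv_mem sX)).2 Iff.rfl, fun a ha => ?_⟩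
    have aX := b.AX (b.le0 ha)
    have h1 := conj_mem_of_norm b.n0 b.sM ha
    have h3 := conj_mem_of_norm' b.n0 b.sM ha
    have h4 : s * a * s⁻¹ * (s⁻¹ * a * s) ∈ Y := (mul (b.AX (b.le0 h1)) (b.AX (b.le0 h3))).2
      ((cj' sX).symm.trans (by simpa using cj' (x := a) (inv_mem sX)))
    refine (mul_mem_cancel_right h4).1 ?_
    rcases b.norm3 ha with e | e <;> rw [← mul_assoc, e]
    exacts [one_mem _, ht]
  · have := b.fuse wc g.2 ((b.S0M.trans inf_le_right) (RS hg))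
    exact absurd (hR _ hg this.1) this.2

end Blk

theorem Blk.m2c (b : Blk t s u w A A0 Q) (wc : ∀ g ∈ 𝒞[t], cj g A ≤ 𝒩(A) → cj g A = A) : 𝒞[t] ≤ 𝒩(A) := by
  have := Fact.mk pr3
  obtain ⟨Y, YX, cY, uY, sY, AY⟩ := b.exists_X0 wc
  have syl := b.sylX wc
  have c1 := card_mul_relIndex syl.le
  have c2 := ((sylowOf_iff pr2).1 syl).2.2
  rw [b.cS] at c1
  generalize (Q ⊔ zpowers w).relIndex 𝒞[t] = m at c1 c2
  suffices h : m ≤ 3 from (cl_eq (inf_le_left : 𝒞[t] ⊓ 𝒩(A) ≤ 𝒞[t]) (by rw [b.cM]; omega)).ge.trans inf_le_right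
  have := normal_subgroupOf (YX.trans b.nZ)
  have tY := AY b.tA0
  let π : Y →* Y ⧸ (zpowers t).subgroupOf Y := QuotientGroup.mk' _
  have ker : ∀ x : Y, π x = 1 ↔ (x : G) ∈ zpowers t := fun x => QuotientGroup.eq_one_iff x
  have sur : Function.Surjective π := QuotientGroup.mk'_surjective _
  have cH : Nat.card Y = Nat.card (Y ⧸ (zpowers t).subgroupOf Y) * 2 := by
    have := Fact.mk pr2
    rw [card_eq_card_quotient_mul_card_subgroup ((zpowers t).subgroupOf Y), card_subgroupOf_of_le (zpowers_le.2 tY),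
      Nat.card_zpowers, orderOf_eq_prime ((pow_two t).trans b.t2) b.t1]
  have tt : t ^ 3 = t := by rw [pow_succ, pow_two, b.t2, one_mul]
  have o3 : orderOf (π ⟨s, sY⟩) = 3 := orderOf_eq_prime (by rw [← map_pow]; exact (ker _).2 (b.s3 ▸ one_mem _ : s ^ 3 ∈ _))
    fun e => by
      rcases zp2_33 b.t2 ((ker _).1 e) with h | h
      · exact absurd (b.os.symm.trans ((congrArg orderOf h).trans orderOf_one)) (by decide)
      · exact b.t1 (tt.symm.trans ((show s = t from h) ▸ b.s3))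
  have c3 := (Nat.card_zpowers _).trans o3
  have hC : 𝒞(zpowers (π ⟨s, sY⟩)) = zpowers (π ⟨s, sY⟩) := by
    refine le_antisymm (fun x hx => ?_) (abelian_iff.1 inferInstance)
    obtain ⟨x, rfl⟩ := sur x
    have h1 : (x : G) * s * (x : G)⁻¹ * s⁻¹ ∈ zpowers t := (ker (x * ⟨s, sY⟩ * x⁻¹ * ⟨s, sY⟩⁻¹)).1 (by
      simp only [map_mul, map_inv]
      rw [← hx _ (mem_zpowers _)]; group)
    have h2 : (x : G) * s = s * x := by
      rcases zp2_33 b.t2 h1 with h | h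
      · rwa [mul_inv_eq_one, mul_inv_eq_iff_eq_mul] at h
      · have h3 : ((x : G) * s * (x : G)⁻¹) ^ 3 = 1 := by rw [conj_pow, b.s3]; group
        rw [mul_inv_eq_iff_eq_mul.1 h, (show Commute t s from (mem_cent1.1 b.sM.1).symm).mul_pow, b.s3, tt,
          mul_one] at h3
        exact absurd h3 b.t1
    obtain ⟨k, hk, h3⟩ := b.Cs x (mem_cent1.1 (YX x.2)) h2
    have kY := zpowers_le.2 sY hk
    have h4 : π ⟨k, kY⟩ ∈ zpowers (π ⟨s, sY⟩) := by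
      obtain ⟨n, rfl⟩ := mem_zpowers_iff.1 hk
      exact mem_zpowers_iff.2 ⟨n, (map_zpow π _ n).symm⟩
    rcases h3 with e | e | e | e
    · rwa [show x = ⟨k, kY⟩ from Subtype.ext e]
    · rwa [show x = ⟨k, kY⟩ * ⟨t, tY⟩ from Subtype.ext e, map_mul, (ker ⟨t, tY⟩).2 (mem_zpowers t), mul_one]
    · exact absurd ((mul_mem_cancel_left kY).1 (e ▸ x.2)) uY
    · exact absurd ((mul_mem_cancel_right tY).1 ((mul_mem_cancel_left kY).1 (e ▸ x.2))) uY
  rcases S3331.result _ c3 hC with ⟨N, hN, nil, -, h⟩ | ⟨N, hN, -, sq, ⟨e⟩⟩ | ⟨⟨e⟩⟩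
  · have h0 : ∀ a (ha : a ∈ A0), π ⟨a, AY ha⟩ ∈ N := fun a ha => by
      rw [← QuotientGroup.eq_one_iff]
      let ρ := (QuotientGroup.mk' N).comp π
      have h1 : ρ ⟨a, AY ha⟩ * ρ ⟨a, AY ha⟩ = 1 := by
        rw [← map_mul, ← map_one ρ]; exact congrArg ρ (Subtype.ext (b.sq a (b.le0 ha)))
      have h2 : ρ ⟨a, AY ha⟩ * (ρ ⟨s, sY⟩ * ρ ⟨a, AY ha⟩ * (ρ ⟨s, sY⟩)⁻¹) *
          ((ρ ⟨s, sY⟩)⁻¹ * ρ ⟨a, AY ha⟩ * ρ ⟨s, sY⟩) = 1 := by
        simp only [← map_inv, ← map_mul]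
        refine (congrArg (QuotientGroup.mk' N) ((ker _).2 ?_)).trans (map_one _)
        change a * (s * a * s⁻¹) * (s⁻¹ * a * s) ∈ zpowers t
        rcases b.norm3 ha with e | e <;> rw [e]
        exacts [one_mem _, mem_zpowers t]
      change ρ ⟨a, AY ha⟩ = 1
      rcases h with h | ⟨⟨e⟩⟩
      · have h3 := pow_card_eq_one' (x := ρ ⟨a, AY ha⟩)
        rwa [h, pow_succ, pow_two, h1, one_mul] at h3
      · exact e.map_eq_one_iff.1 (s3_33 _ (e (ρ ⟨s, sY⟩)) (by rw [← map_mul, h1, map_one])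
          (by simpa only [map_mul, map_inv, map_one] using congrArg e h2))
    have h1 : IsPi {2} N := fun p hp hd => by_contra fun p2 => by
      obtain ⟨x, hx, ho⟩ := exists_orderOf_eq_of_dvd_card hp hd
      obtain ⟨x, rfl⟩ := sur x
      have h2 := b.sq _ (b.sq_cent (YX x.2) fun a ha => (ker (x * ⟨a, AY ha⟩ * x⁻¹ * ⟨a, AY ha⟩⁻¹)).1 (by
        have h3 := nilpotent_cent_of_coprime nil (zpowers_le.2 (h0 a ha)) (zpowers_le.2 hx) (by
          rw [Nat.card_zpowers, Nat.card_zpowers, ho]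
          refine Nat.Coprime.coprime_dvd_left (orderOf_dvd_of_pow_eq_one (n := 2) ?_)
            ((Nat.coprime_primes pr2 hp).2 (Ne.symm p2))
          rw [← map_pow, ← map_one π]
          exact congrArg π (Subtype.ext ((pow_two a).trans (b.sq a (b.le0 ha)))))
        simp only [map_mul, map_inv]
        rw [h3 (mem_zpowers _) _ (mem_zpowers _)]; group))
      have h3 : π x ^ 2 ^ 2 = 1 := by
        rw [← map_pow, ← map_one π]
        exact congrArg π (Subtype.ext (Eq.trans (by simp [pow_succ, mul_assoc]) h2))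
      exact p2 ((Nat.prime_dvd_prime_iff_eq hp pr2).1 (hp.dvd_of_dvd_pow (ho ▸ orderOf_dvd_of_pow_eq_one h3)))
    obtain ⟨k, hk⟩ := h1.exists_card_eq_pow pr2
    have h2 := card_eq_card_quotient_mul_card_subgroup N
    have h3 : Nat.card (_ ⧸ N) ∣ 3 * 2 := h.elim (fun h => h ▸ Dvd.intro _ rfl) fun ⟨e⟩ => by
      rw [Nat.card_congr e.toEquiv, Nat.card_perm, Nat.card_fin]; decide
    refine Nat.le_of_dvd (by decide) (Nat.Coprime.dvd_of_dvd_mul_right (k := m) (n := 2 ^ (k + 3))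
      (Nat.Coprime.pow_right _ ((Nat.Prime.coprime_iff_not_dvd pr2).2 c2).symm) ?_)
    obtain ⟨j, hj⟩ := h3
    refine ⟨128 * j, ?_⟩
    calc 3 * 2 ^ (k + 3) = 3 * 2 * 2 ^ k * 4 := by ring
      _ = j * (128 * m) := by rw [hj, c1, cY, cH, h2, hk]; ring
      _ = _ := by ring
  · exfalso
    have h1 := H3.relIndex_dvd_card_sub_one (K := ⊥) (L := zpowers (π ⟨s, sY⟩)) (N := N)
      (le_top.trans (normal_iff_top_le_norm.1 hN)) fun x hx x1 => by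
        rcases eq_bot_or_eq_of_prime_card (c3 ▸ pr3) (inf_le_left : _ ⊓ 𝒞[x] ≤ _) with h | h
        · exact h.le
        have h2 := orderOf_dvd_of_mem_zpowers (hC.le (le_cent1_iff.1 (h.ge.trans inf_le_right)))
        have h3 := orderOf_dvd_of_pow_eq_one (sq x hx)
        rw [o3] at h2
        exact absurd (orderOf_eq_one_iff.1 (Nat.eq_one_of_dvd_coprimes (by decide) h2 h3)) x1
    rw [relIndex_bot_left, c3] at h1
    have := Fact.mk pr2
    obtain ⟨k, hk⟩ := IsPGroup.iff_card.1 (show IsPGroup 2 N from fun x => ⟨1, Subtype.ext (sq x x.2)⟩)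
    have h2 := card_eq_card_quotient_mul_card_subgroup N
    have h3 := two_mul_nat_card_alternatingGroup (α := Fin 5)
    rw [Nat.card_perm, Nat.card_fin, ← Nat.card_congr e.toEquiv] at h3
    norm_num [Nat.factorial] at h3
    rw [hk] at h1 h2
    rw [show Nat.card (_ ⧸ N) = 60 by omega] at h2
    rcases le_or_gt 4 k with h4 | h4
    · obtain ⟨j, rfl⟩ := Nat.exists_eq_add_of_le h4
      rw [pow_add] at h2
      omega
    · interval_cases k <;> omega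
  · have := Fact.mk (by norm_num : Nat.Prime 7)
    have h2 := S0243.result (ZMod.card 7) 2 le_rfl
    rw [← Nat.card_congr e.toEquiv, Fin.prod_univ_two] at h2
    norm_num at h2
    omega

end Cfsg.Agent.C34
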