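import Cfsg.Agent.C34.M2a
import Cfsg.Agent.C34.M2b
import Cfsg.Agent.C34.M2c

set_option autoImplicit false

namespace Cfsg.Agent.C34

open Cfsg Cfsg.Agent.H49 Subgroup

universe u

variable {G : Type u} [Group G] [Finite G] {P : Subgroup G} {y s r : G}

theorem match2 (h : Hyp G) (f : Fr P y) {A : Subgroup G} (d : Ed P s r A) {t : G} (ht : t ∈ V s) (t1 : t ≠ 1)
    (h64 : 64 ∣ Nat.card 𝒞[t]) : ∀ a ∈ A, a ≠ 1 → ∀ g : G, cj g A ≤ 𝒞[a] → cj g A = A := by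
  obtain ⟨⟨u, w, A0, Q, b⟩, tr⟩ := m2a h f d ht t1 h64
  have XN := b.m2c b.m2b
  intro a ha a1 g hg
  obtain ⟨n, hn, rfl⟩ := tr a ha a1
  rw [← cj_cent1, le_cj_iff, cj_cj] at hg
  have h1 := b.wb_128 ((cl_two b.sq).to_sup_of_normal_left' (cl_two (cl_sq_cj b.sq (n⁻¹ * g))) (hg.trans XN))
    (sup_le (le_inf b.wb_AX le_normalizer) (le_inf hg (hg.trans XN)))
  obtain ⟨x, hx, x1⟩ : ∃ x ∈ A ⊓ cj (n⁻¹ * g) A, x ≠ 1 := by
    by_contra! h2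
    rw [card_sup_of_disjoint (Or.inr (hg.trans XN)) ((eq_bot_iff_forall _).2 h2), card_cj, b.cA] at h1
    omega
  obtain ⟨n2, hn2, e2⟩ := tr x hx.1 x1
  obtain ⟨n1, hn1, e1⟩ := tr _ (mem_cj.1 hx.2) fun e => x1 (by
    calc x = n⁻¹ * g * ((n⁻¹ * g)⁻¹ * x * (n⁻¹ * g)) * (n⁻¹ * g)⁻¹ := by group
      _ = 1 := by rw [e]; group)
  have h3 : n2⁻¹ * (n⁻¹ * g) * n1 ∈ 𝒞[t] := mem_cent1.2 (by
    calc _ = n2⁻¹ * (n⁻¹ * g) * (n1 * t * n1⁻¹) * n1 := by group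
      _ = n2⁻¹ * x * (n⁻¹ * g) * n1 := by rw [← e1]; group
      _ = _ := by rw [e2]; group)
  have h4 := XN h3
  rw [mul_mem_cancel_right hn1, mul_mem_cancel_left (inv_mem hn2), mul_mem_cancel_left (inv_mem hn)] at h4
  exact cj_eq_of_mem_norm h4

end Cfsg.Agent.C34
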