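import Cfsg.Agent.C34.Cl

set_option autoImplicit false

namespace Cfsg.Agent.C34

open Cfsg Cfsg.Agent.H49 Subgroup

universe u

variable {G : Type u} [Group G] [Finite G] {P : Subgroup G} {y s r u : G}

/-- the data of the path case -/
structure Pth (P : Subgroup G) (y s u : G) : Prop where
  h : Hyp G
  f : Fr P y
  hs : s ∈ P
  s1 : s ≠ 1
  hu : u ∈ P
  us : u ∉ zpowers s
  ur : u ∉ zpowers (y * s * y⁻¹)
  h1 : V s ≠ ⊥
  h3 : V u ≠ ⊥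
  e12 : V (y * s * y⁻¹) ≤ 𝒞(V s)
  e13 : V u ≤ 𝒞(V s)
  n14 : ¬ V (y * u * y⁻¹) ≤ 𝒞(V s)
  n34 : ¬ V (y * u * y⁻¹) ≤ 𝒞(V u)

namespace Pth

variable (d : Pth P y s u)
include d

omit [Finite G] in
theorem hr : y * s * y⁻¹ ∈ P := d.f.y_mem d.hs
omit [Finite G] in
theorem rs : y * s * y⁻¹ ∉ zpowers s := d.f.y_ind d.hs d.s1
omit [Finite G] in
theorem r1 : y * s * y⁻¹ ≠ 1 := fun e => d.rs (e ▸ one_mem _)
omit [Finite G] in
theorem u1 : u ≠ 1 := fun e => d.us (e ▸ one_mem _)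
omit [Finite G] in
theorem h2 : V (y * s * y⁻¹) ≠ ⊥ := by rw [← V_cj, Ne, cj_eq_bot_iff]; exact d.h1
omit [Finite G] in
theorem y2 : cj y (V (y * s * y⁻¹)) = V s := by rw [V_cj, d.f.V_yy d.hs]

omit [Finite G] in
theorem n23 : ¬ V u ≤ 𝒞(V (y * s * y⁻¹)) := fun e => d.n14 (by
  have := cj_mono y e
  rwa [cj_centralizer, d.y2, V_cj] at this)

omit [Finite G] in
theorem yB : y ∈ 𝒩(V s ⊔ V (y * s * y⁻¹)) := by
  rw [mem_norm_iff_cj, cj_sup, d.y2, V_cj, sup_comm]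

theorem cover {x : G} (hx : x ∈ P) (x1 : x ≠ 1) :
    V x = V s ∨ V x = V (y * s * y⁻¹) ∨ V x = V u ∨ V x = V (y * u * y⁻¹) :=
  d.f.cover' d.hs d.s1 d.hu d.us d.ur hx x1

theorem l1 : V s ≤ NN s := d.h.V_le_NN (d.f.ord d.hs d.s1)
theorem l2 : V (y * s * y⁻¹) ≤ NN s := d.f.le_NN d.h d.hs d.s1 d.h1 (d.h.V_two (d.f.ord d.hr d.r1)) d.e12
theorem l3 : V u ≤ NN s := d.f.le_NN d.h d.hs d.s1 d.h1 (d.h.V_two (d.f.ord d.hu d.u1)) d.e13

theorem com {v w : G} (hv : v ∈ V (y * s * y⁻¹)) (hw : w ∈ V u) : v * w * v⁻¹ * w⁻¹ ∈ V s :=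
  d.f.comm_mod d.h (NN_two s) (d.f.P_NN d.h d.hs) (d.f.P_V d.hs) d.l1 (norm_of_cent (NN_le s)) d.l2 d.l3
    (fun x hx x1 k => by
      rcases d.cover hx x1 with e | e | e | e
      · exact Or.inl e.le
      · exact Or.inr (Or.inl e)
      · exact Or.inr (Or.inr e)
      · exact absurd (e ▸ k.trans (NN_le s)) d.n14) hv hw

theorem n2A : V (y * s * y⁻¹) ≤ 𝒩(V s ⊔ V u) := le_norm_iff.2 fun v hv a ha => by
  obtain ⟨b, hb, w, hw, rfl⟩ := (mem_sup_of_norm_left (norm_of_cent d.e13)).1 ha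
  rw [← mul_assoc, cl_comm d.e12 hv hb,
    show b * v * w * v⁻¹ = b * (v * w * v⁻¹ * w⁻¹) * w by group]
  exact mul_mem (mem_sup_left (mul_mem hb (d.com hv hw))) (mem_sup_right hw)

theorem n3B : V u ≤ 𝒩(V s ⊔ V (y * s * y⁻¹)) := le_norm_iff.2 fun w hw a ha => by
  obtain ⟨b, hb, v, hv, rfl⟩ := (mem_sup_of_norm_left (norm_of_cent d.e12)).1 ha
  rw [← mul_assoc, cl_comm d.e13 hw hb,
    show b * w * v * w⁻¹ = b * (v * w * v⁻¹ * w⁻¹)⁻¹ * v by group]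
  exact mul_mem_sup (mul_mem hb (inv_mem (d.com hv hw))) hv

theorem N1 : NN s = V s ⊔ V (y * s * y⁻¹) ⊔ V u :=
  le_antisymm (d.f.gen d.h (d.f.P_NN d.h d.hs) (NN_two s) fun x hx x1 k => by
    rcases d.cover hx x1 with e | e | e | e
    · exact e.le.trans (le_sup_left.trans le_sup_left)
    · exact e.le.trans (le_sup_right.trans le_sup_left)
    · exact e.le.trans le_sup_right
    · exact absurd (e ▸ k.trans (NN_le s)) d.n14) (sup_le (sup_le d.l1 d.l2) d.l3)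

theorem N3 : NN u ≤ V s ⊔ V u :=
  d.f.gen d.h (d.f.P_NN d.h d.hu) (NN_two u) fun x hx x1 k => by
    rcases d.cover hx x1 with e | e | e | e
    · exact e.le.trans le_sup_left
    · exact absurd (cent_symm (e ▸ k.trans (NN_le u))) d.n23
    · exact e.le.trans le_sup_right
    · exact absurd (e ▸ k.trans (NN_le u)) d.n34

theorem dB : (V s ⊔ V (y * s * y⁻¹)) ⊓ V u = ⊥ :=
  cl_disj d.f d.h d.hs d.s1 d.hr d.rs d.e12 d.h1 d.h2 d.hu d.us d.ur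

theorem cA : Nat.card ↥(V s ⊔ V u) = 16 := cl_card2 d.f d.h d.hs d.s1 d.hu d.us d.e13 d.h1 d.h3
theorem cB : Nat.card ↥(V s ⊔ V (y * s * y⁻¹)) = 16 := cl_card2 d.f d.h d.hs d.s1 d.hr d.rs d.e12 d.h1 d.h2
theorem abA : V s ⊔ V u ≤ 𝒞(V s ⊔ V u) := cl_ab2 d.f d.h d.hs d.s1 d.hu d.us d.e13
theorem abB : V s ⊔ V (y * s * y⁻¹) ≤ 𝒞(V s ⊔ V (y * s * y⁻¹)) := cl_ab2 d.f d.h d.hs d.s1 d.hr d.rs d.e12
theorem sqA : ∀ a ∈ V s ⊔ V u, a * a = 1 := cl_sq2 d.f d.h d.hs d.s1 d.hu d.us d.e13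
theorem sqB : ∀ a ∈ V s ⊔ V (y * s * y⁻¹), a * a = 1 := cl_sq2 d.f d.h d.hs d.s1 d.hr d.rs d.e12

theorem cN : Nat.card (NN s) = 64 := by
  rw [d.N1, card_sup_of_disjoint (Or.inr d.n3B) d.dB, d.cB, d.h.V_four (d.f.ord d.hu d.u1) d.h3]

theorem AN : V s ⊔ V u ≤ NN s := sup_le d.l1 d.l3
theorem BN : V s ⊔ V (y * s * y⁻¹) ≤ NN s := sup_le d.l1 d.l2
theorem NA : NN s ≤ 𝒩(V s ⊔ V u) :=
  d.N1 ▸ sup_le (sup_le (norm_of_le le_sup_left) d.n2A) (norm_of_le le_sup_right)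
theorem NB : NN s ≤ 𝒩(V s ⊔ V (y * s * y⁻¹)) := d.N1 ▸ sup_le le_normalizer d.n3B

theorem memN {x : G} (hx : x ∈ NN s) : ∃ a ∈ V s, ∃ b ∈ V (y * s * y⁻¹), ∃ c ∈ V u, x = a * b * c := by
  obtain ⟨k, hk, c, hc, rfl⟩ := (mem_sup_of_norm_left d.n3B).1 (d.N1 ▸ hx)
  obtain ⟨a, ha, b, hb, rfl⟩ := (mem_sup_of_norm_left (norm_of_cent d.e12)).1 hk
  exact ⟨a, ha, b, hb, c, hc, rfl⟩

theorem nc {b c : G} (hb : b ∈ V (y * s * y⁻¹)) (hc : c ∈ V u) (e : b * c = c * b) : b = 1 ∨ c = 1 := by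
  by_contra k
  push Not at k
  exact d.n23 (d.f.pair d.h d.hr d.r1 d.hu d.ur hb k.1 hc k.2 e)

theorem invN {x : G} (hx : x ∈ NN s) (x2 : x * x = 1) : x ∈ V s ⊔ V u ∨ x ∈ V s ⊔ V (y * s * y⁻¹) := by
  obtain ⟨a, ha, b, hb, c, hc, rfl⟩ := d.memN hx
  have a2 := d.h.V_sq (d.f.ord d.hs d.s1) ha
  have b2 := d.h.V_sq (d.f.ord d.hr d.r1) hb
  have c2 := d.h.V_sq (d.f.ord d.hu d.u1) hc
  have k := cl_comm (NN_le s) (mul_mem (d.l2 hb) (d.l3 hc)) ha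
  rw [show a * b * c * (a * b * c) = a * (b * c * a) * (b * c) by group, k, ← mul_assoc a a, a2, one_mul] at x2
  have e : b * c = c * b := by
    rw [eq_inv_of_mul_eq_one_left x2, mul_inv_rev, inv_eq_of_mul_eq_one_right b2,
      inv_eq_of_mul_eq_one_right c2]
  rcases d.nc hb hc e with rfl | rfl
  · exact Or.inl (by rw [mul_one]; exact mul_mem_sup ha hc)
  · exact Or.inr (by rw [mul_one]; exact mul_mem_sup ha hb)

theorem zN : y * y ∈ 𝒩(NN s) := norm_NN s (d.f.z_V d.hs)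
omit [Finite G] in
theorem zA : y * y ∈ 𝒩(V s ⊔ V u) := by
  rw [mem_norm_iff_cj, cj_sup, cj_eq_of_mem_norm (d.f.z_V d.hs), cj_eq_of_mem_norm (d.f.z_V d.hu)]
omit [Finite G] in
theorem zB : y * y ∈ 𝒩(V s ⊔ V (y * s * y⁻¹)) := mul_mem d.yB d.yB
theorem z2 : y * y * (y * y) ∈ NN s := d.f.y4 ▸ one_mem _

/-- involutions of the outer coset -/
theorem out {x : G} (hx : x ∈ NN s ⊔ zpowers (y * y)) (xN : x ∉ NN s) (x2 : x * x = 1) :
    ∃ m ∈ NN s, m * x * m⁻¹ = y * y := by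
  have k := (cl_mem_sup d.zN d.z2 hx).resolve_left xN
  obtain ⟨a, ha, b, hb, c, hc, e⟩ := d.memN k
  have ex : x = a * b * c * (y * y) := by rw [← e, mul_assoc x, d.f.y4, mul_one]
  have o1 := d.f.ord d.hs d.s1
  have o2 := d.f.ord d.hr d.r1
  have o3 := d.f.ord d.hu d.u1
  have sq : ∀ v w : G, v * x * v⁻¹ = w → w * w = 1 := fun v w e => by
    rw [← e, show v * x * v⁻¹ * (v * x * v⁻¹) = v * (x * x) * v⁻¹ by group, x2]; group
  obtain ⟨v1, h1, k1, hk1, e1⟩ := coset_step (t := 1) d.n3B d.zB (d.f.z_V d.hu) d.dB d.f.y4 (d.h.V_ab o3)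
    (fun _ => d.h.V_sq o3) (fun _ => d.f.z_surj d.h d.hu d.u1) (mul_mem_sup ha hb) hc (ex ▸ x2)
  rw [← ex] at e1
  obtain ⟨a, ha, b, hb, rfl⟩ := (mem_sup_of_norm_left (norm_of_cent d.e12)).1 hk1
  obtain ⟨v2, h2, k2, hk2, e2⟩ := coset_step (t := 1) (norm_of_cent d.e12) (d.f.z_V d.hs) (d.f.z_V d.hr)
    (cl_inf d.f d.h d.hs d.s1 d.hr d.rs) d.f.y4 (d.h.V_ab o2) (fun _ => d.h.V_sq o2)
    (fun _ => d.f.z_surj d.h d.hr d.r1) ha hb (sq _ _ e1)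
  have e3 : v2 * v1 * x * (v2 * v1)⁻¹ = 1 * k2 * (y * y) := by rw [one_mul, ← e2, ← e1]; group
  obtain ⟨v3, h3, k3, hk3, e4⟩ := coset_step (t := 1) (K := ⊥) (le_norm_bot _) (le_norm_bot ⊤ (mem_top _)) (d.f.z_V d.hs)
    (bot_inf_eq _) d.f.y4 (d.h.V_ab o1) (fun _ => d.h.V_sq o1) (fun _ => d.f.z_surj d.h d.hs d.s1)
    (one_mem _) hk2 (sq _ _ e3)
  refine ⟨v3 * (v2 * v1), mul_mem (d.l1 h3) (mul_mem (d.l2 h2) (d.l3 h1)), ?_⟩
  rw [mem_bot.1 hk3, ← e3, one_mul] at e4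
  rw [← e4]; group

theorem nA : 𝒩(V s ⊔ V u) ≤ 𝒩(V s) := by
  refine d.f.st d.h (norm_sup (d.f.P_V d.hs) (d.f.P_V d.hu)) (fun n nA nP => ?_) (d.f.P_V d.hs)
    (d.f.z_V d.hs) fun x hx x1 k => norm_of_cent ?_
  · rcases cl_sub4 d.f d.h d.hs d.s1 d.hu d.us d.e13 d.h1 d.h3 (W := cj n (V s))
      (V_cj n s ▸ d.f.P_V (cl_norm nP d.hs)) (cj_le_of_mem_norm le_sup_left nA)
      (by rw [card_cj, d.h.V_four (d.f.ord d.hs d.s1) d.h1]) with k | k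
    · exact d.f.idxV d.h nP d.hs d.s1 d.h1 (mem_norm_iff_cj.2 k)
    · have e : cj n (NN s) = NN u := by rw [NN_cj, NN, ← V_cj, k, NN]
      have := card_le_of_le d.N3
      rw [← e, card_cj, d.cN, d.cA] at this
      omega
  · rcases d.cover hx x1 with e | e | e | e
    · exact e.le.trans (d.h.V_ab (d.f.ord d.hs d.s1))
    · exact e ▸ d.e12
    · exact e ▸ d.e13
    · exact ((cl_nrm d.f d.h d.hs d.s1 d.hu d.us d.e13 d.h1 hx x1 k).elim (fun k => d.n14 (e ▸ k))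
        fun k => d.n34 (e ▸ k)).elim

theorem S2 : IsPGroup 2 ↥(NN s ⊔ zpowers (y * y)) :=
  (NN_two s).to_sup_of_normal_left' (IsPGroup.of_card_dvd_pow (n := 1) (by
    rw [Nat.card_zpowers]; exact orderOf_dvd_of_pow_eq_one (by rw [pow_one, pow_two, d.f.y4])))
    (zpowers_le.2 d.zN)

theorem SA : NN s ⊔ zpowers (y * y) ≤ 𝒩(V s ⊔ V u) := sup_le d.NA (zpowers_le.2 d.zA)
theorem SB : NN s ⊔ zpowers (y * y) ≤ 𝒩(V s ⊔ V (y * s * y⁻¹)) := sup_le d.NB (zpowers_le.2 d.zB)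

theorem syl : IsSylowOf 2 (NN s ⊔ zpowers (y * y)) 𝒩(V s) := by
  have k := d.SA.trans d.nA
  refine (sylowOf_iff pr2).2 ⟨k, d.S2, fun e => ?_⟩
  have hp : IsProd (NN s ⊔ zpowers (y * y)) P 𝒩(V s) := by
    refine ⟨k, d.f.P_V d.hs, fun g hg => ?_⟩
    obtain ⟨n, hn, p, hp, e | e⟩ := d.f.mem_NV d.h d.hs d.s1 d.h1 hg
    · exact ⟨n, mem_sup_left hn, p, hp, e⟩
    · exact ⟨n * (y * y), mul_mem_sup hn (mem_zpowers _), _, cl_norm' (mul_mem d.f.ny d.f.ny) hp,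
        by rw [e]; group⟩
  rw [← hp.symm.relIndex_eq] at e
  have := e.trans (relIndex_dvd_card _ _)
  rw [d.f.card] at this
  omega

theorem cls {F : Subgroup G} (hF : F ≤ NN s ⊔ zpowers (y * y)) (ab : F ≤ 𝒞(F)) (sq : ∀ a ∈ F, a * a = 1)
    (c : Nat.card F = 16) : F = V s ⊔ V u ∨ F = V s ⊔ V (y * s * y⁻¹) := by
  have k := le_or_le (E := F ⊓ NN s) fun x hx => d.invN hx.2 (sq x hx.1)
  by_cases h0 : F ≤ NN s
  · rw [inf_eq_left.2 h0] at k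
    exact k.imp (fun k => eq_of_le_of_card_eq k (c.trans d.cA.symm))
      fun k => eq_of_le_of_card_eq k (c.trans d.cB.symm)
  obtain ⟨x, hx, xN⟩ := SetLike.not_le_iff_exists.1 h0
  obtain ⟨m, hm, e⟩ := d.out (hF hx) xN (sq x hx)
  have k1 := cl_card_two (cl_out d.zN d.z2 hF)
  have k2 : F ⊓ NN s ≤ 𝒞[x] := inf_le_left.trans (ab.trans (cent_le_cent1 hx))
  rcases k with k | k
  · have k3 := cl_fixz d.f d.h d.hs d.s1 d.hu d.us d.e13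
    rw [← e, ← cj_eq_of_mem_norm (d.NA hm), cl_fix_cj] at k3
    have := (card_le_of_le (le_inf k k2)).trans k3
    omega
  · have k3 := cl_fixz d.f d.h d.hs d.s1 d.hr d.rs d.e12
    rw [← e, ← cj_eq_of_mem_norm (d.NB hm), cl_fix_cj] at k3
    have := (card_le_of_le (le_inf k k2)).trans k3
    omega

theorem nAB (g : G) : cj g (V s ⊔ V u) ≠ V s ⊔ V (y * s * y⁻¹) := fun e => by
  have k : 𝒩(V s ⊔ V (y * s * y⁻¹)) ≤ 𝒩(cj g (V s)) := by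
    rw [← e, ← cj_normalizer, ← cj_normalizer]; exact cj_mono g d.nA
  have ne := d.f.V_ne d.h d.hs d.s1 d.hr d.rs d.h1
  have k2 := cj_eq_of_mem_norm (k d.yB)
  rcases cl_sub4 d.f d.h d.hs d.s1 d.hr d.rs d.e12 d.h1 d.h2
    ((norm_sup (d.f.P_V d.hs) (d.f.P_V d.hr)).trans k) (e ▸ cj_mono g le_sup_left)
    (by rw [card_cj, d.h.V_four (d.f.ord d.hs d.s1) d.h1]) with k3 | k3
  · rw [k3, V_cj] at k2; exact ne k2
  · rw [k3, d.y2] at k2; exact ne k2.symm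

theorem wcS (g : G) (hg : cj g (V s ⊔ V u) ≤ NN s ⊔ zpowers (y * y)) : cj g (V s ⊔ V u) = V s ⊔ V u :=
  (d.cls hg (cl_ab_cj d.abA g) (cl_sq_cj d.sqA g) (by rw [card_cj, d.cA])).resolve_right (d.nAB g)

theorem sylG : IsSylowOf 2 (NN s ⊔ zpowers (y * y)) ⊤ :=
  wc_sylow d.wcS (d.AN.trans le_sup_left) (d.syl.sub d.SA d.nA)

theorem wc (g : G) (hg : cj g (V s ⊔ V u) ≤ 𝒩(V s ⊔ V u)) : cj g (V s ⊔ V u) = V s ⊔ V u := by
  obtain ⟨m, hm, e⟩ := sylowOf_subJ (d.syl.sub d.SA d.nA) hg ((isPi_of_isPGroup pr2 (cl_two d.sqA)).cj g)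
  rw [cj_cj] at e
  have := d.wcS _ e
  rw [cj_mul, cj_eq_iff] at this
  rw [this, cj_eq_of_mem_norm (inv_mem hm)]

theorem small {x : G} (hx : x ∈ V s ⊔ V u) (x1 : x ∉ V s) : ¬ 64 ∣ Nat.card 𝒞[x] := fun e => by
  obtain ⟨T, hT, AT⟩ := exists_sylowOf_ge (isPi_of_isPGroup pr2 (cl_two d.sqA))
    (d.abA.trans (cent_le_cent1 hx))
  have T2 := hT.pi.isPGroup pr2
  have k1 := (wc_two (X := ⊤) (fun g _ => d.wc g) T2 le_top AT).trans d.nA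
  obtain ⟨m, hm, k2⟩ := sylowOf_subJ d.syl k1 hT.pi
  have k3 := cl_card_two (cl_out d.zN d.z2 k2)
  rw [card_cj, ← cj_eq_of_mem_norm (norm_NN s hm), ← cj_inf, card_cj] at k3
  have k4 : T ⊓ NN s ≤ V s ⊔ V u := fun t ht => by
    obtain ⟨a, ha, b, hb, c, hc, rfl⟩ := d.memN ht.2
    obtain ⟨a', ha', c', hc', rfl⟩ := (mem_sup_of_norm_left (norm_of_cent d.e13)).1 hx
    have q1 := mem_cent1.1 (hT.le ht.1)
    have q2 := cl_comm d.abA (mul_mem_sup ha hc) hx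
    have q3 := cl_comm d.e12 hb ha
    have q4 := cl_comm d.e12 hb ha'
    have q5 : b * (a' * c') = a' * c' * b := by
      rw [← q3, mul_assoc b, mul_assoc b, q2, ← mul_assoc, ← mul_assoc (a' * c')] at q1
      exact mul_right_cancel q1
    rw [← mul_assoc, q4, mul_assoc, mul_assoc] at q5
    rcases d.nc hb hc' (mul_left_cancel q5) with rfl | rfl
    · rw [mul_one]; exact mul_mem_sup ha hc
    · exact absurd (by rwa [mul_one]) x1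
  have k5 := card_le_of_le k4
  rw [← card_mul_relIndex hT.le] at e
  have k6 : 64 ∣ Nat.card T := Nat.Coprime.dvd_of_dvd_mul_right (Nat.Coprime.pow_left 6
    ((Nat.Prime.coprime_iff_not_dvd pr2).2 ((sylowOf_iff pr2).1 hT).2.2)) e
  have := Nat.le_of_dvd (card_pos' T) k6
  rw [d.cA] at k5
  omega

theorem big {x : G} (hx : x ∈ V s ⊔ V (y * s * y⁻¹)) : 64 ∣ Nat.card 𝒞[x] := by
  obtain ⟨a, ha, b, hb, rfl⟩ := (mem_sup_of_norm_left (norm_of_cent d.e12)).1 hx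
  by_cases b1 : b = 1
  · rw [b1, mul_one, ← d.cN]
    exact card_dvd_of_le ((NN_le s).trans (cent_le_cent1 ha))
  have k1 : (V s ⊔ V u) ⊓ 𝒞[b] ≤ V s := fun t ht => by
    obtain ⟨a', ha', c', hc', rfl⟩ := (mem_sup_of_norm_left (norm_of_cent d.e13)).1 ht.1
    have q1 := mem_cent1.1 ht.2
    rw [← mul_assoc, cl_comm d.e12 hb ha', mul_assoc, mul_assoc] at q1
    rw [(d.nc hb hc' (mul_left_cancel q1).symm).resolve_left b1, mul_one]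
    exact ha'
  have k2 := card_le_of_le k1
  rw [d.h.V_four (d.f.ord d.hs d.s1) d.h1] at k2
  obtain ⟨t, -, e⟩ := comm_surj d.abA d.sqA (d.n2A hb) (d.h.V_sq (d.f.ord d.hr d.r1) hb ▸ one_mem _)
    (by rw [d.cA]; exact Nat.pow_le_pow_left k2 2) (u := a)
    ⟨mem_sup_left ha, mem_cent1.2 (cl_comm d.e12 hb ha).symm⟩
  rw [← e, inv_mul_cancel_right, cl_card_cent, ← d.cN, ← card_cj y, NN_cj]
  exact card_dvd_of_le ((NN_le _).trans (cent_le_cent1 hb))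

theorem smallz : ¬ 64 ∣ Nat.card 𝒞[y * y] := by
  obtain ⟨m, hm, k⟩ := sylowOf_subJ (d.sylG.sub d.SB le_top) (zpowers_le.2 d.yB)
    (isPi_of_isPGroup pr2 (IsPGroup.of_card_dvd_pow (n := 2) (by
      rw [Nat.card_zpowers]
      exact orderOf_dvd_of_pow_eq_one (by rw [← d.f.y4]; norm_num [pow_succ, mul_assoc]))))
  have k1 := k (conj_mem_cj.2 (mem_zpowers y))
  have k2 : m * y * m⁻¹ * (m * y * m⁻¹) ∈ NN s := by
    by_cases k3 : m * y * m⁻¹ ∈ NN s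
    · exact mul_mem k3 k3
    · exact cl_out d.zN d.z2 le_rfl _ k1 _ k1 k3 k3
  rw [show m * y * m⁻¹ * (m * y * m⁻¹) = m * (y * y) * m⁻¹ by group] at k2
  have k4 : m * (y * y) * m⁻¹ ∉ V s ⊔ V (y * s * y⁻¹) := fun e => by
    have := cl_norm' hm e
    rw [show m⁻¹ * (m * (y * y) * m⁻¹) * m = y * y by group] at this
    exact cl_z_cent d.f d.h d.hs d.s1 d.h1 (NN_le s (d.BN this))
  have k5 := (d.invN k2 (by
    rw [show m * (y * y) * m⁻¹ * (m * (y * y) * m⁻¹) = m * (y * y * (y * y)) * m⁻¹ by group, d.f.y4]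
    group)).resolve_right k4
  rw [← cl_card_cent m]
  exact d.small k5 fun e => k4 (mem_sup_left e)

end Pth

theorem path (c : Ctx G) (f : Fr P y) (hs : s ∈ P) (s1 : s ≠ 1) (hu : u ∈ P) (us : u ∉ zpowers s)
    (ur : u ∉ zpowers (y * s * y⁻¹)) (h1 : V s ≠ ⊥) (h3 : V u ≠ ⊥) (e12 : V (y * s * y⁻¹) ≤ 𝒞(V s))
    (e13 : V u ≤ 𝒞(V s)) (n14 : ¬ V (y * u * y⁻¹) ≤ 𝒞(V s)) (n34 : ¬ V (y * u * y⁻¹) ≤ 𝒞(V u)) :
    False := by
  have d : Pth P y s u := ⟨c.hyp, f, hs, s1, hu, us, ur, h1, h3, e12, e13, n14, n34⟩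
  refine c.no_sc (f.ord hs s1) h1 d.sylG (d.BN.trans le_sup_left) (ne_bot_mono le_sup_left h1) d.abB d.sqB
    fun x hx x2 g hg => by_contra fun xB => ?_
  have k : 64 ∣ Nat.card 𝒞[x] := by
    obtain ⟨b, hb, rfl⟩ := mem_cj'.1 hg
    rw [cl_card_cent]; exact d.big hb
  by_cases xN : x ∈ NN s
  · exact d.small ((d.invN xN x2).resolve_right xB) (fun e => xB (mem_sup_left e)) k
  · obtain ⟨m, -, e⟩ := d.out hx xN x2
    exact d.smallz (by rwa [← e, cl_card_cent])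

end Cfsg.Agent.C34
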